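import Mathlib

/-!
# OMEGA, (BT), `|V/E| = 2`: a symmetric form and `|R_z| ≥ 4` give (+)

Text: helper276, bb #14522 (replaces (P0)-(P5) of THEOREM BT4, helper318, bb #14336).

`V` a finite `F_2`-space with a nondegenerate alternating form invariant under `Y`, `Y` faithful;
`T` a Sylow 2-subgroup with `C_V(T) = {0, z}`, `M` the unique maximal subgroup over `T`,
`Om = z^Y` spans `V`, `R x` the group of the elements fixing `x` and acting on `x^⊥ / x`
trivially, `|R z| ≥ 4`, `C_V(R z) ∩ Om = {z}` (DO), no transvections (NT), no four-group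
`⟨t_y t_{x+y}, t_x t_{x+y}⟩` (NF).  Result `Data.plus` = (+):
every `g` with `b z (g z) = 0` lies in `M`.
-/

namespace Cfsg.Agent.Omega.NearFF.SymPlus

open scoped Pointwise

section Basic

variable {V : Type*} [AddCommGroup V] [Module (ZMod 2) V]

theorem z2 (c : ZMod 2) : c = 0 ∨ c = 1 := by revert c; decide

theorem add_self' (v : V) : v + v = 0 := ZModModule.add_self v

theorem one_one : (1 : ZMod 2) + 1 = 0 := by decide

theorem add_cancel (u v : V) : u + (u + v) = v := by
  rw [← add_assoc, add_self', zero_add]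

theorem eq_of_add (u v : V) (h : u + v = 0) : u = v := by
  have := congrArg (· + v) h
  simpa [add_assoc, add_self'] using this

/-- an alternating nondegenerate form over `F_2`, values only -/
structure Frm (V : Type*) [AddCommGroup V] [Module (ZMod 2) V] where
  b : V → V → ZMod 2
  add_left : ∀ u v w, b (u + v) w = b u w + b v w
  symm : ∀ u v, b u v = b v u
  alt : ∀ v, b v v = 0
  nondeg : ∀ v, (∀ w, b v w = 0) → v = 0

variable (F : Frm V)

namespace Frm

theorem add_right (u v w : V) : F.b u (v + w) = F.b u v + F.b u w := by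
  rw [F.symm, F.add_left, F.symm v, F.symm w]

theorem zero_left (w : V) : F.b 0 w = 0 := by
  have := F.add_left 0 0 w
  simpa using this

theorem zero_right (w : V) : F.b w 0 = 0 := by rw [F.symm, F.zero_left]

theorem smul_left (c : ZMod 2) (v w : V) : F.b (c • v) w = c * F.b v w := by
  rcases z2 c with rfl | rfl
  · simp [F.zero_left]
  · simp

theorem smul_right (c : ZMod 2) (v w : V) : F.b v (c • w) = c * F.b v w := by
  rw [F.symm, F.smul_left, F.symm]

/-- `v ↦ v + b(x,v) w + (b(w,v) + k b(x,v)) x` -/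
def sig (x w : V) (k : ZMod 2) (v : V) : V :=
  v + F.b x v • w + (F.b w v + k * F.b x v) • x

theorem sig_comp {x w w' : V} (k k' : ZMod 2) (h : F.b x w = 0) (h' : F.b x w' = 0) (v : V) :
    F.sig x w k (F.sig x w' k' v) = F.sig x (w + w') (k + k' + F.b w w') v := by
  have hw : F.b w x = 0 := by rw [F.symm, h]
  unfold sig
  simp only [F.add_left, F.add_right, F.smul_right, h', hw, F.alt]
  match_scalars <;> ring_nf

theorem sig_shift (x w : V) (k : ZMod 2) (v : V) :
    F.sig x (w + x) k v = F.sig x w k v := by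
  unfold sig
  rw [F.add_left]
  rcases z2 (F.b x v) with h | h <;> rcases z2 (F.b w v) with h' | h' <;>
    rcases z2 k with rfl | rfl <;> simp [h, h', one_one] <;> abel_nf <;>
    simp [two_smul, add_self']

theorem sig_swap (x w : V) (v : V) : F.sig x w 0 v = F.sig w x 0 v := by
  unfold sig
  simp only [zero_mul, add_zero]
  abel

theorem exists_far {x : V} (hx : x ≠ 0) : ∃ v, F.b x v = 1 := by
  by_contra h
  push Not at h
  exact hx (F.nondeg x fun w => (z2 _).resolve_right (h w))

end Frm
end Basic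

section Act

variable {Y V : Type*} [Group Y] [AddCommGroup V] [Module (ZMod 2) V] [DistribMulAction Y V]

theorem smul_zmod (g : Y) (c : ZMod 2) (x : V) : g • (c • x) = c • (g • x) := by
  rcases z2 c with rfl | rfl <;> simp

/-- an invariant form, faithful action -/
structure IFrm (Y V : Type*) [Group Y] [AddCommGroup V] [Module (ZMod 2) V]
    [DistribMulAction Y V] extends Frm V where
  inv : ∀ (g : Y) (v w : V), b (g • v) (g • w) = b v w
  faith : ∀ g : Y, (∀ v : V, g • v = v) → g = 1

namespace IFrm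

variable (F : IFrm Y V)

theorem inv' (g : Y) (v w : V) : F.b (g⁻¹ • v) w = F.b v (g • w) := by
  rw [← F.inv g (g⁻¹ • v) w, smul_inv_smul]

/-- the group `R_x` of the elements fixing `x` and acting on `x^⊥` modulo `x` trivially -/
def R (x : V) : Subgroup Y where
  carrier := {r | r • x = x ∧ ∀ u, F.b x u = 0 → r • u = u ∨ r • u = u + x}
  one_mem' := ⟨one_smul _ _, fun u _ => Or.inl (one_smul _ _)⟩
  mul_mem' := by
    rintro r s ⟨hr, hr'⟩ ⟨hs, hs'⟩
    refine ⟨by rw [mul_smul, hs, hr], fun u hu => ?_⟩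
    rcases hs' u hu with h | h <;> rcases hr' u hu with h' | h' <;>
      simp [mul_smul, h, h', hr, add_assoc, add_self']
  inv_mem' := by
    rintro r ⟨hr, hr'⟩
    refine ⟨by rw [inv_smul_eq_iff, hr], fun u hu => ?_⟩
    have h1 : F.b x (r⁻¹ • u) = 0 := by
      rw [F.symm, F.inv', hr, F.symm, hu]
    rcases hr' _ h1 with h | h
    · left; rw [smul_inv_smul] at h; exact h.symm
    · right
      rw [smul_inv_smul] at h
      rw [h, add_assoc, add_self', add_zero, ← h]

theorem mem_R {x : V} {r : Y} :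
    r ∈ F.R x ↔ r • x = x ∧ ∀ u, F.b x u = 0 → r • u = u ∨ r • u = u + x := Iff.rfl

/-- `g` acts as `sig x w k` -/
def Acts (g : Y) (x w : V) (k : ZMod 2) : Prop := ∀ v, g • v = F.sig x w k v

theorem acts_mul {r r' : Y} {x w w' : V} {k k' : ZMod 2} (h : F.b x w = 0) (h' : F.b x w' = 0)
    (hr : F.Acts r x w k) (hr' : F.Acts r' x w' k') :
    F.Acts (r * r') x (w + w') (k + k' + F.b w w') := by
  intro v
  rw [mul_smul, hr' v, hr, F.sig_comp k k' h h']

theorem acts_conj {r : Y} {x w : V} {k : ZMod 2} (g : Y) (hr : F.Acts r x w k) :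
    F.Acts (g * r * g⁻¹) (g • x) (g • w) k := by
  intro v
  rw [mul_smul, mul_smul, hr]
  unfold Frm.sig
  rw [smul_add, smul_add, smul_zmod, smul_zmod, smul_inv_smul]
  rw [← F.inv g x, ← F.inv g w, smul_inv_smul]

theorem acts_shift {r : Y} {x w : V} {k : ZMod 2} :
    F.Acts r x (w + x) k ↔ F.Acts r x w k := by
  unfold Acts
  simp only [F.sig_shift]

theorem acts_swap {r : Y} {x w : V} : F.Acts r x w 0 ↔ F.Acts r w x 0 := by
  unfold Acts
  exact forall_congr' fun v => by rw [F.sig_swap]

theorem R_of_acts {r : Y} {x w : V} {k : ZMod 2} (h : F.b x w = 0) (hr : F.Acts r x w k) :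
    r ∈ F.R x := by
  rw [mem_R]
  constructor
  · rw [hr]
    simp [Frm.sig, F.alt, F.symm w x, h]
  · intro u hu
    rw [hr]
    rcases z2 (F.b w u) with h' | h' <;> simp [Frm.sig, hu, h']

theorem acts_of_R {r : Y} {x : V} (hx : x ≠ 0) (hr : r ∈ F.R x) :
    ∃ w k, F.b x w = 0 ∧ F.Acts r x w k := by
  obtain ⟨hrx, hru⟩ := hr
  obtain ⟨v0, hv0⟩ := F.exists_far hx
  have hw : F.b x (r • v0 + v0) = 0 := by
    rw [F.add_right, hv0]
    nth_rw 1 [← hrx]
    rw [F.inv, hv0]; exact one_one
  -- on x^perp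
  have hperp : ∀ u, F.b x u = 0 → r • u = u + F.b (r • v0 + v0) u • x := by
    intro u hu
    have h1 : F.b (r • v0) (r • u) = F.b v0 u := F.inv _ _ _
    have h2 : F.b (r • v0) x = 1 := by
      nth_rw 1 [← hrx]
      rw [F.inv, F.symm, hv0]
    rw [F.add_left]
    rcases hru u hu with h | h
    · rw [h] at h1
      rw [h, h1]
      simp [← two_mul, show (2 : ZMod 2) = 0 from rfl]
    · rw [h, F.add_right, h2] at h1
      rw [h, ← h1]
      rcases z2 (F.b (r • v0) u) with h3 | h3 <;> simp [h3, one_one]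
  refine ⟨r • v0 + v0, F.b (r • v0 + v0) v0, hw, fun v => ?_⟩
  unfold Frm.sig
  rcases z2 (F.b x v) with h | h
  · rw [hperp v h, h]; simp
  · have h1 : F.b x (v + v0) = 0 := by rw [F.add_right, h, hv0]; exact one_one
    have h2 := hperp _ h1
    have h3 : r • v = r • (v + v0) + r • v0 := by
      rw [smul_add, add_assoc, add_self', add_zero]
    rw [h3, h2, h, F.add_right]
    simp only [one_smul, mul_one]
    abel_nf

theorem R_conj {x : V} {r : Y} (g : Y) (hr : r ∈ F.R x) : g * r * g⁻¹ ∈ F.R (g • x) := by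
  obtain ⟨h1, h2⟩ := hr
  refine ⟨by rw [mul_smul, mul_smul, inv_smul_smul, h1], fun u hu => ?_⟩
  have hu' : F.b x (g⁻¹ • u) = 0 := by rw [F.symm, F.inv', F.symm, hu]
  rcases h2 _ hu' with h | h
  · left; rw [mul_smul, mul_smul, h, smul_inv_smul]
  · right; rw [mul_smul, mul_smul, h, smul_add, smul_inv_smul]

theorem R_smul {x : V} {r : Y} (hx : x ≠ 0) (hr : r ∈ F.R x) : r * r = 1 := by
  obtain ⟨w, k, h, hr⟩ := F.acts_of_R hx hr
  apply F.faith
  intro v
  rw [F.acts_mul h h hr hr]
  simp [Frm.sig, add_self', F.zero_left, F.alt]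

theorem R_two {x : V} (hx : x ≠ 0) : IsPGroup 2 (F.R x) := by
  intro g
  refine ⟨1, ?_⟩
  ext
  simpa [pow_two] using F.R_smul hx g.2

/-- freeness outside the hyperplane -/
theorem R_free {x u : V} (hx : x ≠ 0) (hu : F.b x u = 1) {r : Y} (hr : r ∈ F.R x)
    (h : r • u = u) : r = 1 := by
  obtain ⟨w, k, hw, hr⟩ := F.acts_of_R hx hr
  rw [hr] at h
  have h1 : w + (F.b w u + k) • x = 0 := by
    unfold Frm.sig at h
    rw [hu, one_smul, mul_one, add_assoc] at h
    simpa using h
  apply F.faith
  have hwx := eq_of_add _ _ h1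
  intro v
  rw [hr]
  unfold Frm.sig
  rcases z2 (F.b w u + k) with h2 | h2
  · rw [h2] at hwx
    have hw0 : w = 0 := by simpa using hwx
    subst hw0
    rw [F.zero_left, zero_add] at h2
    simp [F.zero_left, h2]
  · rw [h2, one_smul] at hwx
    subst hwx
    rw [hu] at h2
    have : k = 0 := by simpa using h2
    subst this
    simp [add_assoc, ← add_smul, ← two_mul, show (2 : ZMod 2) = 0 from rfl]

end IFrm

/-- the line `{x, y, x + y}` -/
def line (x y : V) : Set V := {x, y, x + y}

omit [Module (ZMod 2) V] in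
theorem mem_line {x y v : V} : v ∈ line x y ↔ v = x ∨ v = y ∨ v = x + y := Iff.rfl

omit [Module (ZMod 2) V] in
theorem smul_line (g : Y) (x y : V) : g • line x y = line (g • x) (g • y) := by
  unfold line
  rw [Set.smul_set_insert, Set.smul_set_insert, Set.smul_set_singleton, smul_add]

omit [Module (ZMod 2) V] in
theorem line_comm (x y : V) : line x y = line y x := by
  ext v; simp only [mem_line, add_comm x y]; tauto

theorem line_add (x y : V) : line x y = line x (x + y) := by
  ext v; simp only [mem_line, add_cancel]; tauto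

/-- the hypotheses: `f` is a symplectic form -/
structure Data (Y V : Type*) [Group Y] [AddCommGroup V] [Module (ZMod 2) V]
    [DistribMulAction Y V] extends IFrm Y V where
  z : V
  z_ne : z ≠ 0
  span : AddSubgroup.closure (MulAction.orbit Y z) = (⊤ : AddSubgroup V)
  T : Subgroup Y
  M : Subgroup Y
  T_two : IsPGroup 2 T
  T_max : ∀ Q : Subgroup Y, IsPGroup 2 Q → T ≤ Q → Q = T
  T_fix : ∀ t ∈ T, t • z = z
  T_only : ∀ v : V, (∀ t ∈ T, t • v = v) → v = 0 ∨ v = z
  M_only : ∀ H : Subgroup Y, T ≤ H → H ≠ ⊤ → H ≤ M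
  card4 : 4 ≤ Nat.card (toIFrm.R z)
  DO : ∀ y ∈ MulAction.orbit Y z, (∀ r ∈ toIFrm.R z, r • y = y) → y = z
  NT : ∀ (g : Y) (x : V), x ≠ 0 → ¬ ∀ v, g • v = v + b v x • x
  NF : ∀ (g h : Y) (x y : V), x ≠ 0 → y ≠ 0 → x ≠ y → b x y = 0 →
    (∀ v, g • v = v + b v y • y + b v (x + y) • (x + y)) →
    ¬ ∀ v, h • v = v + b v x • x + b v (x + y) • (x + y)

/-- parity -/
theorem exists_fix {α : Type*} [MulAction Y α] (X : Set α) (hX : X.Finite) (P Q : Subgroup Y)
    (hP : IsPGroup 2 P) (hQ : IsPGroup 2 Q) (hPX : ∀ g ∈ P, ∀ x ∈ X, g • x ∈ X)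
    (hQX : ∀ g ∈ Q, ∀ x ∈ X, g • x ∈ X) (x0 : α) (hx0 : x0 ∈ X) (h0 : ∀ g ∈ P, g • x0 = x0)
    (hu : ∀ x ∈ X, (∀ g ∈ P, g • x = x) → x = x0) : ∃ x ∈ X, ∀ g ∈ Q, g • x = x := by
  classical
  let SP : SubMulAction P α := ⟨X, fun g {x} hx => hPX g g.2 x hx⟩
  let SQ : SubMulAction Q α := ⟨X, fun g {x} hx => hQX g g.2 x hx⟩
  have : Finite SP := hX
  have : Finite SQ := hX
  have h1 : Nat.card SP ≡ Nat.card (MulAction.fixedPoints P SP) [MOD 2] :=
    hP.card_modEq_card_fixedPoints SP
  have h2 : Nat.card (MulAction.fixedPoints P SP) = 1 := by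
    rw [Nat.card_eq_one_iff_unique]
    refine ⟨⟨fun a b => ?_⟩, ⟨⟨⟨x0, hx0⟩, fun g => Subtype.ext (h0 g g.2)⟩⟩⟩
    have key : ∀ a : MulAction.fixedPoints P SP, (a : SP).1 = x0 := fun a =>
      hu _ a.1.2 fun g hg => congrArg Subtype.val (a.2 ⟨g, hg⟩)
    exact Subtype.ext (Subtype.ext ((key a).trans (key b).symm))
  have h3 : ¬ 2 ∣ Nat.card SQ := by
    have : Nat.card SQ = Nat.card SP := rfl
    rw [this]
    rw [h2] at h1
    intro hd
    have := (Nat.modEq_zero_iff_dvd.mpr hd).symm.trans h1
    exact absurd this (by decide)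
  obtain ⟨x, hx⟩ := hQ.nonempty_fixed_point_of_prime_not_dvd_card SQ h3
  exact ⟨x.1, x.2, fun g hg => congrArg Subtype.val (hx ⟨g, hg⟩)⟩

namespace Data

variable (D : Data Y V)

abbrev Om : Set V := MulAction.orbit Y D.z

theorem z_mem : D.z ∈ D.Om := MulAction.mem_orbit_self _

theorem smul_mem (g : Y) {x : V} (hx : x ∈ D.Om) : g • x ∈ D.Om := by
  obtain ⟨h, rfl⟩ := hx
  exact ⟨g * h, mul_smul _ _ _⟩

theorem ne_zero {x : V} (hx : x ∈ D.Om) : x ≠ 0 := by
  obtain ⟨g, rfl⟩ := hx
  intro h
  exact D.z_ne ((smul_eq_zero_iff_eq g).mp h)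

theorem far {x : V} (hx : x ≠ 0) : ∃ v ∈ D.Om, D.b x v = 1 := by
  by_contra h
  push Not at h
  apply hx
  apply D.nondeg
  intro w
  have hw : w ∈ AddSubgroup.closure (MulAction.orbit Y D.z) := by rw [D.span]; trivial
  induction hw using AddSubgroup.closure_induction with
  | mem v hv => exact (z2 _).resolve_right (h v hv)
  | zero => exact D.zero_right _
  | add u v _ _ hu hv => rw [D.add_right, hu, hv, add_zero]
  | neg v _ hv =>
    have : -v = v := ZModModule.neg_eq_self v
    rw [this, hv]

theorem do' {x y : V} (hx : x ∈ D.Om) (hy : y ∈ D.Om) (h : ∀ r ∈ D.R x, r • y = y) : y = x := by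
  obtain ⟨g, rfl⟩ := hx
  have := D.DO (g⁻¹ • y) (D.smul_mem _ hy) (fun r hr => by
    have h1 := h _ (D.R_conj g hr)
    rw [mul_smul, mul_smul, smul_eq_iff_eq_inv_smul] at h1
    exact h1)
  rw [← this]
  simp

theorem exists_move {x y : V} (hx : x ∈ D.Om) (hy : y ∈ D.Om) (hxy : x ≠ y) (hb : D.b x y = 0) :
    ∃ r ∈ D.R x, r • y = y + x := by
  by_contra h
  push Not at h
  exact hxy (D.do' hx hy fun r hr => (hr.2 y hb).resolve_right (h r hr)).symm

theorem add_mem {x y : V} (hx : x ∈ D.Om) (hy : y ∈ D.Om) (hxy : x ≠ y) (hb : D.b x y = 0) :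
    x + y ∈ D.Om := by
  obtain ⟨r, _, h⟩ := D.exists_move hx hy hxy hb
  rw [add_comm, ← h]
  exact D.smul_mem _ hy

theorem tt (x y v : V) :
    D.sig x y 1 v = v + D.b v y • y + D.b v (x + y) • (x + y) := by
  unfold Frm.sig
  rw [D.add_right, D.symm v x, D.symm v y]
  rcases z2 (D.b x v) with h | h <;> rcases z2 (D.b y v) with h' | h' <;>
    simp [h, h', one_one]
  · rw [add_comm x y, ← add_assoc, add_assoc v, add_self', add_zero]
  · abel
  
theorem good {x y : V} (hx : x ∈ D.Om) (hy : y ∈ D.Om) (hxy : x ≠ y) (hb : D.b x y = 0)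
    {r : Y} {k : ZMod 2} (hr : D.Acts r x y k) : k = 0 := by
  refine (z2 k).resolve_right fun hk => ?_
  subst hk
  have hb' : D.b y x = 0 := by rw [D.symm, hb]
  obtain ⟨r1, hr1, h1⟩ := D.exists_move hy hx hxy.symm hb'
  obtain ⟨u, k1, hu, ha⟩ := D.acts_of_R (D.ne_zero hy) hr1
  have hux : D.b u x = 1 := by
    refine (z2 _).resolve_left fun h0 => ?_
    rw [ha, Frm.sig, hb', h0] at h1
    exact D.ne_zero hy (by simpa using h1)
  have hxu : D.b x u = 1 := by rw [D.symm, hux]
  have hry : r • y = y := by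
    rw [hr]; simp [Frm.sig, hb, D.alt]
  have hru : r • u = u + (y + x) := by
    rw [hr, Frm.sig, hxu, hu]; simp [add_assoc]
  have ha2 := D.acts_conj r ha
  rw [hry, hru] at ha2
  have hb2 : D.b y (u + (y + x)) = 0 := by
    rw [D.add_right, D.add_right, hu, D.alt, hb']; simp
  have ha3 := D.acts_mul hu hb2 ha ha2
  rw [add_cancel] at ha3
  have hk3 : k1 + k1 + D.b u (u + (y + x)) = 1 := by
    rw [D.add_right, D.add_right, D.alt, D.symm u y, hu, hux]
    simp [← two_mul, show (2 : ZMod 2) = 0 from rfl]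
  rw [hk3, add_comm, D.acts_shift] at ha3
  refine D.NF r (r1 * (r * r1 * r⁻¹)) x y (D.ne_zero hx) (D.ne_zero hy) hxy hb
    (fun v => ?_) (fun v => ?_)
  · rw [hr, D.tt]
  · rw [ha3, D.tt, add_comm y x]

theorem card_R {x : V} (hx : x ∈ D.Om) : Nat.card (D.R x) = Nat.card (D.R D.z) := by
  obtain ⟨g, rfl⟩ := hx
  symm
  refine Nat.card_congr ⟨fun r => ⟨g * r * g⁻¹, D.R_conj g r.2⟩,
    fun r => ⟨g⁻¹ * r * g, ?_⟩, fun r => ?_, fun r => ?_⟩
  · have := D.R_conj g⁻¹ r.2
    simpa using this
  · ext; simp [mul_assoc]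
  · ext; simp [mul_assoc]

theorem stab_le : MulAction.stabilizer Y D.z ≤ D.M := by
  apply D.M_only
  · intro t ht
    exact D.T_fix t ht
  · intro h
    obtain ⟨v, ⟨g, rfl⟩, hv⟩ := D.far D.z_ne
    have : g ∈ MulAction.stabilizer Y D.z := by rw [h]; trivial
    rw [MulAction.mem_stabilizer_iff] at this
    rw [show (fun m : Y => m • D.z) g = g • D.z from rfl, this, D.alt] at hv
    exact zero_ne_one hv

theorem R_stab {x y : V} (hb : D.b x y = 0) {r : Y} (hr : r ∈ D.R x) :
    r • line x y = line x y := by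
  rw [smul_line, hr.1]
  rcases hr.2 y hb with h | h
  · rw [h]
  · rw [h, add_comm y x, ← line_add]

theorem trans_line {x y p : V} (hx : x ∈ D.Om) (hy : y ∈ D.Om) (hxy : x ≠ y) (hb : D.b x y = 0)
    (hp : p ∈ line x y) : ∃ n ∈ MulAction.stabilizer Y (line x y), n • x = p := by
  have hs : x + y ∈ D.Om := D.add_mem hx hy hxy hb
  rcases hp with rfl | rfl | rfl
  · exact ⟨1, one_mem _, one_smul _ _⟩
  · obtain ⟨r, hr, h⟩ := D.exists_move hs hx
      (fun h => D.ne_zero hy (by simpa using h)) (by rw [D.add_left, D.alt, D.symm, hb, add_zero])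
    refine ⟨r, ?_, by rw [h, add_cancel]⟩
    rw [MulAction.mem_stabilizer_iff]
    have h2 := D.R_stab (x := x + p) (y := x) (by rw [D.add_left, D.alt, D.symm, hb, add_zero]) hr
    rwa [line_comm, ← line_add] at h2
  · obtain ⟨r, hr, h⟩ := D.exists_move hy hx hxy.symm (by rw [D.symm, hb])
    refine ⟨r, ?_, h⟩
    rw [MulAction.mem_stabilizer_iff, line_comm]
    exact D.R_stab (by rw [D.symm, hb]) hr

/-- the end of the argument: a `T`-invariant line conjugate to `{z, g z, z + g z}` -/
theorem fin {g h : Y} {u : V} (hu : u ∈ D.Om) (hzu : D.z ≠ u) (hb : D.b D.z u = 0)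
    (hT : ∀ t ∈ D.T, t • line D.z u = line D.z u)
    (hl : line D.z u = h • line D.z (g • D.z)) : g ∈ D.M := by
  set N := MulAction.stabilizer Y (line D.z u) with hN
  have hNM : N ≤ D.M := by
    apply D.M_only
    · intro t ht
      exact hT t ht
    · intro hN'
      obtain ⟨v, ⟨k, rfl⟩, hv⟩ := D.far D.z_ne
      have hk : k ∈ N := by rw [hN']; trivial
      rw [hN, MulAction.mem_stabilizer_iff] at hk
      have hz : k • D.z ∈ line D.z u := by
        rw [← hk]
        exact Set.smul_mem_smul_set (Or.inl rfl)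
      have h0 : D.b D.z (k • D.z) = 0 := by
        rcases hz with h | h | h
        · rw [h, D.alt]
        · rw [h, hb]
        · rw [h, D.add_right, D.alt, hb, add_zero]
      rw [show (fun m : Y => m • D.z) k = k • D.z from rfl, h0] at hv
      exact zero_ne_one hv
  have key : ∀ k : Y, k • D.z ∈ line D.z u → k ∈ D.M := by
    intro k hk
    obtain ⟨n, hn, hnz⟩ := D.trans_line D.z_mem hu hzu hb hk
    have h1 : k⁻¹ * n ∈ D.M := D.stab_le (by
      rw [MulAction.mem_stabilizer_iff, mul_smul, hnz, inv_smul_smul])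
    have h2 := D.M.mul_mem (hNM hn) (D.M.inv_mem h1)
    simpa using h2
  have hh : h ∈ D.M := key h (by
    rw [hl]; exact Set.smul_mem_smul_set (Or.inl rfl))
  have hg : h * g ∈ D.M := key _ (by
    rw [hl, mul_smul]; exact Set.smul_mem_smul_set (Or.inr (Or.inl rfl)))
  have := D.M.mul_mem (D.M.inv_mem hh) hg
  simpa using this

theorem line_mem' {p q x : V} (hp : p ∈ D.Om) (hq : q ∈ D.Om) (hpq : p ≠ q)
    (hb : D.b p q = 0) (hx : x ∈ line p q) :
    ∃ u ∈ D.Om, x ≠ u ∧ D.b x u = 0 ∧ line p q = line x u := by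
  rcases mem_line.mp hx with rfl | rfl | rfl
  · exact ⟨_, hq, hpq, hb, rfl⟩
  · exact ⟨_, hp, hpq.symm, by rw [D.symm, hb], line_comm _ _⟩
  · refine ⟨p, hp, ?_, ?_, ?_⟩
    · intro h5
      exact D.ne_zero hq (by simpa using h5)
    · rw [D.add_left, D.alt, D.symm, hb, add_zero]
    · rw [line_add, line_comm]

theorem line_mem {w : V} (hw : w ∈ D.Om) (hzw : D.z ≠ w) (hb : D.b D.z w = 0) {h : Y}
    (hz : D.z ∈ h • line D.z w) :
    ∃ u ∈ D.Om, D.z ≠ u ∧ D.b D.z u = 0 ∧ h • line D.z w = line D.z u := by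
  rw [smul_line] at hz ⊢
  exact D.line_mem' (D.smul_mem h D.z_mem) (D.smul_mem h hw)
    (fun h' => hzw (smul_left_cancel _ h')) (by rw [D.inv, hb]) hz

/-- (PAR): outside the exceptional case -/
theorem par [Finite V] {g : Y} (hzw : D.z ≠ g • D.z) (hb : D.b D.z (g • D.z) = 0)
    (hne : ¬ (Nat.card (D.R D.z) = 4 ∧ ∃ r, D.Acts r D.z (g • D.z) 0)) : g ∈ D.M := by
  set w := g • D.z with hwdef
  have hw : w ∈ D.Om := D.smul_mem g D.z_mem
  have hb' : D.b w D.z = 0 := by rw [D.symm, hb]
  let X : Set (Set V) := {l | (∃ h : Y, l = h • line D.z w) ∧ D.z ∈ l}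
  let C : Subgroup Y := D.R w ⊓ MulAction.stabilizer Y D.z
  obtain ⟨r0, hr0, hr0z⟩ := D.exists_move hw D.z_mem hzw.symm hb'
  have hCT : ∀ H : Subgroup Y, (∀ t ∈ H, t • D.z = D.z) → ∀ t ∈ H, ∀ l ∈ X, t • l ∈ X := by
    rintro H hH t ht l ⟨⟨h, rfl⟩, hz⟩
    refine ⟨⟨t * h, by rw [mul_smul]⟩, ?_⟩
    rw [← hH t ht]
    exact Set.smul_mem_smul_set (by rw [hH t ht]; exact hz)
  obtain ⟨l, ⟨⟨h, rfl⟩, hz⟩, hfix⟩ := exists_fix X (Set.toFinite _) C D.T
    ((D.R_two (D.ne_zero hw)).to_le inf_le_left) D.T_two (hCT C fun t ht => ht.2)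
    (hCT D.T D.T_fix) (line D.z w) ⟨⟨1, by rw [one_smul]⟩, Or.inl rfl⟩
    (fun r hr => by
      rw [line_comm]
      exact D.R_stab hb' hr.1)
    (by
      rintro l ⟨⟨h, rfl⟩, hz⟩ hfix
      obtain ⟨u, hu, hzu, hbu, hl⟩ := D.line_mem hw hzw hb hz
      rw [hl] at hfix ⊢
      rcases z2 (D.b w u) with hwu | hwu
      · by_cases huw : u = w
        · rw [huw]
        -- `C` fixes `u`
        have hCu : ∀ r ∈ C, r • u = u := by
          intro r hr
          refine (hr.1.2 u hwu).resolve_right fun h => ?_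
          have h1 : u + w ∈ line D.z u := by
            rw [← hfix r hr, ← h]
            exact Set.smul_mem_smul_set (Or.inr (Or.inl rfl))
          rcases mem_line.mp h1 with h1 | h1 | h1
          · have h2 : r • D.z = D.z := hr.2
            rw [← h1, smul_add, h, hr.1.1, add_assoc, add_self', add_zero] at h2
            exact D.ne_zero hw (by simpa using h2.symm)
          · exact D.ne_zero hw (by simpa using h1)
          · rw [add_comm u w] at h1
            exact hzw (add_right_cancel h1).symm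
        obtain ⟨r1, hr1, hr1u⟩ := D.exists_move hw hu (Ne.symm huw) hwu
        have hr1z : r1 • D.z = D.z + w := by
          refine (hr1.2 _ hb').resolve_left fun h => ?_
          have := hCu r1 ⟨hr1, h⟩
          rw [hr1u] at this
          exact D.ne_zero hw (by simpa using this)
        have hzu' : D.z + u ∈ D.Om := D.add_mem D.z_mem hu hzu hbu
        have h3 : D.z + u = w := by
          apply D.do' hw hzu'
          intro r hr
          rcases hr.2 D.z hb' with h | h
          · rw [smul_add, h, hCu r ⟨hr, h⟩]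
          · have h4 : r1⁻¹ * r ∈ C := by
              refine ⟨(D.R w).mul_mem ((D.R w).inv_mem hr1) hr, ?_⟩
              show (r1⁻¹ * r) • D.z = D.z
              rw [mul_smul, inv_smul_eq_iff, h, hr1z]
            have h5 := hCu _ h4
            rw [mul_smul, inv_smul_eq_iff, hr1u] at h5
            rw [smul_add, h, h5]
            rw [add_assoc, add_comm u w, add_cancel]
        rw [← h3, ← line_add]
      · exfalso
        have hzwu : D.b w (D.z + u) = 1 := by rw [D.add_right, hb', hwu, zero_add]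
        have h2 : ∀ r ∈ C, r • u = u ∨ r • u = u + D.z := by
          intro r hr
          have h1 : r • u ∈ line D.z u := by
            rw [← hfix r hr]
            exact Set.smul_mem_smul_set (Or.inr (Or.inl rfl))
          rcases h1 with h1 | h1 | h1
          · exfalso
            have h2 : r • D.z = D.z := hr.2
            exact hzu (smul_left_cancel r (h2.trans h1.symm))
          · exact Or.inl h1
          · right; rw [h1, add_comm]
        -- `|C| ≤ 2`
        have hinj : ∀ r ∈ D.R w, ∀ s ∈ D.R w, r • u = s • u → r = s := by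
          intro r hr s hs h
          have h1 := D.R_free (D.ne_zero hw) hwu ((D.R w).mul_mem ((D.R w).inv_mem hs) hr)
            (by rw [mul_smul, h, inv_smul_smul])
          exact (inv_mul_eq_one.mp h1).symm
        have hfour : ∀ r ∈ D.R w, r • u ∈ ({u, u + D.z, r0 • u, r0 • (u + D.z)} : Set V) := by
          intro r hr
          rcases hr.2 D.z hb' with h | h
          · rcases h2 r ⟨hr, h⟩ with h' | h' <;> simp [h']
          · have h4 : r0⁻¹ * r ∈ C := by
              refine ⟨(D.R w).mul_mem ((D.R w).inv_mem hr0) hr, ?_⟩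
              show (r0⁻¹ * r) • D.z = D.z
              rw [mul_smul, inv_smul_eq_iff, h, hr0z]
            rcases h2 _ h4 with h5 | h5 <;> rw [mul_smul, inv_smul_eq_iff] at h5 <;> simp [h5]
        have hcard : Nat.card (D.R w) ≤ 4 := by
          classical
          have hle : Nat.card (D.R w) ≤
              Nat.card (({u, u + D.z, r0 • u, r0 • (u + D.z)} : Finset V) : Set V) := by
            refine Nat.card_le_card_of_injective
              (fun r => ⟨(r : Y) • u, by simpa using hfour r r.2⟩) ?_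
            intro r s h
            exact Subtype.ext (hinj _ r.2 _ s.2 (congrArg Subtype.val h))
          refine hle.trans ?_
          rw [Nat.card_coe_set_eq, Set.ncard_coe_finset]
          exact Finset.card_le_four
        have hc4 : Nat.card (D.R D.z) = 4 := by
          have := D.card4
          rw [D.card_R hw] at hcard
          omega
        -- some element of `C` moves `u`
        have hex : ∃ r ∈ C, r • u = u + D.z := by
          by_contra hno
          push Not at hno
          have hC1 : ∀ r ∈ C, r = 1 := fun r hr =>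
            hinj r hr.1 1 (one_mem _) (by
              rw [one_smul]; exact (h2 r hr).resolve_right (hno r hr))
          have h6 : ∀ r ∈ D.R w, r = 1 ∨ r = r0 := by
            intro r hr
            rcases hr.2 D.z hb' with h | h
            · exact Or.inl (hC1 r ⟨hr, h⟩)
            · right
              have h4 : r0⁻¹ * r ∈ C := by
                refine ⟨(D.R w).mul_mem ((D.R w).inv_mem hr0) hr, ?_⟩
                show (r0⁻¹ * r) • D.z = D.z
                rw [mul_smul, inv_smul_eq_iff, h, hr0z]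
              exact (inv_mul_eq_one.mp (hC1 _ h4)).symm
          have h7 : Nat.card (D.R w) ≤ 2 := by
            classical
            have hle : Nat.card (D.R w) ≤ Nat.card (({1, r0} : Finset Y) : Set Y) := by
              refine Nat.card_le_card_of_injective
                (fun r => ⟨(r : Y), by simpa using h6 r r.2⟩) ?_
              intro r s h
              exact Subtype.ext (Subtype.mk.inj h)
            refine hle.trans ?_
            rw [Nat.card_coe_set_eq, Set.ncard_coe_finset]
            exact Finset.card_le_two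
          have := D.card4
          rw [← D.card_R hw] at this
          omega
        obtain ⟨r, hr, hru⟩ := hex
        obtain ⟨w', k, hw', ha⟩ := D.acts_of_R (D.ne_zero hw) hr.1
        have h8 : D.Acts r w D.z k := by
          have h9 := ha u
          rw [hru, Frm.sig, hwu, one_smul, mul_one, add_assoc] at h9
          have h10 : D.z = w' + (D.b w' u + k) • w := add_left_cancel h9
          rcases z2 (D.b w' u + k) with h11 | h11
          · rw [h11, zero_smul, add_zero] at h10
            rw [h10]; exact ha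
          · rw [h11, one_smul] at h10
            rw [h10, D.acts_shift]; exact ha
        have hk : k = 0 := D.good hw D.z_mem hzw.symm hb' h8
        subst hk
        exact hne ⟨hc4, r, (D.acts_swap).mp h8⟩)
  obtain ⟨u, hu, hzu, hbu, hl⟩ := D.line_mem hw hzw hb hz
  rw [hl] at hfix
  exact D.fin hu hzu hbu hfix hl.symm

theorem acts_unique {s : Y} {x w w' : V} {k k' : ZMod 2} (hx : x ≠ 0)
    (h : D.Acts s x w k) (h' : D.Acts s x w' k') : (w' = w ∨ w' = w + x) ∧ k = k' := by
  obtain ⟨v, _, hv⟩ := D.far hx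
  have h1 := (h v).symm.trans (h' v)
  unfold Frm.sig at h1
  rw [hv, one_smul, one_smul, mul_one, mul_one, add_assoc, add_assoc] at h1
  have h2 := add_left_cancel h1
  have h3 : w' = w ∨ w' = w + x := by
    rcases z2 (D.b w v + k) with h4 | h4 <;> rcases z2 (D.b w' v + k') with h5 | h5 <;>
      rw [h4, h5] at h2 <;> simp only [zero_smul, one_smul, add_zero] at h2
    · exact Or.inl h2.symm
    · right; rw [h2, add_assoc, add_self', add_zero]
    · exact Or.inr h2.symm
    · left; exact (add_right_cancel h2).symm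
  refine ⟨h3, ?_⟩
  rcases h3 with rfl | rfl
  · have h4 := add_left_cancel h2
    rcases z2 (D.b w' v) with h5 | h5 <;> rcases z2 k with rfl | rfl <;>
      rcases z2 k' with rfl | rfl <;> simp [h5, one_one] at h4 ⊢ <;>
      first | exact (hx h4).elim | exact (hx h4.symm).elim
  · rw [add_assoc, D.add_left, hv] at h2
    have h4 := add_left_cancel h2
    rcases z2 (D.b w v) with h5 | h5 <;> rcases z2 k with rfl | rfl <;>
      rcases z2 k' with rfl | rfl <;> simp [h5, add_self'] at h4 ⊢ <;>
      first | exact (hx h4).elim | exact (hx h4.symm).elim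

/-- `x, y` span a line `l` with `s_l ∈ Y` -/
def Good (x y : V) : Prop :=
  x ∈ D.Om ∧ y ∈ D.Om ∧ x ≠ y ∧ D.b x y = 0 ∧ ∃ r, D.Acts r x y 0

variable {D} in
theorem Good.sy {x y : V} (h : D.Good x y) : D.Good y x := by
  obtain ⟨h1, h2, h3, h4, r, h5⟩ := h
  exact ⟨h2, h1, h3.symm, by rw [D.symm, h4], r, D.acts_swap.mp h5⟩

variable {D} in
theorem Good.sm {x y : V} (h : D.Good x y) (g : Y) : D.Good (g • x) (g • y) := by
  obtain ⟨h1, h2, h3, h4, r, h5⟩ := h
  exact ⟨D.smul_mem g h1, D.smul_mem g h2, fun h => h3 (smul_left_cancel _ h),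
    by rw [D.inv, h4], _, D.acts_conj g h5⟩

theorem four {x a : V} (h4 : Nat.card (D.R D.z) = 4) (ha : D.Good x a) {ra : Y}
    (hra : D.Acts ra x a 0) :
    ∃ c rc, D.Good x c ∧ D.b a c = 1 ∧ D.Acts rc x c 0 ∧
      D.Acts (ra * rc) x (a + c) 1 ∧
      (∀ r ∈ D.R x, r = 1 ∨ r = ra ∨ r = rc ∨ r = ra * rc) ∧
      (∀ y, D.Good x y → y = a ∨ y = a + x ∨ y = c ∨ y = c + x) := by
  obtain ⟨hx, ha', hxa, hbxa, _⟩ := ha
  have hx0 := D.ne_zero hx
  have hbax : D.b a x = 0 := by rw [D.symm, hbxa]
  obtain ⟨r, hr, hra1⟩ := D.exists_move hx ha' hxa hbxa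
  obtain ⟨w, k, hw, hrw⟩ := D.acts_of_R hx0 hr
  have hwa : D.b w a = 1 := by
    refine (z2 _).resolve_left fun h0 => ?_
    rw [hrw, Frm.sig, hbxa, h0] at hra1
    exact hx0 (by simpa using hra1)
  have haw : D.b a w = 1 := by rw [D.symm, hwa]
  obtain ⟨c, rc, hxc, hac, hrc⟩ : ∃ c rc, D.b x c = 0 ∧ D.b a c = 1 ∧ D.Acts rc x c 0 := by
    rcases z2 k with rfl | rfl
    · exact ⟨w, r, hw, haw, hrw⟩
    · refine ⟨a + w, ra * r, by rw [D.add_right, hbxa, hw, add_zero],
        by rw [D.add_right, D.alt, haw, zero_add], ?_⟩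
      have := D.acts_mul hbxa hw hra hrw
      rw [haw] at this
      simpa [one_one] using this
  have hca : D.b c a = 1 := by rw [D.symm, hac]
  have hc0 : c ≠ 0 := fun h => by rw [h, D.zero_right] at hac; exact zero_ne_one hac
  have hcx : x ≠ c := fun h => by rw [← h, hbax] at hac; exact zero_ne_one hac
  have hc : c ∈ D.Om := by
    obtain ⟨v, hv, hxv⟩ := D.far hx0
    have h1 := hrc v
    rw [Frm.sig, hxv, one_smul, mul_one, add_zero] at h1
    rcases z2 (D.b c v) with h2 | h2
    · rw [h2, zero_smul, add_zero] at h1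
      have h3 : v + c ∈ D.Om := by rw [← h1]; exact D.smul_mem _ hv
      have h4 := D.add_mem hv h3 (fun h => hc0 (by simpa using h))
        (by rw [D.add_right, D.alt, D.symm, h2, add_zero])
      rwa [add_cancel] at h4
    · rw [h2, one_smul, add_assoc] at h1
      have h3 : v + (c + x) ∈ D.Om := by rw [← h1]; exact D.smul_mem _ hv
      have h4 := D.add_mem hv h3 (fun h => hcx (by
          have : c + x = 0 := by simpa using h
          exact (eq_of_add _ _ this).symm))
        (by rw [D.add_right, D.add_right, D.alt, D.symm, h2, D.symm v, hxv, zero_add, one_one])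
      rw [add_cancel] at h4
      have h5 := D.add_mem hx h4 (fun h => hc0 (by simpa using h))
        (by rw [D.add_right, hxc, D.alt, add_zero])
      rwa [add_comm c x, add_cancel] at h5
  have hgc : D.Good x c := ⟨hx, hc, hcx, hxc, rc, hrc⟩
  have hac1 : D.Acts (ra * rc) x (a + c) 1 := by
    have := D.acts_mul hbxa hxc hra hrc
    rw [hac] at this
    simpa using this
  have hall : ∀ r ∈ D.R x, r = 1 ∨ r = ra ∨ r = rc ∨ r = ra * rc := by
    classical
    have e1 : ra • a = a := by rw [hra]; simp [Frm.sig, hbxa, D.alt]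
    have e2 : ra • c = c + x := by rw [hra]; simp [Frm.sig, hxc, hac]
    have e3 : rc • a = a + x := by rw [hrc]; simp [Frm.sig, hbxa, hca]
    have e4 : rc • c = c := by rw [hrc]; simp [Frm.sig, hxc, D.alt]
    have e5 : ra • x = x := (D.R_of_acts hbxa hra).1
    have e6 : (ra * rc) • a = a + x := by rw [mul_smul, e3, smul_add, e1, e5]
    have e7 : (ra * rc) • c = c + x := by rw [mul_smul, e4, e2]
    have nx : ∀ v : V, v ≠ v + x := fun v h => hx0 (by simpa using h)
    have n1 : (1 : Y) ≠ ra := fun h => nx c (by rw [← e2, ← h, one_smul])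
    have n2 : (1 : Y) ≠ rc := fun h => nx a (by rw [← e3, ← h, one_smul])
    have n3 : (1 : Y) ≠ ra * rc := fun h => nx a (by rw [← e6, ← h, one_smul])
    have n4 : ra ≠ rc := fun h => nx a (by rw [← e3, ← h, e1])
    have n5 : ra ≠ ra * rc := fun h => nx a (by rw [← e6, ← h, e1])
    have n6 : rc ≠ ra * rc := fun h => nx c (by rw [← e7, ← h, e4])
    have hS : ((({1, ra, rc, ra * rc} : Finset Y) : Set Y)) = (D.R x : Set Y) := by
      have hfin : (D.R x : Set Y).Finite := by
        have : Finite (D.R x) := Nat.finite_of_card_ne_zero (by rw [D.card_R hx, h4]; decide)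
        exact this
      refine Set.eq_of_subset_of_ncard_le ?_ ?_ hfin
      · intro s hs
        simp only [Finset.coe_insert, Finset.coe_singleton, Set.mem_insert_iff,
          Set.mem_singleton_iff] at hs
        have m1 := D.R_of_acts hbxa hra
        have m2 := D.R_of_acts hxc hrc
        rcases hs with rfl | rfl | rfl | rfl
        · exact one_mem _
        · exact m1
        · exact m2
        · exact mul_mem m1 m2
      · rw [Set.ncard_coe_finset]
        have h5 : (D.R x : Set Y).ncard = 4 := by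
          rw [← Nat.card_coe_set_eq]
          exact (D.card_R hx).trans h4
        rw [h5]
        rw [Finset.card_insert_of_notMem (by simp [n1, n2, n3]),
          Finset.card_insert_of_notMem (by simp [n4, n5]),
          Finset.card_insert_of_notMem (by simp only [Finset.mem_singleton]; exact n6),
          Finset.card_singleton]
    intro r hr
    have : r ∈ (D.R x : Set Y) := hr
    rw [← hS] at this
    simpa using this
  refine ⟨c, rc, hgc, hac, hrc, hac1, hall, ?_⟩
  rintro y ⟨_, hy, hxy, hbxy, s, hs⟩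
  rcases hall s (D.R_of_acts hbxy hs) with rfl | rfl | rfl | rfl
  · have h1 : D.Acts (1 : Y) x 0 0 := fun v => by simp [Frm.sig, D.zero_left]
    rcases (D.acts_unique hx0 h1 hs).1 with h2 | h2
    · exact (D.ne_zero hy h2).elim
    · exact (hxy (by rw [h2, zero_add])).elim
  · rcases (D.acts_unique hx0 hra hs).1 with h2 | h2
    · exact Or.inl h2
    · exact Or.inr (Or.inl h2)
  · rcases (D.acts_unique hx0 hrc hs).1 with h2 | h2
    · exact Or.inr (Or.inr (Or.inl h2))
    · exact Or.inr (Or.inr (Or.inr h2))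
  · exact (one_ne_zero (D.acts_unique hx0 hac1 hs).2).elim

/-- the second good line on `a`, normalised by `c` -/
theorem second {x a c : V} (h4 : Nat.card (D.R D.z) = 4) (ha : D.Good x a)
    (hac : D.b a c = 1) :
    ∃ m, D.Good a m ∧ D.b x m = 1 ∧ D.b m c = 0 ∧
      ∀ y, D.Good a y → y = x ∨ y = x + a ∨ y = m ∨ y = m + a := by
  obtain ⟨_, _, _, _, r, hr⟩ := ha.sy
  obtain ⟨m, rm, hm, hxm, hrm, _, _, huniq⟩ := D.four h4 ha.sy hr
  rcases z2 (D.b m c) with h | h
  · exact ⟨m, hm, hxm, h, huniq⟩
  · have hxa : D.b x a = 0 := ha.2.2.2.1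
    refine ⟨m + a, ⟨hm.1, ?_, ?_, ?_, rm, ?_⟩, ?_, ?_, ?_⟩
    · have := D.add_mem hm.1 hm.2.1 hm.2.2.1 hm.2.2.2.1
      rwa [add_comm] at this
    · intro h'
      exact D.ne_zero hm.2.1 (by simpa using h')
    · rw [D.add_right, hm.2.2.2.1, D.alt, add_zero]
    · rw [D.acts_shift]; exact hrm
    · rw [D.add_right, hxm, hxa, add_zero]
    · rw [D.add_left, h, hac, one_one]
    · intro y hy
      rcases huniq y hy with h' | h' | h' | h'
      · exact Or.inl h'
      · exact Or.inr (Or.inl h')
      · right; right; right; rw [h', add_assoc, add_self', add_zero]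
      · exact Or.inr (Or.inr (Or.inl h'))

theorem R_le_T : D.R D.z ≤ D.T := by
  have h1 : D.T ≤ Subgroup.normalizer (D.R D.z : Set Y) := by
    intro t ht
    rw [Subgroup.mem_normalizer_iff]
    intro r
    constructor
    · intro hr
      have := D.R_conj t hr
      rwa [D.T_fix t ht] at this
    · intro hr
      have := D.R_conj t⁻¹ hr
      rw [D.T_fix _ (D.T.inv_mem ht)] at this
      simpa [mul_assoc] using this
  have h2 : IsPGroup 2 (D.T ⊔ D.R D.z : Subgroup Y) :=
    IsPGroup.to_sup_of_normal_right' D.T_two (D.R_two D.z_ne) h1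
  have h3 := D.T_max _ h2 le_sup_left
  rw [← h3]
  exact le_sup_right

/-- the exceptional case -/
theorem exc [Finite V] {g : Y} (hzw : D.z ≠ g • D.z) (hb : D.b D.z (g • D.z) = 0)
    (h4 : Nat.card (D.R D.z) = 4) (hex : ∃ r, D.Acts r D.z (g • D.z) 0) : g ∈ D.M := by
  obtain ⟨ra, hra⟩ := hex
  obtain ⟨a, ha⟩ : ∃ a, a = g • D.z := ⟨_, rfl⟩
  obtain ⟨z, hz⟩ : ∃ z, z = D.z := ⟨_, rfl⟩
  have hgza : D.Good z a := by
    rw [hz, ha]
    exact ⟨D.z_mem, D.smul_mem g D.z_mem, hzw, hb, ra, hra⟩
  rw [← ha] at hra hb hzw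
  have hTz : ∀ t ∈ D.T, t • z = z := by rw [hz]; exact D.T_fix
  obtain ⟨c, rc, hgzc, hac, hrc, hrac, hall, huniq⟩ := D.four h4 hgza (by rw [hz]; exact hra)
  by_cases hT : ∀ t ∈ D.T, t • a = a ∨ t • a = a + z
  · refine D.fin (h := 1) hgza.2.1 hzw hb (fun t ht => ?_) (by rw [one_smul, ha])
    rw [← hz, smul_line, hTz t ht]
    rcases hT t ht with h | h
    · rw [h]
    · rw [h, add_comm a z, ← line_add]
  exfalso
  push Not at hT
  have hz0 : z ≠ 0 := by rw [hz]; exact D.z_ne
  have hzOm : z ∈ D.Om := hgza.1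
  have haOm : a ∈ D.Om := hgza.2.1
  have hcOm : c ∈ D.Om := hgzc.2.1
  have hza : D.b z a = 0 := hgza.2.2.2.1
  have haz : D.b a z = 0 := by rw [D.symm, hza]
  have hzc : D.b z c = 0 := hgzc.2.2.2.1
  have hcz : D.b c z = 0 := by rw [D.symm, hzc]
  have hca : D.b c a = 1 := by rw [D.symm, hac]
  rw [← hz] at hra
  have hraR : ra ∈ D.R z := D.R_of_acts hza hra
  have hrcR : rc ∈ D.R z := D.R_of_acts hzc hrc
  have hRT : ∀ r ∈ D.R z, r ∈ D.T := fun r hr => by rw [hz] at hr; exact D.R_le_T hr
  have e1 : ra • a = a := by rw [hra]; simp [Frm.sig, hza, D.alt]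
  have e2 : ra • c = c + z := by rw [hra]; simp [Frm.sig, hzc, hac]
  have e3 : rc • a = a + z := by rw [hrc]; simp [Frm.sig, hza, hca]
  have e4 : rc • c = c := by rw [hrc]; simp [Frm.sig, hzc, D.alt]
  have e5 : ra • z = z := hraR.1
  have e6 : rc • z = z := hrcR.1
  -- good neighbours of `z`
  have hnb : ∀ t ∈ D.T, ∀ y, D.Good z y → D.Good z (t • y) := fun t ht y hy => by
    have := hy.sm t
    rwa [hTz t ht] at this
  -- the element `t`
  obtain ⟨t, htT, hta⟩ : ∃ t ∈ D.T, t • a = c := by
    obtain ⟨t, ht, h1, h2⟩ := hT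
    rcases huniq _ (hnb t ht a hgza) with h | h | h | h
    · exact (h1 h).elim
    · exact (h2 h).elim
    · exact ⟨t, ht, h⟩
    · refine ⟨ra * t, D.T.mul_mem (hRT _ hraR) ht, ?_⟩
      rw [mul_smul, h, smul_add, e2, e5, add_assoc, add_self', add_zero]
  obtain ⟨m, hgam, hzm, hmc, hum⟩ := D.second h4 hgza hac
  obtain ⟨m', hgcm, hzm', hma', hum'⟩ := D.second h4 hgzc hca
  have ham : D.b a m = 0 := hgam.2.2.2.1
  have hma : D.b m a = 0 := by rw [D.symm, ham]
  have hmz : D.b m z = 1 := by rw [D.symm, hzm]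
  have hmz' : D.b m' z = 1 := by rw [D.symm, hzm']
  have hcm : D.b c m = 0 := by rw [D.symm, hmc]
  have hcm' : D.b c m' = 0 := hgcm.2.2.2.1
  have hmc' : D.b m' c = 0 := by rw [D.symm, hcm']
  have ham' : D.b a m' = 0 := by rw [D.symm, hma']
  have hmOm : m ∈ D.Om := hgam.2.1
  have hmOm' : m' ∈ D.Om := hgcm.2.1
  -- elements of `T` fixing `a` and `c` fix `m` and `m'`
  have hfixm : ∀ s ∈ D.T, s • a = a → s • c = c → s • m = m := by
    intro s hs h1 h2
    have h3 : D.Good a (s • m) := by
      have := hgam.sm s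
      rwa [h1] at this
    have h5 : D.b z (s • m) = 1 := by
      rw [← hTz s hs, D.inv, hzm]
    have h6 : D.b (s • m) c = 0 := by
      rw [← h2, D.inv, hmc]
    rcases hum _ h3 with h | h | h | h
    · rw [h, D.alt] at h5; exact (zero_ne_one h5).elim
    · rw [h, D.add_right, D.alt, hza, add_zero] at h5; exact (zero_ne_one h5).elim
    · exact h
    · rw [h, D.add_left, hmc, hac, zero_add] at h6; exact (one_ne_zero h6).elim
  have hfixm' : ∀ s ∈ D.T, s • a = a → s • c = c → s • m' = m' := by
    intro s hs h1 h2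
    have h3 : D.Good c (s • m') := by
      have := hgcm.sm s
      rwa [h2] at this
    have h5 : D.b z (s • m') = 1 := by
      rw [← hTz s hs, D.inv, hzm']
    have h6 : D.b (s • m') a = 0 := by
      rw [← h1, D.inv, hma']
    rcases hum' _ h3 with h | h | h | h
    · rw [h, D.alt] at h5; exact (zero_ne_one h5).elim
    · rw [h, D.add_right, D.alt, hzc, add_zero] at h5; exact (zero_ne_one h5).elim
    · exact h
    · rw [h, D.add_left, hma', hca, zero_add] at h6; exact (one_ne_zero h6).elim
  -- the images of `a`, `c` under `T`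
  have hTa : ∀ s ∈ D.T, s • a = a ∨ s • a = a + z ∨ s • a = c ∨ s • a = c + z :=
    fun s hs => huniq _ (hnb s hs a hgza)
  have hTc : ∀ s ∈ D.T, s • c = a ∨ s • c = a + z ∨ s • c = c ∨ s • c = c + z :=
    fun s hs => huniq _ (hnb s hs c hgzc)
  have hbs : ∀ s : Y, D.b (s • a) (s • c) = 1 := fun s => by rw [D.inv, hac]
  have hT1 : ∀ s ∈ D.T, (s • a = a ∨ s • a = a + z) → (s • c = c ∨ s • c = c + z) := by
    intro s hs h
    have h1 := hbs s
    rcases hTc s hs with h2 | h2 | h2 | h2
    · exfalso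
      rcases h with h | h <;> rw [h, h2] at h1 <;>
        simp [D.add_left, D.alt, hza] at h1
    · exfalso
      rcases h with h | h <;> rw [h, h2] at h1 <;>
        simp [D.add_left, D.add_right, D.alt, hza, haz] at h1
    · exact Or.inl h2
    · exact Or.inr h2
  have hT2 : ∀ s ∈ D.T, (s • a = c ∨ s • a = c + z) → (s • c = a ∨ s • c = a + z) := by
    intro s hs h
    have h1 := hbs s
    rcases hTc s hs with h2 | h2 | h2 | h2
    · exact Or.inl h2
    · exact Or.inr h2
    · exfalso
      rcases h with h | h <;> rw [h, h2] at h1 <;>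
        simp [D.add_left, D.alt, hzc] at h1
    · exfalso
      rcases h with h | h <;> rw [h, h2] at h1 <;>
        simp [D.add_left, D.add_right, D.alt, hzc, hcz] at h1
  -- `F`
  let F : V → Prop := fun v => D.b z v = 0 ∧ D.b a v = 0 ∧ D.b c v = 0 ∧
    ∀ s ∈ D.T, s • a = a → s • c = c → s • v = v
  have hdual : ∀ u v : V, D.b z v = 0 → D.b a v = 0 → D.b c v = 0 →
      (u = a ∨ u = a + z ∨ u = c ∨ u = c + z) → D.b u v = 0 := by
    intro u v h1 h2 h3 h
    rcases h with rfl | rfl | rfl | rfl <;> simp [D.add_left, h1, h2, h3]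
  have f1 : ∀ s ∈ D.T, ∀ v, F v → F (s • v) := by
    rintro s hs v ⟨h1, h2, h3, h5⟩
    have hs' := D.T.inv_mem hs
    refine ⟨?_, ?_, ?_, ?_⟩
    · rw [← hTz s hs, D.inv, h1]
    · rw [← D.inv', hdual _ v h1 h2 h3 (hTa _ hs')]
    · rw [← D.inv', hdual _ v h1 h2 h3 (hTc _ hs')]
    · intro s' hs'' h6 h7
      have h8 : ∀ u, (u = a ∨ u = a + z ∨ u = c ∨ u = c + z) → s' • u = u := by
        have h9 := hTz s' hs''
        intro u hu
        rcases hu with rfl | rfl | rfl | rfl
        · exact h6
        · rw [smul_add, h6, h9]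
        · exact h7
        · rw [smul_add, h7, h9]
      have h9 : (s⁻¹ * s' * s) • v = v := by
        apply h5 _ (D.T.mul_mem (D.T.mul_mem hs' hs'') hs)
        · rw [mul_smul, mul_smul, h8 _ (hTa s hs), inv_smul_smul]
        · rw [mul_smul, mul_smul, h8 _ (hTc s hs), inv_smul_smul]
      rw [mul_smul, mul_smul, inv_smul_eq_iff] at h9
      exact h9
  have hRfix : ∀ r ∈ D.R z, ∀ v, F v → r • v = v := by
    rintro r hr v ⟨h1, h2, h3, _⟩
    have g1 : ra • v = v := by rw [hra]; simp [Frm.sig, h1, h2]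
    have g2 : rc • v = v := by rw [hrc]; simp [Frm.sig, h1, h3]
    rcases hall r hr with rfl | rfl | rfl | rfl
    · exact one_smul _ _
    · exact g1
    · exact g2
    · rw [mul_smul, g2, g1]
  have f2 : ∀ s ∈ D.T, (s • a = a ∨ s • a = a + z) → ∀ v, F v → s • v = v := by
    intro s hs h v hv
    obtain ⟨ρ, hρ, h1, h2⟩ : ∃ ρ ∈ D.R z, (ρ * s) • a = a ∧ (ρ * s) • c = c := by
      have k1 : rc • (a + z) = a := by rw [smul_add, e3, e6, add_assoc, add_self', add_zero]
      have k2 : ra • (c + z) = c := by rw [smul_add, e2, e5, add_assoc, add_self', add_zero]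
      have k3 : rc • (c + z) = c + z := by rw [smul_add, e4, e6]
      rcases h with h | h <;> rcases hT1 s hs (by simp [h]) with h' | h'
      · exact ⟨1, one_mem _, by rw [one_mul, h], by rw [one_mul, h']⟩
      · exact ⟨ra, hraR, by rw [mul_smul, h, e1], by rw [mul_smul, h', k2]⟩
      · exact ⟨rc, hrcR, by rw [mul_smul, h, k1], by rw [mul_smul, h', e4]⟩
      · exact ⟨ra * rc, mul_mem hraR hrcR, by rw [mul_smul, mul_smul, h, k1, e1],
          by rw [mul_smul, mul_smul, h', k3, k2]⟩
    have h3 := hv.2.2.2 (ρ * s) (D.T.mul_mem (hRT _ hρ) hs) h1 h2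
    rw [mul_smul] at h3
    have h5 := hRfix ρ⁻¹ (inv_mem hρ) v hv
    rw [← h3, inv_smul_smul, h3] at h5
    exact h5
  have htc : t • c = a ∨ t • c = a + z := hT2 t htT (Or.inl hta)
  have htinv : ∀ u, (u = c ∨ u = c + z) → (t⁻¹ • u = a ∨ t⁻¹ • u = a + z) := by
    intro u hu
    rcases hu with rfl | rfl
    · left; rw [← hta, inv_smul_smul]
    · right
      rw [smul_add, hTz _ (D.T.inv_mem htT)]
      congr 1
      rw [← hta, inv_smul_smul]
  have f3' : ∀ v, F v → t • v = v → v = 0 ∨ v = z := by
    intro v hv h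
    rw [hz]
    apply D.T_only
    intro s hs
    rcases hTa s hs with h1 | h1 | h1 | h1
    · exact f2 s hs (Or.inl h1) v hv
    · exact f2 s hs (Or.inr h1) v hv
    all_goals
      have h2 := f2 (t⁻¹ * s) (D.T.mul_mem (D.T.inv_mem htT) hs) (by
        rw [mul_smul]; exact htinv _ (by simp [h1])) v hv
      rw [mul_smul, inv_smul_eq_iff] at h2
      rw [h2, h]
  have f3 : ∀ v, F v → v = 0 ∨ v = z ∨ t • v = v + z := by
    intro v hv
    have h1 : v + t • v = 0 ∨ v + t • v = z := by
      rw [hz]
      apply D.T_only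
      intro s hs
      rw [smul_add]
      have hv' := f1 t htT v hv
      rcases hTa s hs with h1 | h1 | h1 | h1
      · rw [f2 s hs (Or.inl h1) v hv, f2 s hs (Or.inl h1) _ hv']
      · rw [f2 s hs (Or.inr h1) v hv, f2 s hs (Or.inr h1) _ hv']
      all_goals
        have h2 := f2 (t⁻¹ * s) (D.T.mul_mem (D.T.inv_mem htT) hs) (by
          rw [mul_smul]; exact htinv _ (by simp [h1])) v hv
        have h3 := f2 (s * t) (D.T.mul_mem hs htT) (by
          rw [mul_smul, hta]
          exact hT2 s hs (by simp [h1])) v hv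
        rw [mul_smul, inv_smul_eq_iff] at h2
        rw [mul_smul] at h3
        rw [h2, h3, add_comm]
    rcases h1 with h1 | h1
    · rcases f3' v hv (eq_of_add _ _ h1).symm with h | h
      · exact Or.inl h
      · exact Or.inr (Or.inl h)
    · right; right
      rw [← h1, add_cancel]
  -- the vector `d = m + m'`
  have hd : F (m + m') := by
    refine ⟨by rw [D.add_right, hzm, hzm', one_one], by rw [D.add_right, ham, ham', add_zero],
      by rw [D.add_right, hcm, hcm', add_zero], fun s hs h1 h2 => ?_⟩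
    rw [smul_add, hfixm s hs h1 h2, hfixm' s hs h1 h2]
  have htm : t • m = m' ∨ t • m = m' + c := by
    have h1 : D.Good c (t • m) := by
      have := hgam.sm t
      rwa [hta] at this
    have h2 : D.b z (t • m) = 1 := by rw [← hTz t htT, D.inv, hzm]
    rcases hum' _ h1 with h | h | h | h
    · rw [h, D.alt] at h2; exact (zero_ne_one h2).elim
    · rw [h, D.add_right, D.alt, hzc, add_zero] at h2; exact (zero_ne_one h2).elim
    · exact Or.inl h
    · exact Or.inr h
  by_cases hD2 : ∃ e, e ≠ 0 ∧ D.b z e = 0 ∧ D.b a e = 0 ∧ D.b c e = 0 ∧ D.b m e = 0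
  · -- case (4b)
    obtain ⟨e, he0, he, hme⟩ : ∃ e, e ≠ 0 ∧ F e ∧ D.b m e = 0 := by
      obtain ⟨e0, he0, g1, g2, g3, g4⟩ := hD2
      let C0 : Subgroup Y := D.T ⊓ (MulAction.stabilizer Y a ⊓ MulAction.stabilizer Y c)
      let A : AddSubgroup V :=
        { carrier := {v | D.b z v = 0 ∧ D.b a v = 0 ∧ D.b c v = 0 ∧ D.b m v = 0}
          zero_mem' := ⟨D.zero_right _, D.zero_right _, D.zero_right _, D.zero_right _⟩
          add_mem' := by
            rintro u v ⟨u1, u2, u3, u4⟩ ⟨v1, v2, v3, v4⟩
            exact ⟨by rw [D.add_right, u1, v1, add_zero], by rw [D.add_right, u2, v2, add_zero],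
              by rw [D.add_right, u3, v3, add_zero], by rw [D.add_right, u4, v4, add_zero]⟩
          neg_mem' := by
            intro v hv
            rw [ZModModule.neg_eq_self v]
            exact hv }
      have hC0 : ∀ s ∈ C0, s ∈ D.T ∧ s • a = a ∧ s • c = c := fun s hs => ⟨hs.1, hs.2.1, hs.2.2⟩
      let S : SubMulAction C0 V :=
        { carrier := {v | D.b z v = 0 ∧ D.b a v = 0 ∧ D.b c v = 0 ∧ D.b m v = 0}
          smul_mem' := by
            rintro ⟨s, hs⟩ v ⟨v1, v2, v3, v4⟩
            obtain ⟨k1, k2, k3⟩ := hC0 s hs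
            change D.b z (s • v) = 0 ∧ D.b a (s • v) = 0 ∧ D.b c (s • v) = 0 ∧
              D.b m (s • v) = 0
            refine ⟨?_, ?_, ?_, ?_⟩
            · rw [← hTz s k1, D.inv, v1]
            · rw [← k2, D.inv, v2]
            · rw [← k3, D.inv, v3]
            · rw [← hfixm s k1 k2 k3, D.inv, v4] }
      have hS : Nat.card S = Nat.card A := rfl
      have h2 : 2 ∣ Nat.card S := by
        rw [hS]
        have h3 : addOrderOf (⟨e0, g1, g2, g3, g4⟩ : A) = 2 := by
          rw [addOrderOf_eq_prime_iff]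
          refine ⟨?_, fun h => he0 (congrArg Subtype.val h)⟩
          rw [two_nsmul]
          exact Subtype.ext (add_self' e0)
        rw [← h3]
        exact addOrderOf_dvd_natCard _
      have hfin : Finite S := Subtype.finite
      obtain ⟨⟨e, g5, g6, g7, g8⟩, hef, hne⟩ :=
        (D.T_two.to_le (inf_le_left : C0 ≤ D.T)).exists_fixed_point_of_prime_dvd_card_of_fixed_point
          S h2 (a := ⟨0, A.zero_mem⟩) (fun s => Subtype.ext (smul_zero _))
      refine ⟨e, fun h => hne (Subtype.ext h.symm), ⟨g5, g6, g7, fun s hs k2 k3 => ?_⟩, g8⟩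
      exact congrArg Subtype.val (hef ⟨s, hs, k2, k3⟩)
    have hem : D.b e m = 0 := by rw [D.symm, hme]
    have hez : e ≠ z := fun h => by rw [h, hmz] at hme; exact one_ne_zero hme
    have hte : t • e = e + z := ((f3 e he).resolve_left he0).resolve_left hez
    have hec : D.b e c = 0 := by rw [D.symm, he.2.2.1]
    have hez' : D.b e z = 0 := by rw [D.symm, he.1]
    have h1 : D.b (t • e) (t • m) = 0 := by rw [D.inv, hem]
    have hem' : D.b e m' = 1 := by
      rw [hte] at h1
      refine (z2 _).resolve_left fun h0 => ?_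
      rcases htm with h | h <;> rw [h] at h1 <;>
        simp [D.add_left, D.add_right, h0, hec, hzm', hzc] at h1
    have hed : D.b e (m + m') = 1 := by rw [D.add_right, hem, hem', zero_add]
    rcases f3 _ hd with h | h | h
    · rw [h, D.zero_right] at hed; exact zero_ne_one hed
    · rw [h, hez'] at hed; exact zero_ne_one hed
    · have hsum : F (m + m' + e) := by
        obtain ⟨a1, a2, a3, a4⟩ := hd
        obtain ⟨b1, b2, b3, b4⟩ := he
        refine ⟨by rw [D.add_right, a1, b1, add_zero], by rw [D.add_right, a2, b2, add_zero],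
          by rw [D.add_right, a3, b3, add_zero], fun s hs h1 h2 => ?_⟩
        rw [smul_add, a4 s hs h1 h2, b4 s hs h1 h2]
      have h5 : t • (m + m' + e) = m + m' + e := by
        rw [smul_add, h, hte]
        rw [add_assoc (m + m'), add_comm e z, ← add_assoc z, add_self', zero_add]
      rcases f3' _ hsum h5 with h6 | h6
      · rw [eq_of_add _ _ h6, D.alt] at hed; exact zero_ne_one hed
      · have h7 : m + m' = z + e := by
          rw [← h6, add_assoc, add_self', add_zero]
        rw [h7, D.add_right, hez', D.alt, add_zero] at hed; exact zero_ne_one hed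
  · -- case (4a)
    push Not at hD2
    have hexp : ∀ v, v = D.b m v • z + D.b z v • m + (D.b c v • a + D.b a v • c) := by
      intro v
      apply eq_of_add
      by_contra h0
      refine hD2 _ h0 ?_ ?_ ?_ ?_
      · simp only [D.add_right, D.smul_right, D.alt, hzm, hza, hzc]
        ring_nf
        simp [show (2 : ZMod 2) = 0 from rfl]
      · simp only [D.add_right, D.smul_right, D.alt, haz, ham, hac]
        ring_nf
        simp [show (2 : ZMod 2) = 0 from rfl]
      · simp only [D.add_right, D.smul_right, D.alt, hcz, hcm, hca]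
        ring_nf
        simp [show (2 : ZMod 2) = 0 from rfl]
      · simp only [D.add_right, D.smul_right, D.alt, hmz, hma, hmc]
        ring_nf
        simp [show (2 : ZMod 2) = 0 from rfl]
    have hdz : m + m' = 0 ∨ m + m' = z := by
      have h1 := hexp (m + m')
      rw [hd.1, hd.2.1, hd.2.2.1] at h1
      rcases z2 (D.b m (m + m')) with h | h <;> rw [h] at h1
      · left; simpa using h1
      · right; simpa using h1
    rcases hdz with h | h
    · have hmm : m' = m := (eq_of_add _ _ h).symm
      rw [hmm] at htm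
      obtain ⟨t', ht', htz', hta', htm'⟩ : ∃ t' ∈ D.T, t' • z = z ∧ t' • a = c ∧ t' • m = m := by
        rcases htm with h | h
        · exact ⟨t, htT, hTz t htT, hta, h⟩
        · refine ⟨rc * t, D.T.mul_mem (hRT _ hrcR) htT, ?_, ?_, ?_⟩
          · rw [mul_smul, hTz t htT, e6]
          · rw [mul_smul, hta, e4]
          · rw [mul_smul, h, hrc]
            simp [Frm.sig, D.add_right, hzm, hzc, hcm, D.alt, add_assoc, add_self']
      have htc' : t' • c = a := by
        rcases hT2 t' ht' (Or.inl hta') with h1 | h1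
        · exact h1
        · have h2 : D.b (t' • c) (t' • m) = 0 := by rw [D.inv, hcm]
          rw [h1, htm', D.add_left, ham, hzm, zero_add] at h2
          exact (one_ne_zero h2).elim
      refine D.NT t' (a + c) (fun h0 => ?_) (fun v => ?_)
      · rw [eq_of_add _ _ h0, D.alt] at hac; exact zero_ne_one hac
      · have h1 : t' • v = D.b m v • z + D.b z v • m + (D.b c v • c + D.b a v • a) := by
          nth_rw 1 [hexp v]
          rw [smul_add, smul_add, smul_add, smul_zmod, smul_zmod, smul_zmod, smul_zmod,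
            htz', hta', htm', htc']
        rw [h1]
        nth_rw 5 [hexp v]
        rw [D.symm v, D.add_left]
        rcases z2 (D.b a v) with h2 | h2 <;> rcases z2 (D.b c v) with h3 | h3 <;>
          rw [h2, h3] <;> simp [add_self']
        · rw [add_assoc _ a, add_cancel]
        · rw [add_assoc _ c, add_comm a c, add_cancel]
        · exact add_comm _ _
    · have hmm : m' = m + z := by rw [← h, add_cancel]
      have hmzOm : m + z ∈ D.Om := by rw [← hmm]; exact hmOm'
      have hzne : D.b z a ≠ 1 := by rw [hza]; exact zero_ne_one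
      have hacOm : a + c ∉ D.Om := by
        intro h1
        have h2 := D.good hzOm h1 (fun h3 => by
          rw [h3, D.add_right, D.alt, hac, zero_add] at haz; exact one_ne_zero haz)
          (by rw [D.add_right, hza, hzc, add_zero]) hrac
        exact one_ne_zero h2
      have hac0 : a + c ≠ 0 := fun h1 => by
        rw [eq_of_add _ _ h1, D.alt] at hac; exact zero_ne_one hac
      have haczOm : a + c + z ∉ D.Om := by
        intro h1
        have h2 := D.add_mem hzOm h1 (fun h3 => hac0 (by simpa using h3))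
          (by rw [D.add_right, D.add_right, hza, hzc, D.alt, add_zero, add_zero])
        rw [add_comm (a + c) z, add_cancel] at h2
        exact hacOm h2
      -- everything else lies in `Om`
      have hmaOm : m + a ∈ D.Om := D.add_mem hmOm haOm hgam.2.2.1.symm hma
      have hmcOm : m + c ∈ D.Om := D.add_mem hmOm hcOm
        (fun h1 => by rw [h1, hac] at ham; exact one_ne_zero ham) hmc
      have hmzaOm : m + z + a ∈ D.Om := by
        have := D.add_mem hmOm' haOm
          (fun h1 => by rw [h1, hca] at hcm'; exact one_ne_zero hcm') hma'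
        rwa [hmm] at this
      have hmzcOm : m + z + c ∈ D.Om := by
        have := D.add_mem hmOm' hcOm hgcm.2.2.1.symm hmc'
        rwa [hmm] at this
      have hm1 : m + z + (a + c) ∈ D.Om := by
        have h1 : rc • (m + a) = m + z + (a + c) := by
          rw [hrc]
          simp only [Frm.sig, D.add_right, hzm, hza, hcm, hca, add_zero, zero_add, one_smul,
            zero_mul]
          abel
        rw [← h1]; exact D.smul_mem _ hmaOm
      have hm2 : m + (a + c) ∈ D.Om := by
        have h1 : rc • (m + z + a) = m + (a + c) := by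
          rw [hrc]
          simp only [Frm.sig, D.add_right, hzm, hza, hcm, hca, hcz, D.alt, add_zero, zero_add,
            one_smul, zero_mul]
          have : m + z + a + c + z = m + (a + c) + (z + z) := by abel
          rw [this, add_self', add_zero]
        rw [← h1]; exact D.smul_mem _ hmzaOm
      have hazOm : a + z ∈ D.Om := by
        rw [add_comm]; exact D.add_mem hzOm haOm hgza.2.2.1 hza
      have hczOm : c + z ∈ D.Om := by
        rw [add_comm]; exact D.add_mem hzOm hcOm hgzc.2.2.1 hzc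
      have hout : ∀ v, v ∉ D.Om → v ≠ 0 → v = a + c ∨ v = a + c + z := by
        intro v hv hv0
        have h1 := hexp v
        rcases z2 (D.b m v) with k1 | k1 <;> rcases z2 (D.b z v) with k2 | k2 <;>
          rcases z2 (D.b c v) with k3 | k3 <;> rcases z2 (D.b a v) with k4 | k4 <;>
          simp only [k1, k2, k3, k4, zero_smul, one_smul, zero_add, add_zero] at h1
        · exact (hv0 h1).elim
        · exact (hv (h1 ▸ hcOm)).elim
        · exact (hv (h1 ▸ haOm)).elim
        · exact Or.inl h1
        · exact (hv (h1 ▸ hmOm)).elim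
        · exact (hv (h1 ▸ hmcOm)).elim
        · exact (hv (h1 ▸ hmaOm)).elim
        · exact (hv (h1 ▸ hm2)).elim
        · exact (hv (h1 ▸ hzOm)).elim
        · rw [add_comm] at h1; exact (hv (h1 ▸ hczOm)).elim
        · rw [add_comm] at h1; exact (hv (h1 ▸ hazOm)).elim
        · right; rw [h1, add_comm]
        · rw [add_comm] at h1; exact (hv (h1 ▸ hmzOm)).elim
        · rw [add_comm z m] at h1; exact (hv (h1 ▸ hmzcOm)).elim
        · rw [add_comm z m] at h1; exact (hv (h1 ▸ hmzaOm)).elim
        · rw [add_comm z m] at h1; exact (hv (h1 ▸ hm1)).elim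
      have hgOm : ∀ v, v ∉ D.Om → g • v ∉ D.Om := by
        intro v hv h1
        apply hv
        have := D.smul_mem g⁻¹ h1
        rwa [inv_smul_smul] at this
      have hg0 : ∀ v : V, v ≠ 0 → g • v ≠ 0 := fun v hv h1 =>
        hv ((smul_eq_zero_iff_eq g).mp h1)
      have hacz0 : a + c + z ≠ 0 := fun h1 => by
        have h2 := eq_of_add _ _ h1
        exact hacOm (h2 ▸ hzOm)
      have h1 := hout _ (hgOm _ hacOm) (hg0 _ hac0)
      have h2 := hout _ (hgOm _ haczOm) (hg0 _ hacz0)
      rw [smul_add g (a + c) z] at h2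
      have h3 : g • z = a := by rw [hz, ha]
      rw [h3] at h2
      have hca0 : ∀ v : V, v + a = v → False := fun v hv => D.ne_zero haOm (by simpa using hv)
      have hazne : a ≠ z := fun h => hgza.2.2.1 h.symm
      rcases h1 with h1 | h1 <;> rw [h1] at h2 <;> rcases h2 with h2 | h2
      · exact hca0 _ h2
      · exact hazne (add_left_cancel h2)
      · rw [add_assoc, add_eq_left] at h2
        exact hazne (eq_of_add _ _ h2).symm
      · exact hca0 _ h2

/-- **helper276 #14522**: the form is symmetric and `|R_z| ≥ 4`, then `(+)`: every `g ∈ Y` with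
`g z` perpendicular to `z` lies in the unique maximal subgroup over `T`. -/
theorem plus [Finite V] {g : Y} (hb : D.b D.z (g • D.z) = 0) : g ∈ D.M := by
  by_cases hzw : D.z = g • D.z
  · exact D.stab_le hzw.symm
  by_cases hne : Nat.card (D.R D.z) = 4 ∧ ∃ r, D.Acts r D.z (g • D.z) 0
  · exact D.exc hzw hb hne.1 hne.2
  · exact D.par hzw hb hne

end Data

end Act

end Cfsg.Agent.Omega.NearFF.SymPlus
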