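import Mathlib

/-!
# The Pfaffian bound (N1, (BT), #16135 (PF))

`A`, `S` finite elementary abelian 2-groups (additive), `β : A → S → S → ZMod 2` triadditive, alternating in
the last two variables; all the forms `β a`, `a ≠ 0`, have the same radical `R ≠ S`.  Then
`|A|² ≤ |S : R|`.
-/

set_option autoImplicit false

namespace Cfsg.Agent.Omega.NearFF.Pfaff

open Finset Matrix

section det

variable {m : ℕ}

/-- the fixed-point-free involutions -/
def fpf (m : ℕ) : Finset (Equiv.Perm (Fin m)) :=
  univ.filter fun σ => (∀ i, σ (σ i) = i) ∧ ∀ i, σ i ≠ i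

theorem mem_fpf {σ : Equiv.Perm (Fin m)} : σ ∈ fpf m ↔ (∀ i, σ (σ i) = i) ∧ ∀ i, σ i ≠ i := by
  simp [fpf]

theorem zmod_mul_self (x : ZMod 2) : x * x = x := by
  revert x; decide

theorem sign_cast (σ : Equiv.Perm (Fin m)) : ((Equiv.Perm.sign σ : ℤ) : ZMod 2) = 1 := by
  rcases Int.units_eq_one_or (Equiv.Perm.sign σ) with h | h <;> rw [h] <;> decide

/-- The determinant of an alternating matrix over `F₂`. -/
theorem det_alt (M : Matrix (Fin m) (Fin m) (ZMod 2)) (hs : ∀ i j, M i j = M j i) (h0 : ∀ i, M i i = 0) :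
    M.det = ∑ σ ∈ fpf m, ∏ i ∈ univ.filter (fun i => i < σ i), M i (σ i) := by
  classical
  rw [det_apply']
  have h1 : ∀ σ : Equiv.Perm (Fin m), ((Equiv.Perm.sign σ : ℤ) : ZMod 2) * ∏ i, M (σ i) i =
      ∏ i, M (σ i) i := fun σ => by rw [sign_cast, one_mul]
  rw [Finset.sum_congr rfl fun σ _ => h1 σ]
  rw [← Finset.sum_filter_add_sum_filter_not univ (fun σ => σ ∈ fpf m)]
  have h2 : ∑ σ ∈ univ.filter (fun σ : Equiv.Perm (Fin m) => σ ∉ fpf m), ∏ i, M (σ i) i = 0 := by
    refine Finset.sum_involution (fun σ _ => σ⁻¹) ?_ ?_ ?_ ?_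
    · intro σ _
      have h3 : ∏ i, M (σ⁻¹ i) i = ∏ i, M (σ i) i := by
        rw [← Equiv.prod_comp σ (fun i => M (σ⁻¹ i) i)]
        refine Finset.prod_congr rfl fun i _ => ?_
        have e1 : σ⁻¹ (σ i) = i := Equiv.symm_apply_apply σ i
        rw [e1]
        exact hs _ _
      rw [h3]
      exact CharTwo.add_self_eq_zero _
    · intro σ hσ hne he
      rw [mem_filter, mem_fpf] at hσ
      have hσ2 := hσ.2
      apply hσ2
      have h3 : ∀ i, σ (σ i) = i := fun i => by
        have e1 : σ⁻¹ (σ i) = i := Equiv.symm_apply_apply σ i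
        rwa [he] at e1
      refine ⟨h3, fun i hi => hne ?_⟩
      exact Finset.prod_eq_zero (mem_univ i) (by rw [hi]; exact h0 i)
    · intro σ hσ
      rw [mem_filter, mem_fpf] at hσ ⊢
      refine ⟨mem_univ _, fun h3 => hσ.2 ⟨fun i => ?_, fun i hi => ?_⟩⟩
      · have e1 : ∀ j, σ⁻¹ (σ j) = j := fun j => Equiv.symm_apply_apply σ j
        have := h3.1 (σ (σ i))
        rw [e1, e1] at this
        exact this.symm
      · apply h3.2 i
        have e1 : ∀ j, σ⁻¹ (σ j) = j := fun j => Equiv.symm_apply_apply σ j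
        conv_lhs => rw [← hi]
        exact e1 i
    · intro σ _
      exact inv_inv σ
  rw [h2, add_zero]
  have h4 : univ.filter (fun σ => σ ∈ fpf m) = fpf m := by ext; simp
  rw [h4]
  refine Finset.sum_congr rfl fun σ hσ => ?_
  rw [mem_fpf] at hσ
  rw [← Finset.prod_filter_mul_prod_filter_not univ (fun i => i < σ i)]
  have h5 : ∏ i ∈ univ.filter (fun i => ¬ i < σ i), M (σ i) i =
      ∏ i ∈ univ.filter (fun i => i < σ i), M i (σ i) := by
    refine Finset.prod_bij' (fun i _ => σ i) (fun i _ => σ i) ?_ ?_ ?_ ?_ ?_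
    · intro i hi
      rw [mem_filter] at hi ⊢
      refine ⟨mem_univ _, ?_⟩
      rw [hσ.1 i]
      exact lt_of_le_of_ne (not_lt.1 hi.2) (hσ.2 i)
    · intro i hi
      rw [mem_filter] at hi ⊢
      refine ⟨mem_univ _, ?_⟩
      rw [hσ.1 i]
      exact not_lt.2 hi.2.le
    · intro i _; exact hσ.1 i
    · intro i _; exact hσ.1 i
    · intro i _
      rw [hσ.1 i]
  rw [h5, ← Finset.prod_mul_distrib]
  refine Finset.prod_congr rfl fun i _ => ?_
  rw [hs (σ i) i]
  exact zmod_mul_self _

theorem card_lt {σ : Equiv.Perm (Fin m)} (hσ : σ ∈ fpf m) :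
    2 * (univ.filter (fun i => i < σ i)).card = m := by
  rw [mem_fpf] at hσ
  have h1 : (univ.filter (fun i => ¬ i < σ i)).card = (univ.filter (fun i => i < σ i)).card := by
    refine Finset.card_bij' (fun i _ => σ i) (fun i _ => σ i) ?_ ?_ ?_ ?_
    · intro i hi
      rw [mem_filter] at hi ⊢
      refine ⟨mem_univ _, ?_⟩
      rw [hσ.1 i]
      exact lt_of_le_of_ne (not_lt.1 hi.2) (hσ.2 i)
    · intro i hi
      rw [mem_filter] at hi ⊢
      refine ⟨mem_univ _, ?_⟩
      rw [hσ.1 i]
      exact not_lt.2 hi.2.le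
    · intro i _; exact hσ.1 i
    · intro i _; exact hσ.1 i
  have h2 := Finset.card_filter_add_card_filter_not (s := (univ : Finset (Fin m))) (fun i => i < σ i)
  rw [h1, Finset.card_univ, Fintype.card_fin] at h2
  omega

end det

section pol

variable {m d : ℕ}

/-- **The Pfaffian bound for matrices.** -/
theorem le_of_det (β : (Fin d → ZMod 2) →+ Matrix (Fin m) (Fin m) (ZMod 2))
    (hs : ∀ a i j, β a i j = β a j i) (h0 : ∀ a i, β a i i = 0) (hd : ∀ a, a ≠ 0 → (β a).det ≠ 0)
    (hm : 0 < m) : 2 * d ≤ m := by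
  classical
  by_contra hcon
  push Not at hcon
  -- the linear forms
  let L : Fin m → Fin m → MvPolynomial (Fin d) (ZMod 2) := fun i j =>
    ∑ k, MvPolynomial.C (β (Pi.single k 1) i j) * MvPolynomial.X k
  have hL : ∀ (a : Fin d → ZMod 2) i j, MvPolynomial.eval a (L i j) = β a i j := by
    intro a i j
    have ha : a = ∑ k, Pi.single k (a k) := (Finset.univ_sum_single a).symm
    have h1 : ∀ (k : Fin d) (c : ZMod 2), β (Pi.single k c) = c • β (Pi.single k 1) := by
      intro k c
      have : c = 0 ∨ c = 1 := by revert c; decide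
      rcases this with rfl | rfl
      · rw [Pi.single_zero, map_zero, zero_smul]
      · rw [one_smul]
    simp only [L, map_sum, map_mul, MvPolynomial.eval_C, MvPolynomial.eval_X]
    conv_rhs => rw [ha, map_sum]
    rw [Matrix.sum_apply]
    refine Finset.sum_congr rfl fun k _ => ?_
    rw [h1 k (a k), Matrix.smul_apply, smul_eq_mul, mul_comm]
  have hLd : ∀ i j, (L i j).totalDegree ≤ 1 := by
    intro i j
    refine (MvPolynomial.totalDegree_finsetSum _ _).trans ?_
    refine Finset.sup_le fun k _ => ?_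
    refine (MvPolynomial.totalDegree_mul _ _).trans ?_
    rw [MvPolynomial.totalDegree_C, zero_add, MvPolynomial.totalDegree_X]
  let P : MvPolynomial (Fin d) (ZMod 2) :=
    ∑ σ ∈ fpf m, ∏ i ∈ univ.filter (fun i => i < σ i), L i (σ i)
  have hP : ∀ a : Fin d → ZMod 2, MvPolynomial.eval a P = (β a).det := by
    intro a
    rw [det_alt (β a) (hs a) (h0 a)]
    simp only [P, map_sum, map_prod, hL]
  have hPd : P.totalDegree < Fintype.card (Fin d) := by
    rw [Fintype.card_fin]
    have h1 : 2 * P.totalDegree ≤ m := by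
      have h2 : P.totalDegree ≤ m / 2 := by
        refine (MvPolynomial.totalDegree_finsetSum _ _).trans ?_
        refine Finset.sup_le fun σ hσ => ?_
        refine (MvPolynomial.totalDegree_finsetProd _ _).trans ?_
        refine (Finset.sum_le_sum fun i _ => hLd i (σ i)).trans ?_
        rw [Finset.sum_const, smul_eq_mul, mul_one]
        have := card_lt hσ
        omega
      omega
    omega
  have h3 := char_dvd_card_solutions 2 hPd
  have h4 : Fintype.card {x : Fin d → ZMod 2 // MvPolynomial.eval x P = 0} = 1 := by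
    rw [Fintype.card_eq_one_iff]
    refine ⟨⟨0, ?_⟩, ?_⟩
    · rw [hP, map_zero]
      have : Nonempty (Fin m) := ⟨⟨0, hm⟩⟩
      exact Matrix.det_zero
    · rintro ⟨x, hx⟩
      rw [hP] at hx
      by_contra hne
      exact hd x (fun h => hne (Subtype.ext h)) hx
  rw [h4] at h3
  omega

end pol

section abs

variable {A S : Type*} [AddCommGroup A] [AddCommGroup S] [Finite A] [Finite S]

theorem form_symm {A S : Type*} [AddCommGroup A] [AddCommGroup S] {β : A →+ S →+ S →+ ZMod 2}
    (alt : ∀ a s, β a s s = 0) (a : A) (s t : S) : β a s t = β a t s := by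
  have h2 := alt a (s + t)
  simp only [map_add, AddMonoidHom.add_apply, alt, zero_add, add_zero] at h2
  have h4 : ∀ x y : ZMod 2, y + x = 0 → x = y := by decide
  exact h4 _ _ h2

omit [Finite A] [Finite S] in
theorem le_of_basis {d m : ℕ} [Module (ZMod 2) A] [Module (ZMod 2) S]
    (bA : Module.Basis (Fin d) (ZMod 2) A) (bS : Module.Basis (Fin m) (ZMod 2) S) (hm : 0 < m)
    (β : A →+ S →+ S →+ ZMod 2) (alt : ∀ a s, β a s s = 0)
    (rad : ∀ a, a ≠ 0 → ∀ s, (∀ t, β a t s = 0) → s = 0) : 2 * d ≤ m := by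
  classical
  let e := bA.equivFun
  let β' : (Fin d → ZMod 2) →+ Matrix (Fin m) (Fin m) (ZMod 2) :=
    AddMonoidHom.mk' (fun a => Matrix.of fun i j => β (e.symm a) (bS i) (bS j)) (by
        intro a b
        ext i j
        simp [Matrix.add_apply])
  have hβ' : ∀ a i j, β' a i j = β (e.symm a) (bS i) (bS j) := fun _ _ _ => rfl
  refine le_of_det β' (fun a i j => form_symm alt _ _ _) (fun a i => alt _ _) ?_ hm
  intro a ha hdet
  have ha' : e.symm a ≠ 0 := fun h => ha ((LinearEquiv.map_eq_zero_iff e.symm).1 h)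
  obtain ⟨v, hv, hv2⟩ := (Matrix.exists_mulVec_eq_zero_iff (M := β' a)).2 hdet
  apply hv
  have h01 : ∀ x : ZMod 2, x = 0 ∨ x = 1 := by decide
  have h3 : ∑ j, v j • bS j = 0 := by
    apply rad _ ha'
    have h4 : ∀ i, β (e.symm a) (bS i) (∑ j, v j • bS j) = 0 := by
      intro i
      have h5 := congrFun hv2 i
      rw [Pi.zero_apply] at h5
      rw [map_sum, ← h5, Matrix.mulVec, dotProduct]
      refine Finset.sum_congr rfl fun j _ => ?_
      rw [hβ']
      rcases h01 (v j) with h6 | h6
      · rw [h6, zero_smul, map_zero, mul_zero]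
      · rw [h6, one_smul, mul_one]
    generalize (∑ j, v j • bS j) = u at h4
    intro t
    rw [← bS.sum_repr t, map_sum, AddMonoidHom.finsetSum_apply]
    refine Finset.sum_eq_zero fun i _ => ?_
    rcases h01 (bS.repr t i) with h6 | h6
    · rw [h6, zero_smul, map_zero, AddMonoidHom.zero_apply]
    · rw [h6, one_smul]; exact h4 i
  have h4 := (Fintype.linearIndependent_iff.1 bS.linearIndependent) v h3
  funext j
  exact h4 j

/-- **The Pfaffian bound**, nondegenerate forms. -/
theorem card_sq_le_card (hA : ∀ a : A, a + a = 0) (hS : ∀ s : S, s + s = 0)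
    (β : A →+ S →+ S →+ ZMod 2) (alt : ∀ a s, β a s s = 0)
    (rad : ∀ a, a ≠ 0 → ∀ s, (∀ t, β a t s = 0) → s = 0) (h1 : Nontrivial S) :
    Nat.card A ^ 2 ≤ Nat.card S := by
  let i1 : Module (ZMod 2) A := AddCommGroup.zmodModule (n := 2) fun a => by rw [two_nsmul]; exact hA a
  let i2 : Module (ZMod 2) S := AddCommGroup.zmodModule (n := 2) fun a => by rw [two_nsmul]; exact hS a
  have i3 : Module.Finite (ZMod 2) A := Module.Finite.of_finite
  have i4 : Module.Finite (ZMod 2) S := Module.Finite.of_finite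
  have hcA : Nat.card A = 2 ^ Module.finrank (ZMod 2) A := by
    rw [Module.natCard_eq_pow_finrank (K := ZMod 2), Nat.card_zmod]
  have hcS : Nat.card S = 2 ^ Module.finrank (ZMod 2) S := by
    rw [Module.natCard_eq_pow_finrank (K := ZMod 2), Nat.card_zmod]
  have h2 := le_of_basis (Module.finBasis (ZMod 2) A) (Module.finBasis (ZMod 2) S)
    Module.finrank_pos β alt rad
  rw [hcA, hcS, ← pow_mul]
  exact Nat.pow_le_pow_right (by norm_num) (by omega)

/-- **The Pfaffian bound**: forms with a common radical `R`. -/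
theorem card_sq_le_index (hA : ∀ a : A, a + a = 0) (hS : ∀ s : S, s + s = 0)
    (β : A →+ S →+ S →+ ZMod 2) (alt : ∀ a s, β a s s = 0) (R : AddSubgroup S)
    (hR : ∀ a, a ≠ 0 → ∀ s, (∀ t, β a t s = 0) ↔ s ∈ R) (h1 : R ≠ ⊤) :
    Nat.card A ^ 2 ≤ R.index := by
  classical
  have symm : ∀ a s t, β a s t = β a t s := form_symm alt
  have kz : ∀ a, ∀ s ∈ R, ∀ t, β a t s = 0 := by
    intro a s hs t
    by_cases ha : a = 0
    · rw [ha, map_zero]; rfl
    · exact (hR a ha s).2 hs t
  have kz' : ∀ a, ∀ s ∈ R, ∀ t, β a s t = 0 := fun a s hs t => by rw [symm]; exact kz a s hs t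
  let γ : A →+ (S ⧸ R) →+ (S ⧸ R) →+ ZMod 2 :=
    AddMonoidHom.mk' (fun a =>
      QuotientAddGroup.lift R
        (AddMonoidHom.mk' (fun s => QuotientAddGroup.lift R (β a s) (fun t ht => kz a t ht s))
          (by
            intro s s'
            refine QuotientAddGroup.addMonoidHom_ext _ (AddMonoidHom.ext fun t => ?_)
            change β a (s + s') t = β a s t + β a s' t
            rw [map_add, AddMonoidHom.add_apply]))
        (by
          intro s hs
          refine QuotientAddGroup.addMonoidHom_ext _ (AddMonoidHom.ext fun t => ?_)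
          change β a s t = 0
          exact kz' a s hs t))
      (by
        intro a b
        refine QuotientAddGroup.addMonoidHom_ext _ (AddMonoidHom.ext fun s => ?_)
        refine QuotientAddGroup.addMonoidHom_ext _ (AddMonoidHom.ext fun t => ?_)
        change β (a + b) s t = β a s t + β b s t
        rw [map_add, AddMonoidHom.add_apply, AddMonoidHom.add_apply])
  have hγ : ∀ (a : A) (s t : S), γ a (s : S ⧸ R) (t : S ⧸ R) = β a s t := fun a s t => rfl
  have hS' : ∀ s : S ⧸ R, s + s = 0 := by
    intro s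
    induction s using QuotientAddGroup.induction_on with
    | _ s => rw [← QuotientAddGroup.mk_add, hS, QuotientAddGroup.mk_zero]
  have h2 : Nat.card A ^ 2 ≤ Nat.card (S ⧸ R) := by
    refine card_sq_le_card hA hS' γ ?_ ?_ ?_
    · intro a s
      induction s using QuotientAddGroup.induction_on with
      | _ s => rw [hγ]; exact alt a s
    · intro a ha s
      induction s using QuotientAddGroup.induction_on with
      | _ s =>
        intro h3
        rw [QuotientAddGroup.eq_zero_iff]
        refine (hR a ha s).1 fun t => ?_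
        have := h3 (t : S ⧸ R)
        rwa [hγ] at this
    · exact QuotientAddGroup.nontrivial_iff.2 h1
  exact h2

end abs

end Cfsg.Agent.Omega.NearFF.Pfaff
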