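import Cfsg.Agent.Omega.Transv.Basic

/-!
# (BT), `|V/E| = 2`: the datum (project OMEGA, leaf N1)

`Y = P/C_P(V)` acts faithfully on the `F₂`-space `V`, `T` a Sylow 2-subgroup, `M` the unique maximal subgroup over
`T`, `C_V(T) = {0, z}`, `Ω = z^Y` spans `V`, no offender on `V`.  For `x ∈ Ω` there is a form `f x` with kernel
`E_x ∋ x`, a 2-group `Q x` (the image of `O₂(C_G(x))`) and a class `BB x` of elementary abelian subgroups
`B ≤ Q x` (the images of `E_x^g`, `g` bad at `x`), normalised by `Q x`, such that `b ↦ [v, b] + C_V(B)` is a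
bijection `B → E_x/C_V(B)` for all `v ∉ E_x` (`NB (f x) B`).
-/

set_option autoImplicit false
set_option linter.unusedSectionVars false

namespace Cfsg.Agent.Omega.NearFF

open Subgroup Cfsg.Agent.Omega.Transv

variable {Y : Type*} [Group Y] {V : Type*} [AddCommGroup V] [Module (ZMod 2) V] [DistribMulAction Y V]

/-- `v` is fixed by `B` -/
def Fx (B : Subgroup Y) (v : V) : Prop := ∀ b ∈ B, b • v = v

/-- the commutator `[v, b]` -/
def cm (b : Y) (v : V) : V := b • v + v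

/-- A near-offender for the hyperplane `ker φ`. -/
structure NB (φ : Du V) (B : Subgroup Y) : Prop where
  comm : ∀ a ∈ B, ∀ b ∈ B, a * b = b * a
  sq : ∀ b ∈ B, b * b = 1
  ne : B ≠ ⊥
  inv : ∀ b ∈ B, ∀ v : V, φ (b • v) = φ v
  ed : ∀ e : V, φ e = 0 → ∀ b ∈ B, Fx B (cm b e)
  inj : ∀ v : V, φ v = 1 → ∀ b ∈ B, Fx B (cm b v) → b = 1
  surj : ∀ v e : V, φ v = 1 → φ e = 0 → ∃ b ∈ B, Fx B (cm b v + e)

/-- The datum of (BT), `|V/E| = 2`. -/
structure Dat (T : Sylow 2 Y) (M : Subgroup Y) (z : V) (f : V → Du V) (Q : V → Subgroup Y)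
    (BB : V → Set (Subgroup Y)) : Prop where
  faith : Faith Y V
  le : (T : Subgroup Y) ≤ M
  ne : M ≠ ⊤
  max : ∀ X : Subgroup Y, (T : Subgroup Y) ≤ X → X ≤ M ∨ X = ⊤
  z_ne : z ≠ 0
  z_fix : Fx (T : Subgroup Y) z
  fixT : ∀ v : V, Fx (T : Subgroup Y) v → v = 0 ∨ v = z
  span : Submodule.span (ZMod 2) (Set.range fun g : Y => g • z) = ⊤
  /-- no offender -/
  noff : ∀ A : Subgroup Y, A ≠ ⊥ → (∀ a ∈ A, ∀ b ∈ A, a * b = b * a) → (∀ a ∈ A, a * a = 1) →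
    Nat.card A * Nat.card {v : V // Fx A v} < Nat.card V
  f_smul : ∀ (g : Y) (x : V), x ∈ MulAction.orbit Y z → f (g • x) = dua g (f x)
  f_self : f z z = 0
  f_ne : f z ≠ 0
  q_smul : ∀ (g : Y) (x : V), x ∈ MulAction.orbit Y z → ∀ a ∈ Q x, g * a * g⁻¹ ∈ Q (g • x)
  q_two : IsPGroup 2 (Q z)
  q_fix : Fx (Q z) z
  bb_smul : ∀ (g : Y) (x : V), x ∈ MulAction.orbit Y z → ∀ B ∈ BB x,
    B.map (MulAut.conj g).toMonoidHom ∈ BB (g • x)
  bb_ne : (BB z).Nonempty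
  bb_le : ∀ B ∈ BB z, B ≤ Q z
  bb_norm : ∀ B ∈ BB z, ∀ a ∈ Q z, ∀ b ∈ B, a * b * a⁻¹ ∈ B
  bb : ∀ B ∈ BB z, NB (f z) B
  star : ∀ B ∈ BB z, ∀ x ∈ MulAction.orbit Y z, Fx B x → f x = f z

end Cfsg.Agent.Omega.NearFF
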