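import Cfsg.Agent.Omega.NearFF.Plus
import Cfsg.Agent.Omega.NearFF.Dat

/-!
# (BT), `|V/E| = 2`: (+) finishes, on the structure `NearFF.Dat` (helper575 #13987 (1)-(3))

(+) : `∀ g, f z (g • z) = 0 → g ∈ M`.

* `mem_of` : (1);
* `four_le` : `|B| ≥ 4`;
* `core` : `C_V(⟨B^Y⟩) = 0`;
* `hyp` : the structure `Plus.Hyp`;
* `five` : `|Ω| = 5`; `five'` : the five vectors; `card_V` : `|V| = 16` (from `NearFF.Dat` and (+)).
-/

set_option autoImplicit false

namespace Cfsg.Agent.Omega.NearFF.PlusFam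

open Subgroup MulAction Cfsg.Agent.Omega.Transv Cfsg.Agent.Omega.NearFF

variable {Y V : Type*} [Group Y] [AddCommGroup V] [Module (ZMod 2) V] [DistribMulAction Y V]

/-- `C_V(B)` -/
def fixV (V : Type*) [AddCommGroup V] [DistribMulAction Y V] (B : Subgroup Y) : AddSubgroup V where
  carrier := {v | ∀ b ∈ B, b • v = v}
  zero_mem' := fun b _ => smul_zero b
  add_mem' := fun {v w} hv hw b hb => by rw [smul_add, hv b hb, hw b hb]
  neg_mem' := fun {v} hv b hb => by rw [smul_neg, hv b hb]

/-- The part of `Dat` that does not speak of `B`. -/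
structure Base (T : Sylow 2 Y) (M : Subgroup Y) (z : V) : Prop where
  two : ∀ v : V, v + v = 0
  TM : (T : Subgroup Y) ≤ M
  Mne : M ≠ ⊤
  max : ∀ K : Subgroup Y, (T : Subgroup Y) ≤ K → K ≠ ⊤ → K ≤ M
  zfix : ∀ t ∈ T, t • z = z
  fix : ∀ v : V, (∀ t ∈ T, t • v = v) → v = 0 ∨ v = z
  zmv : ∃ y : Y, y • z ≠ z
  span : AddSubgroup.closure (orbit Y z) = ⊤

/-- The part of `Dat` used here, for one `B ∈ BB z`. -/
structure Fam (T : Sylow 2 Y) (M : Subgroup Y) (z : V) (f : V → Du V) (B : Subgroup Y) : Prop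
    extends Base T M z where
  f_smul : ∀ (y : Y) (x v : V), x ∈ orbit Y z → f (y • x) (y • v) = f x v
  f_z : f z z = 0
  f_ne : ∃ v, f z v = 1
  B_fix : ∀ b ∈ B, b • z = z
  comm : ∀ a ∈ B, ∀ b ∈ B, a * b = b * a
  sq : ∀ a ∈ B, a * a = 1
  free : ∀ b ∈ B, b ≠ 1 → ∀ v, b • v = v → f z v = 0
  card : Nat.card V = 2 * Nat.card B * Nat.card (fixV V B)
  surj : ∀ v, f z v = 1 → ∀ e, f z e = 0 → ∃ b ∈ B, b • v + v + e ∈ fixV V B

variable {T : Sylow 2 Y} {M : Subgroup Y} {z : V} {f : V → Du V} {B : Subgroup Y} {Q : V → Subgroup Y}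
  {BB : V → Set (Subgroup Y)}

/-- `|V| = 2 |B| |C_V(B)|` -/
theorem card_of [Finite Y] [Finite V] {φ : Du V} (hφ : φ ≠ 0) (h : NB φ B) :
    Nat.card V = 2 * Nat.card B * Nat.card (fixV V B) := by
  obtain ⟨v, hv⟩ := exists_one hφ
  have hfree : ∀ b ∈ B, b ≠ 1 → ∀ u, b • u = u → φ u = 0 := by
    intro b hb hb1 u hu
    by_contra hc
    refine hb1 (h.inj u (eq_one_of_ne hc) b hb ?_)
    intro c _
    unfold cm
    rw [hu, Transv.add_self, smul_zero]
  obtain ⟨b₀, hb₀, hb₀1⟩ : ∃ b ∈ B, b ≠ 1 := by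
    by_contra hcon
    push Not at hcon
    exact h.ne ((eq_bot_iff_forall _).2 hcon)
  have hCE : ∀ c : fixV V B, φ (c : V) = 0 := fun c => hfree b₀ hb₀ hb₀1 c (c.2 b₀ hb₀)
  have hcmE : ∀ b ∈ B, φ (cm b v) = 0 := by
    intro b hb
    unfold cm
    rw [map_add, h.inv b hb, hv, one_add_one]
  have hE2 : ∀ b ∈ B, ∀ c ∈ B, cm (b * c) v = b • cm c v + cm b v := by
    intro b _ c _
    unfold cm
    rw [mul_smul, smul_add]
    have : b • v + b • v = 0 := Transv.add_self _
    calc b • c • v + v = b • c • v + (b • v + b • v) + v := by rw [this, add_zero]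
      _ = _ := by abel
  let F : Bool × B × fixV V B → V := fun p => (if p.1 then v else 0) + (cm (p.2.1 : Y) v + (p.2.2 : V))
  have hφF : ∀ p, φ (F p) = if p.1 then 1 else 0 := by
    rintro ⟨p1, b, c⟩
    change φ ((if p1 then v else 0) + (cm (b : Y) v + (c : V))) = _
    rw [map_add, map_add, hcmE b b.2, hCE c, add_zero, add_zero]
    cases p1 <;> simp [hv]
  have hinj : Function.Injective F := by
    rintro ⟨p1, b, c⟩ ⟨q1, b', c'⟩ hF
    have h1 : p1 = q1 := by
      have h2 : (if q1 then (1 : ZMod 2) else 0) = if p1 then 1 else 0 :=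
        (hφF (q1, b', c')).symm.trans ((congrArg φ hF.symm).trans (hφF (p1, b, c)))
      clear hF
      revert h2
      cases p1 <;> cases q1 <;> decide
    subst h1
    have h2 : cm (b : Y) v + (c : V) = cm (b' : Y) v + (c' : V) := add_left_cancel hF
    have h3 : cm (b : Y) v + cm (b' : Y) v = (c : V) + (c' : V) := by
      calc cm (b : Y) v + cm (b' : Y) v = cm (b : Y) v + (c : V) + cm (b' : Y) v + (c : V) := by
            rw [show cm (b : Y) v + (c : V) + cm (b' : Y) v + (c : V) = cm (b : Y) v + cm (b' : Y) v +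
              ((c : V) + (c : V)) by abel, Transv.add_self, add_zero]
        _ = cm (b' : Y) v + (c' : V) + cm (b' : Y) v + (c : V) := by rw [h2]
        _ = (c : V) + (c' : V) + (cm (b' : Y) v + cm (b' : Y) v) := by abel
        _ = _ := by rw [Transv.add_self, add_zero]
    have h4 : Fx B (cm ((b : Y) * b') v) := by
      rw [hE2 b b.2 b' b'.2]
      have h5 : Fx B (cm (b : Y) (cm (b' : Y) v)) := h.ed _ (hcmE b' b'.2) b b.2
      have h6 : (b : Y) • cm (b' : Y) v + cm (b : Y) v = cm (b : Y) (cm (b' : Y) v) + ((c : V) + (c' : V)) := by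
        rw [← h3]
        change _ = (b : Y) • cm (b' : Y) v + cm (b' : Y) v + _
        rw [show (b : Y) • cm (b' : Y) v + cm (b' : Y) v + (cm (b : Y) v + cm (b' : Y) v) =
          (b : Y) • cm (b' : Y) v + cm (b : Y) v + (cm (b' : Y) v + cm (b' : Y) v) by abel, Transv.add_self,
          add_zero]
      rw [h6]
      intro d hd
      rw [smul_add, h5 d hd, smul_add, c.2 d hd, c'.2 d hd]
    have h7 := h.inj v hv _ (B.mul_mem b.2 b'.2) h4
    have h8 : (b : Y) = b' := by
      have h9 := h.sq b' b'.2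
      calc (b : Y) = b * (b' * b') := by rw [h9, mul_one]
        _ = b * b' * b' := by group
        _ = b' := by rw [h7, one_mul]
    have h9 : b = b' := Subtype.ext h8
    subst h9
    have h10 : (c : V) = c' := add_left_cancel h2
    rw [Subtype.ext h10]
  have hE : ∀ e : V, φ e = 0 → ∃ b : B, ∃ c : fixV V B, cm (b : Y) v + (c : V) = e := by
    intro e he
    obtain ⟨b, hb, hfx⟩ := h.surj v e hv he
    refine ⟨⟨b, hb⟩, ⟨cm b v + e, hfx⟩, ?_⟩
    change cm b v + (cm b v + e) = e
    rw [← add_assoc, Transv.add_self, zero_add]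
  have hsurj : Function.Surjective F := by
    intro u
    rcases zmod_cases (φ u) with hu | hu
    · obtain ⟨b, c, hbc⟩ := hE u hu
      refine ⟨(false, b, c), ?_⟩
      change (if false then v else 0) + (cm (b : Y) v + (c : V)) = u
      rw [hbc]
      simp
    · obtain ⟨b, c, hbc⟩ := hE (u + v) (by rw [map_add, hu, hv, one_add_one])
      refine ⟨(true, b, c), ?_⟩
      change (if true then v else 0) + (cm (b : Y) v + (c : V)) = u
      rw [hbc, if_pos rfl, add_comm u v, ← add_assoc, Transv.add_self, zero_add]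
  have h1 := Nat.card_congr (Equiv.ofBijective F ⟨hinj, hsurj⟩)
  rw [← h1, Nat.card_prod, Nat.card_prod, Nat.card_eq_fintype_card (α := Bool), Fintype.card_bool, mul_assoc]

theorem zmv_of (h : Dat T M z f Q BB) : ∃ y : Y, y • z ≠ z := by
  by_contra hcon
  push Not at hcon
  apply h.f_ne
  ext v
  have h1 : v ∈ Submodule.span (ZMod 2) (Set.range fun g : Y => g • z) := h.span ▸ Submodule.mem_top
  refine Submodule.span_induction (p := fun w _ => f z w = (0 : Du V) w) ?_ ?_ ?_ ?_ h1
  · rintro w ⟨g, rfl⟩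
    change f z (g • z) = 0
    rw [hcon g, h.f_self]
  · rw [map_zero, map_zero]
  · intro u w _ _ hu hw
    rw [map_add, map_add, hu, hw]
  · intro c u _ hu
    rw [map_smul, map_smul, hu]

theorem base_of (h : Dat T M z f Q BB) : Base T M z where
  two := Transv.add_self
  TM := h.le
  Mne := h.ne
  max := fun K hK hne => (h.max K hK).resolve_right hne
  zfix := h.z_fix
  fix := h.fixT
  zmv := zmv_of h
  span := by
    rw [eq_top_iff]
    intro v _
    have h1 : v ∈ Submodule.span (ZMod 2) (Set.range fun g : Y => g • z) := h.span ▸ Submodule.mem_top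
    refine Submodule.span_induction (p := fun w _ => w ∈ AddSubgroup.closure (orbit Y z)) ?_ ?_ ?_ ?_ h1
    · rintro w ⟨g, rfl⟩
      exact AddSubgroup.subset_closure ⟨g, rfl⟩
    · exact zero_mem _
    · intro u w _ _ hu hw
      exact add_mem hu hw
    · intro c u _ hu
      rcases zmod_cases c with h2 | h2
      · rw [h2, zero_smul]; exact zero_mem _
      · rw [h2, one_smul]; exact hu

theorem fam_of [Finite Y] [Finite V] (h : Dat T M z f Q BB) (hB : B ∈ BB z) : Fam T M z f B where
  toBase := base_of h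
  f_smul := by
    intro y x v hx
    rw [h.f_smul y x hx, dua_apply, inv_smul_smul]
  f_z := h.f_self
  f_ne := exists_one h.f_ne
  B_fix := fun b hb => h.q_fix b (h.bb_le B hB hb)
  comm := (h.bb B hB).comm
  sq := (h.bb B hB).sq
  free := by
    intro b hb hb1 u hu
    by_contra hc
    refine hb1 ((h.bb B hB).inj u (eq_one_of_ne hc) b hb ?_)
    intro c _
    unfold cm
    rw [hu, Transv.add_self, smul_zero]
  card := card_of h.f_ne (h.bb B hB)
  surj := fun v hv e he => (h.bb B hB).surj v e hv he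

theorem zfix_le [Finite Y] (h : Base T M z) {g : Y} (hg : g • z = z) : g ∈ M := by
  obtain ⟨y, hy⟩ := h.zmv
  refine h.max (stabilizer Y z) (fun t ht => ?_) (fun h1 => hy ?_) hg
  · exact h.zfix t ht
  · have : y ∈ stabilizer Y z := h1 ▸ mem_top y
    exact this

/-- a 2-element of `M` fixes `m • z`, `m ∈ M` -/
theorem exists_fix [Finite Y] (h : Base T M z) {a : Y} {n : ℕ} (ha : a ^ 2 ^ n = 1) (haM : a ∈ M) :
    ∃ m ∈ M, a • m • z = m • z := by
  have hp : IsPGroup 2 (zpowers a) := by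
    rintro ⟨x, k, rfl⟩
    refine ⟨n, Subtype.ext ?_⟩
    change (a ^ k) ^ 2 ^ n = 1
    rw [← zpow_natCast, ← zpow_mul, mul_comm, zpow_mul, zpow_natCast, ha, one_zpow]
  have h1 : IsPGroup 2 ((zpowers a).subgroupOf M) := hp.of_equiv (Subgroup.subgroupOfEquivOfLe (zpowers_le.2 haM)).symm
  obtain ⟨R, hR⟩ := h1.exists_le_sylow
  obtain ⟨m, hm⟩ := MulAction.exists_smul_eq M (T.subtype h.TM) R
  refine ⟨m, m.2, ?_⟩
  have h2 : (⟨a, haM⟩ : M) ∈ (R : Subgroup M) := hR (by rw [mem_subgroupOf]; exact mem_zpowers a)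
  rw [← hm, Sylow.coe_subgroup_smul, mem_pointwise_smul_iff_inv_smul_mem] at h2
  have h3 : (m : Y)⁻¹ * a * m ∈ (T : Subgroup Y) := by
    rw [← map_inv, MulAut.smul_def, MulAut.conj_apply, inv_inv] at h2
    exact h2
  have h4 := h.zfix _ h3
  rw [mul_smul, mul_smul, inv_smul_eq_iff] at h4
  exact h4

/-- (1) -/
theorem mem_of [Finite Y] (h : Fam T M z f B) (plus : ∀ g : Y, f z (g • z) = 0 → g ∈ M) {a : Y} (ha : a ∈ B) (ha1 : a ≠ 1) {g : Y} (hg : g⁻¹ * a * g ∈ M) : g ∈ M := by
  obtain ⟨m, hm, h1⟩ := exists_fix h.toBase (a := g⁻¹ * a * g) (n := 1) (by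
    rw [pow_one, pow_two]
    calc g⁻¹ * a * g * (g⁻¹ * a * g) = g⁻¹ * (a * a) * g := by group
      _ = 1 := by rw [h.sq a ha]; group) hg
  have h2 : a • (g * m) • z = (g * m) • z := by
    rw [mul_smul, mul_smul, inv_smul_eq_iff] at h1
    rw [mul_smul]
    exact h1
  have h3 := plus _ (h.free a ha ha1 _ h2)
  have := M.mul_mem h3 (M.inv_mem hm)
  rwa [mul_inv_cancel_right] at this

theorem two_smul_eq (h : Base T M z) (v : V) : -v = v := neg_eq_of_add_eq_zero_left (h.two v)

/-- `|B| ≥ 4` -/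
theorem four_le [Finite Y] [Finite V] (h : Fam T M z f B) : 4 ≤ Nat.card B := by
  have hcard := h.card
  have hC : 0 < Nat.card (fixV V B) := Nat.card_pos
  obtain ⟨v, hv⟩ := h.f_ne
  -- `|B|` is a power of 2
  have hp : IsPGroup 2 B := fun b => ⟨1, Subtype.ext (by simpa [pow_two] using h.sq b b.2)⟩
  obtain ⟨n, hn⟩ := IsPGroup.iff_card.1 hp
  -- `V = E ∪ (v + E)`
  have hVE : ∀ u : V, f z u = 0 ∨ f z (u + v) = 0 := by
    intro u
    rw [map_add, hv]
    generalize f z u = c
    revert c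
    decide
  rcases n with _ | _ | n
  · exfalso
    rw [pow_zero] at hn
    have hB1 : B = ⊥ := Subgroup.card_eq_one.1 hn
    have h1 : fixV V B = ⊤ := by
      rw [eq_top_iff]
      intro u _ b hb
      rw [hB1, mem_bot] at hb
      rw [hb, one_smul]
    rw [hn, h1, AddSubgroup.card_top] at hcard
    have : 0 < Nat.card V := Nat.card_pos
    omega
  · exfalso
    rw [zero_add, pow_one] at hn
    have hCB : ∀ e, f z e = 0 → e ∈ fixV V B := by
      intro e he
      obtain ⟨b, hb, h1⟩ := h.surj v hv e he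
      have h2 : b • v + v ∈ fixV V B := by
        intro c hc
        have h3 : c = 1 ∨ c = b ∨ b = 1 := by
          classical
          by_contra hcon
          push Not at hcon
          obtain ⟨h4, h5, h6⟩ := hcon
          haveI := Fintype.ofFinite B
          rw [Nat.card_eq_fintype_card] at hn
          have h7 : ({1, ⟨b, hb⟩, ⟨c, hc⟩} : Finset B).card = 3 := by
            rw [Finset.card_insert_of_notMem, Finset.card_pair]
            · intro h8; exact h5 (congrArg Subtype.val h8).symm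
            · simp only [Finset.mem_insert, Finset.mem_singleton, not_or]
              exact ⟨fun h8 => h6 (congrArg Subtype.val h8).symm, fun h8 => h4 (congrArg Subtype.val h8).symm⟩
          have h8 := Finset.card_le_univ ({1, ⟨b, hb⟩, ⟨c, hc⟩} : Finset B)
          omega
        rcases h3 with rfl | rfl | rfl
        · rw [one_smul]
        · rw [smul_add, ← mul_smul, h.sq _ hb, one_smul, add_comm]
        · rw [one_smul, h.two, smul_zero]
      have h3 := (fixV V B).add_mem ((fixV V B).neg_mem h2) h1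
      rwa [neg_add_cancel_left] at h3
    have h1 : Nat.card V ≤ 2 * Nat.card (fixV V B) := by
      have h2 : Nat.card V ≤ Nat.card (Bool × fixV V B) := by
        classical
        refine Nat.card_le_card_of_injective (fun u : V =>
          if hu : f z u = 0 then ((true, ⟨u, hCB u hu⟩) : Bool × fixV V B)
          else (false, ⟨u + v, hCB _ ((hVE u).resolve_left hu)⟩)) ?_
        intro u u' huu
        by_cases hu : f z u = 0
        · by_cases hu' : f z u' = 0
          · simp only [dif_pos hu, dif_pos hu', Prod.mk.injEq, Subtype.mk.injEq, true_and] at huu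
            exact huu
          · simp only [dif_pos hu, dif_neg hu', Prod.mk.injEq] at huu
            exact absurd huu.1 (by decide)
        · by_cases hu' : f z u' = 0
          · simp only [dif_neg hu, dif_pos hu', Prod.mk.injEq] at huu
            exact absurd huu.1 (by decide)
          · simp only [dif_neg hu, dif_neg hu', Prod.mk.injEq, Subtype.mk.injEq, true_and] at huu
            exact add_right_cancel huu
      rwa [Nat.card_prod, Nat.card_eq_fintype_card (α := Bool), Fintype.card_bool] at h2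
    rw [hn] at hcard
    omega
  · rw [hn, pow_succ, pow_succ]
    have : 0 < 2 ^ n := by positivity
    omega

/-- `C_V(⟨B^Y⟩) = 0` -/
theorem core [Finite Y] [Finite V] (h : Fam T M z f B) (plus : ∀ g : Y, f z (g • z) = 0 → g ∈ M) {v : V} (hv : ∀ g : Y, g • v ∈ fixV V B) : v = 0 := by
  have : Fact (Nat.Prime 2) := ⟨Nat.prime_two⟩
  set N := normalClosure (B : Set Y) with hN
  have hBN : B ≤ N := subset_normalClosure
  have hNT : N ⊔ T = ⊤ := by
    by_contra hne
    have h1 : N ≤ M := le_sup_left.trans (h.max _ le_sup_right hne)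
    -- `B ≠ 1`
    have h4 := four_le h
    obtain ⟨a, ha⟩ : ∃ a : B, a ≠ 1 := by
      by_contra hcon
      push Not at hcon
      have : Nat.card B ≤ 1 := by
        haveI : Subsingleton B := ⟨fun a b => by rw [hcon a, hcon b]⟩
        exact Finite.card_le_one_iff_subsingleton.2 inferInstance
      omega
    apply h.Mne
    rw [eq_top_iff]
    intro g _
    refine mem_of h plus a.2 (fun h2 => ha (Subtype.ext h2)) (h1 ?_)
    have h5 := (normalClosure_normal (s := (B : Set Y))).conj_mem a (hBN a.2) g⁻¹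
    rwa [inv_inv] at h5
  by_contra hv0
  -- `K = C_V(N)`
  let K : AddSubgroup V :=
    { carrier := {w | ∀ g : Y, g • w ∈ fixV V B}
      zero_mem' := fun g => by rw [smul_zero]; exact zero_mem _
      add_mem' := fun {u w} hu hw g => by rw [smul_add]; exact add_mem (hu g) (hw g)
      neg_mem' := fun {u} hu g => by rw [smul_neg]; exact neg_mem (hu g) }
  have hKT : ∀ t : Y, ∀ w ∈ K, t • w ∈ K := fun t w hw g => by
    rw [← mul_smul]; exact hw _
  letI : MulAction T K :=
    { smul := fun t w => ⟨(t : Y) • (w : V), hKT t w w.2⟩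
      one_smul := fun w => Subtype.ext (one_smul Y (w : V))
      mul_smul := fun t t' w => Subtype.ext (mul_smul (t : Y) (t' : Y) (w : V)) }
  have hmod := T.isPGroup'.card_modEq_card_fixedPoints K
  have h0 : (0 : K) ∈ fixedPoints T K := fun t => Subtype.ext (smul_zero (t : Y))
  -- `|K|` is even
  have heven : 2 ∣ Nat.card K := by
    have h1 : (⟨v, hv⟩ : K) ≠ 0 := fun h2 => hv0 (congrArg Subtype.val h2)
    have h2 : addOrderOf (⟨v, hv⟩ : K) = 2 := by
      refine addOrderOf_eq_prime ?_ h1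
      rw [two_nsmul]
      exact Subtype.ext (h.two v)
    rw [← h2]
    exact addOrderOf_dvd_natCard _
  have h2 : 2 ∣ Nat.card (fixedPoints T K) := (Nat.modEq_zero_iff_dvd).1
    (hmod.symm.trans ((Nat.modEq_zero_iff_dvd).2 heven))
  obtain ⟨w, hw⟩ : ∃ w : fixedPoints T K, (w : K) ≠ 0 := by
    by_contra hcon
    push Not at hcon
    have h3 : Nat.card (fixedPoints T K) ≤ 1 := by
      haveI : Subsingleton (fixedPoints T K) := ⟨fun a b => Subtype.ext (by rw [hcon a, hcon b])⟩
      exact Finite.card_le_one_iff_subsingleton.2 inferInstance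
    have h4 : 0 < Nat.card (fixedPoints T K) := by
      haveI : Nonempty (fixedPoints T K) := ⟨⟨0, h0⟩⟩
      exact Nat.card_pos
    have := Nat.le_of_dvd h4 h2
    omega
  have hwT : ∀ t ∈ T, t • ((w : K) : V) = ((w : K) : V) := fun t ht =>
    congrArg Subtype.val (w.2 ⟨t, ht⟩)
  have hwz : ((w : K) : V) = z := (h.fix _ hwT).resolve_left fun h3 => hw (Subtype.ext h3)
  have hzK : z ∈ K := hwz ▸ (w : K).2
  obtain ⟨y, hy⟩ := h.zmv
  apply hy
  have h3 : N ≤ stabilizer Y z := by
    refine (closure_le _).2 ?_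
    intro κ hκ
    rw [Group.mem_conjugatesOfSet_iff] at hκ
    obtain ⟨a, ha, hc⟩ := hκ
    obtain ⟨g, rfl⟩ := isConj_iff.1 hc
    have h4 := hzK g⁻¹ a ha
    change (g * a * g⁻¹) • z = z
    rw [mul_smul, mul_smul, h4, smul_inv_smul]
  have h4 : N ⊔ T ≤ stabilizer Y z := sup_le h3 fun t ht => h.zfix t ht
  rw [hNT] at h4
  exact h4 (mem_top y)

/-! ### The structure `Plus.Hyp` -/

/-- the action on `Multiplicative V` -/
@[reducible] def act : MulDistribMulAction Y (Multiplicative V) where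
  smul g v := Multiplicative.ofAdd (g • v.toAdd)
  one_smul v := one_smul Y v.toAdd
  mul_smul g h v := mul_smul g h v.toAdd
  smul_mul g u v := smul_add g u.toAdd v.toAdd
  smul_one g := smul_zero (A := V) g

attribute [local instance] act

theorem sq_mul (h : Base T M z) (v : Multiplicative V) : v * v = 1 := h.two v.toAdd

/-- `E_x` -/
def EE (f : V → Du V) (x : Multiplicative V) : Subgroup (Multiplicative V) where
  carrier := {v | f x.toAdd v.toAdd = 0}
  one_mem' := map_zero _
  mul_mem' := fun {u v} hu hv => by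
    change f x.toAdd (u.toAdd + v.toAdd) = 0
    have hu' : f x.toAdd u.toAdd = 0 := hu
    have hv' : f x.toAdd v.toAdd = 0 := hv
    rw [map_add, hu', hv', add_zero]
  inv_mem' := fun {u} hu => by
    change f x.toAdd (-u.toAdd) = 0
    have hu' : f x.toAdd u.toAdd = 0 := hu
    rw [map_neg, hu', neg_zero]

theorem mem_EE {x v : Multiplicative V} : v ∈ EE f x ↔ f x.toAdd v.toAdd = 0 := Iff.rfl

/-- `M_x = M_y` -/
def rr (M : Subgroup Y) (z : V) (x y : Multiplicative V) : Prop :=
  ∃ a c : Y, x.toAdd = a • z ∧ y.toAdd = c • z ∧ a⁻¹ * c ∈ M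

theorem rr_iff [Finite Y] (h : Base T M z) {a c : Y} :
    rr M z (Multiplicative.ofAdd (a • z)) (Multiplicative.ofAdd (c • z)) ↔ a⁻¹ * c ∈ M := by
  constructor
  · rintro ⟨a', c', h1, h2, h3⟩
    have h1' : a • z = a' • z := h1
    have h2' : c • z = c' • z := h2
    have h4 : a⁻¹ * a' ∈ M := zfix_le h (by rw [mul_smul, ← h1', inv_smul_smul])
    have h5 : c'⁻¹ * c ∈ M := zfix_le h (by rw [mul_smul, h2', inv_smul_smul])
    have h6 := M.mul_mem (M.mul_mem h4 h3) h5
    have e : a⁻¹ * a' * (a'⁻¹ * c') * (c'⁻¹ * c) = a⁻¹ * c := by group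
    rwa [e] at h6
  · intro h3
    exact ⟨a, c, rfl, rfl, h3⟩

theorem card_mul (W : AddSubgroup V) : Nat.card W = Nat.card (AddSubgroup.toSubgroup W) := rfl

/-- `Plus.Hyp` from `Fam` and (+) -/
theorem hyp [Finite Y] [Finite V] (h : Fam T M z f B) (plus : ∀ g : Y, f z (g • z) = 0 → g ∈ M) :
    Plus.Hyp (Y := Y) (V := Multiplicative V) (Multiplicative.ofAdd z) (EE f) (rr M z) B where
  sq := sq_mul h.toBase
  gen := by
    have h1 := h.span
    rw [eq_top_iff]
    intro v _
    have hv : v.toAdd ∈ AddSubgroup.closure (orbit Y z) := h1 ▸ AddSubgroup.mem_top _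
    refine AddSubgroup.closure_induction (p := fun w _ => Multiplicative.ofAdd w ∈
      Subgroup.closure (Plus.Om Y (Multiplicative.ofAdd z))) ?_ ?_ ?_ ?_ hv
    · rintro w ⟨g, rfl⟩
      exact subset_closure ⟨g, rfl⟩
    · exact one_mem _
    · intro u w _ _ hu hw
      exact mul_mem hu hw
    · intro u _ hu
      exact inv_mem hu
  E_smul := by
    rintro g x ⟨a, rfl⟩ v
    exact ⟨fun h1 => (h.f_smul g (a • z) v.toAdd ⟨a, rfl⟩).symm.trans h1,
      fun h1 => (h.f_smul g (a • z) v.toAdd ⟨a, rfl⟩).trans h1⟩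
  E_self := by
    rintro x ⟨a, rfl⟩
    exact (h.f_smul a z z (mem_orbit_self z)).trans h.f_z
  E_two := by
    intro x _ u v hu hv
    have hu' : f x.toAdd u.toAdd ≠ 0 := hu
    have hv' : f x.toAdd v.toAdd ≠ 0 := hv
    change f x.toAdd (u.toAdd + v.toAdd) = 0
    rw [map_add]
    revert hu' hv'
    generalize f x.toAdd u.toAdd = c
    generalize f x.toAdd v.toAdd = d
    revert c d
    decide
  refl := by
    rintro x ⟨a, rfl⟩
    exact (rr_iff h.toBase).2 (by rw [inv_mul_cancel]; exact one_mem _)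
  symm := by
    rintro x ⟨a, rfl⟩ y ⟨c, rfl⟩ h1
    have h2 := M.inv_mem ((rr_iff h.toBase).1 h1)
    rw [mul_inv_rev, inv_inv] at h2
    exact (rr_iff h.toBase).2 h2
  trans := by
    rintro x ⟨a, rfl⟩ y ⟨c, rfl⟩ w ⟨d, rfl⟩ h1 h2
    have h3 := M.mul_mem ((rr_iff h.toBase).1 h1) ((rr_iff h.toBase).1 h2)
    have e : a⁻¹ * c * (c⁻¹ * d) = a⁻¹ * d := by group
    rw [e] at h3
    exact (rr_iff h.toBase).2 h3
  inv := by
    rintro g x ⟨a, rfl⟩ y ⟨c, rfl⟩ h1
    have h3 := (rr_iff h.toBase).1 h1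
    refine ⟨g * a, g * c, (mul_smul g a z).symm, (mul_smul g c z).symm, ?_⟩
    rwa [mul_inv_rev, mul_assoc, inv_mul_cancel_left]
  ne := by
    by_contra hcon
    push Not at hcon
    apply h.Mne
    rw [eq_top_iff]
    intro g _
    have h1 := hcon (Multiplicative.ofAdd (g • z)) ⟨g, rfl⟩
    have h2 : rr M z (Multiplicative.ofAdd ((1 : Y) • z)) (Multiplicative.ofAdd (g • z)) := by rwa [one_smul]
    have h3 := (rr_iff h.toBase).1 h2
    rwa [inv_one, one_mul] at h3
  fix_z := fun b hb => h.B_fix b hb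
  four := four_le h
  free := fun a ha ha1 v hv => h.free a ha ha1 v.toAdd hv
  fixed := by
    rintro a ha x ⟨g, rfl⟩ h1
    have h2 : rr M z (Multiplicative.ofAdd ((a * g) • z)) (Multiplicative.ofAdd (g • z)) := by
      rw [mul_smul]; exact h1
    have h3 := (rr_iff h.toBase).1 h2
    have h4 : g⁻¹ * a * g ∈ M := by
      have h5 := M.inv_mem h3
      have e : ((a * g)⁻¹ * g)⁻¹ = g⁻¹ * a * g := by group
      rwa [e] at h5
    obtain ⟨m, hm, h5⟩ := exists_fix h.toBase (a := g⁻¹ * a * g) (n := 1) (by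
      rw [pow_one, pow_two]
      calc g⁻¹ * a * g * (g⁻¹ * a * g) = g⁻¹ * (a * a) * g := by group
        _ = 1 := by rw [h.sq a ha]; group) h4
    refine ⟨Multiplicative.ofAdd ((g * m) • z), ⟨g * m, rfl⟩, (rr_iff h.toBase).2 ?_, ?_⟩
    · have e : (g * m)⁻¹ * g = m⁻¹ := by group
      rw [e]; exact inv_mem hm
    · change a • (g * m) • z = (g * m) • z
      rw [mul_smul, mul_smul, inv_smul_eq_iff] at h5
      rw [mul_smul]
      exact h5
  idx := by
    have h1 := (Plus.fx (V := Multiplicative V) B).card_mul_index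
    have h2 : Nat.card (Plus.fx (V := Multiplicative V) B) = Nat.card (fixV V B) := rfl
    have h3 : Nat.card (Multiplicative V) = Nat.card V := rfl
    have h4 := h.card
    have h5 : 0 < Nat.card (fixV V B) := Nat.card_pos
    rw [h2, h3, h4] at h1
    have h6 : Nat.card (fixV V B) * (Plus.fx (V := Multiplicative V) B).index =
        Nat.card (fixV V B) * (2 * Nat.card B) := by rw [h1]; ring
    exact (Nat.eq_of_mul_eq_mul_left h5 h6).le
  core := fun v hv => core h plus (v := v.toAdd) hv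
  plus := by
    rintro x ⟨a, rfl⟩ y ⟨c, rfl⟩ h1
    refine (rr_iff h.toBase).2 (plus _ ?_)
    have h2 : f (a • z) (c • z) = 0 := h1
    have h3 := h.f_smul a z ((a⁻¹ * c) • z) (mem_orbit_self z)
    rw [← mul_smul, mul_inv_cancel_left] at h3
    rw [← h3]; exact h2

/-- the five vectors -/
theorem five' [Finite Y] [Finite V] (h : Dat T M z f Q BB) (plus : ∀ g : Y, f z (g • z) = 0 → g ∈ M) :
    ∃ w : Fin 5 → V, Function.Injective w ∧ w 0 = z ∧ Set.range w = orbit Y z ∧
      w 0 + w 1 + w 2 + w 3 + w 4 = 0 ∧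
      (∀ g : Y, ∃ σ : Equiv.Perm (Fin 5), ∀ i, g • w i = w (σ i)) ∧
      ∀ σ ∈ alternatingGroup (Fin 5), ∃ g : Y, ∀ i, g • w i = w (σ i) := by
  obtain ⟨B, hB⟩ := h.bb_ne
  obtain ⟨w, h1, h2, h3, h4, -, h6, h7⟩ := (hyp (fam_of h hB) plus).main (h.bb B hB).sq
  exact ⟨w, h1, h2, h3, h4, h6, h7⟩

/-- **(+) ⟹ `|Ω| = 5`** -/
theorem five [Finite Y] [Finite V] (h : Dat T M z f Q BB) (plus : ∀ g : Y, f z (g • z) = 0 → g ∈ M) :
    Nat.card (orbit Y z) = 5 := by
  obtain ⟨w, h1, -, h3, -⟩ := five' h plus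
  rw [← h3, Nat.card_congr (Equiv.ofInjective w h1).symm, Nat.card_eq_fintype_card, Fintype.card_fin]

theorem card_V [Finite Y] [Finite V] (h : Dat T M z f Q BB) (plus : ∀ g : Y, f z (g • z) = 0 → g ∈ M) :
    Nat.card V = 16 := by
  obtain ⟨B, hB⟩ := h.bb_ne
  exact (hyp (fam_of h hB) plus).card_V

end Cfsg.Agent.Omega.NearFF.PlusFam
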