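import Cfsg.Agent.Omega.NearFF.MPair

/-!
# (BT), `|V/E| = 2`: existence of minimal pairs (project OMEGA, leaf N1)

Text: helper132 (bb OMEGA #17318), (MIN).

* `Dat.exists_mp` : `Dat → MP`.
-/

set_option autoImplicit false
set_option linter.unusedSectionVars false

namespace Cfsg.Agent.Omega.NearFF

open Subgroup Cfsg.Agent.Omega.Transv

section grp

variable {Γ : Type*} [Group Γ] [Finite Γ]

/-- a 2-group inside a subgroup over a Sylow 2-subgroup `P` is conjugate there into `P` -/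
theorem sylow_conj (P : Sylow 2 Γ) {K : Subgroup Γ} (hK : (P : Subgroup Γ) ≤ K) {R : Subgroup Γ}
    (hR : IsPGroup 2 R) (hRK : R ≤ K) : ∃ k ∈ K, ∀ r ∈ R, k⁻¹ * r * k ∈ P := by
  have : Fact (Nat.Prime 2) := ⟨Nat.prime_two⟩
  let TK : Sylow 2 K := P.subtype hK
  have hRK' : IsPGroup 2 (R.subgroupOf K) := hR.comap_of_injective K.subtype Subtype.coe_injective
  obtain ⟨Q, hQ⟩ := hRK'.exists_le_sylow
  obtain ⟨k, hk⟩ := MulAction.exists_smul_eq K TK Q
  refine ⟨k, k.2, fun r hr => ?_⟩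
  have h1 : (⟨r, hRK hr⟩ : K) ∈ (Q : Subgroup K) := hQ (mem_subgroupOf.mpr hr)
  rw [← hk, Sylow.coe_subgroup_smul, Subgroup.mem_pointwise_smul_iff_inv_smul_mem] at h1
  have h2 : ((k⁻¹ * ⟨r, hRK hr⟩ * k : K)) ∈ (TK : Subgroup K) := by
    have h3 : (MulAut.conj k)⁻¹ • (⟨r, hRK hr⟩ : K) = k⁻¹ * ⟨r, hRK hr⟩ * k := by
      rw [← map_inv, MulAut.smul_def, MulAut.conj_apply, inv_inv]
    rwa [h3] at h1
  exact h2

/-- `P ∩ N` is Sylow in the normal subgroup `N`: Frattini -/
theorem frattini_inf (P : Sylow 2 Γ) (N : Subgroup Γ) [N.Normal] :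
    normalizer (((P : Subgroup Γ) ⊓ N : Subgroup Γ) : Set Γ) ⊔ N = ⊤ := by
  have : Fact (Nat.Prime 2) := ⟨Nat.prime_two⟩
  have hd : ¬ 2 ∣ (P : Subgroup Γ).relIndex N := by
    have h1 := relIndex_mul_relIndex ((P : Subgroup Γ) ⊓ N) N ((P : Subgroup Γ) ⊔ N) inf_le_right le_sup_right
    have h2 := relIndex_mul_relIndex ((P : Subgroup Γ) ⊓ N) P ((P : Subgroup Γ) ⊔ N) inf_le_left le_sup_left
    rw [inf_relIndex_left, ← relIndex_sup_right (H := (P : Subgroup Γ)) (K := N), ← h1,
      inf_relIndex_right, mul_comm] at h2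
    have h3 : (N.relIndex ((P : Subgroup Γ) ⊔ N)) ≠ 0 := index_ne_zero_of_finite
    have h4 := Nat.eq_of_mul_eq_mul_right (Nat.pos_of_ne_zero h3) h2
    rw [← h4]
    intro h5
    exact P.not_dvd_index (h5.trans (relIndex_dvd_index_of_le le_sup_left))
  let Q : Sylow 2 N := (P.2.comap_subtype (K := N)).toSylow hd
  have hQ : (Q : Subgroup N) = (P : Subgroup Γ).subgroupOf N := rfl
  have h1 := Q.normalizer_sup_eq_top
  rw [hQ, subgroupOf_map_subtype] at h1
  exact h1

theorem isPGroup_zpowers_of_sq {y : Γ} (hy : y * y = 1) : IsPGroup 2 (zpowers y) := by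
  rintro ⟨w, hw⟩
  obtain ⟨n, rfl⟩ := mem_zpowers_iff.mp hw
  refine ⟨1, Subtype.ext ?_⟩
  rw [pow_one]
  change (y ^ n) ^ 2 = 1
  rw [← zpow_natCast, ← zpow_mul, mul_comm, zpow_mul, zpow_natCast, pow_two, hy, one_zpow]

end grp

variable {Y : Type*} [Group Y] {V : Type*} [AddCommGroup V] [Module (ZMod 2) V] [DistribMulAction Y V]

theorem dua_conj_eq {φ : Du V} {x b : Y} : dua (x⁻¹ * b * x) φ = φ ↔ dua b (dua x φ) = dua x φ := by
  rw [dua_mul, dua_mul]
  constructor
  · intro h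
    have h1 : dua x (dua x⁻¹ (dua b (dua x φ))) = dua x φ := by rw [h]
    rwa [← dua_mul, mul_inv_cancel, dua_one] at h1
  · intro h
    rw [h, ← dua_mul, inv_mul_cancel, dua_one]

namespace Dat

variable {T : Sylow 2 Y} {M : Subgroup Y} {z : V} {f : V → Du V} {Q : V → Subgroup Y}
  {BB : V → Set (Subgroup Y)} (h : Dat T M z f Q BB)
include h

theorem exists_move : ∃ g : Y, f (g • z) ≠ f z := by
  by_contra hc
  push Not at hc
  apply h.ne
  rw [eq_top_iff]
  intro g _
  apply h.stab_le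
  rw [mem_stabF, ← h.f_orbit]
  exact hc g

/-- **(MIN)**: minimal pairs exist. -/
theorem exists_mp [Finite Y] [Finite V] {B : Subgroup Y} (hB : B ∈ BB z) :
    ∃ (B' : Subgroup Y) (L : Subgroup Y) (w : V), B' ∈ BB z ∧ MP (f z) B' L w := by
  classical
  have : Fact (Nat.Prime 2) := ⟨Nat.prime_two⟩
  -- the minimal pair
  have hex : ∃ n : ℕ, ∃ B₁ ∈ BB z, ∃ g : Y, ∃ C₁ ∈ BB (g • z), f (g • z) ≠ f z ∧
      Nat.card (B₁ ⊔ C₁ : Subgroup Y) = n := by
    obtain ⟨g, hg⟩ := h.exists_move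
    exact ⟨_, B, hB, g, _, h.bb_smul g z (MulAction.mem_orbit_self z) B hB, hg, rfl⟩
  obtain ⟨B₁, hB₁, g, C₁, hC₁, hne, hcard⟩ := Nat.find_spec hex
  have hmin : ∀ B₂ ∈ BB z, ∀ k : Y, ∀ C₂ ∈ BB (k • z), f (k • z) ≠ f z →
      Nat.card (B₁ ⊔ C₁ : Subgroup Y) ≤ Nat.card (B₂ ⊔ C₂ : Subgroup Y) := by
    intro B₂ hB₂ k C₂ hC₂ hk
    rw [hcard]
    exact Nat.find_min' hex ⟨B₂, hB₂, k, C₂, hC₂, hk, rfl⟩
  set L := B₁ ⊔ C₁ with hL
  have hBL : B₁ ≤ L := le_sup_left
  have hN := h.bb B₁ hB₁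
  -- generation
  have hgen : ∀ x ∈ L, dua x (f z) ≠ f z → ∀ H : Subgroup Y, B₁ ≤ H → (∀ b ∈ B₁, x * b * x⁻¹ ∈ H) → L ≤ H := by
    intro x hx hxne H h1 h2
    have h3 : B₁.map (MulAut.conj x).toMonoidHom ∈ BB (x • z) :=
      h.bb_smul x z (MulAction.mem_orbit_self z) B₁ hB₁
    have h4 := hmin B₁ hB₁ x _ h3 (by rwa [h.f_orbit])
    have h5 : B₁ ⊔ B₁.map (MulAut.conj x).toMonoidHom ≤ L := by
      refine sup_le hBL ?_
      rintro _ ⟨b, hb, rfl⟩
      exact mul_mem (mul_mem hx (hBL hb)) (inv_mem hx)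
    have h6 : B₁ ⊔ B₁.map (MulAut.conj x).toMonoidHom = L := eq_of_le_of_card_ge h5 h4
    rw [← h6]
    refine sup_le h1 ?_
    rintro _ ⟨b, hb, rfl⟩
    exact h2 b hb
  have hmv : ∃ x ∈ L, dua x (f z) ≠ f z := by
    by_contra hc
    push Not at hc
    have h1 : C₁ ≤ stabF Y (f ((1 : Y) • z)) := by
      intro c hc'
      rw [one_smul, mem_stabF]
      exact hc c (le_sup_right (a := B₁) hc')
    have h2 := h.bb_fix hC₁ h1
    rw [one_smul] at h2
    exact hne h2.symm
  -- a Sylow 2-subgroup of `L` over `B₁`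
  have hB2 : IsPGroup 2 (B₁.subgroupOf L) :=
    (h.B_two hB₁).comap_of_injective L.subtype Subtype.coe_injective
  obtain ⟨P, hP⟩ := hB2.exists_le_sylow
  have hTL : IsPGroup 2 ((P : Subgroup L).map L.subtype) := P.2.map _
  obtain ⟨k, -, hk⟩ := sylow_conj T (K := ⊤) le_top hTL le_top
  have hPw : ∀ r ∈ (P : Subgroup L), (r : Y) • (k • z) = k • z := by
    intro r hr
    have h1 := h.z_fix _ (hk _ ⟨r, hr, rfl⟩)
    change (k⁻¹ * (r : Y) * k) • z = z at h1
    rwa [mul_smul, mul_smul, inv_smul_eq_iff] at h1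
  have hBP : ∀ b (hb : b ∈ B₁), (⟨b, hBL hb⟩ : L) ∈ (P : Subgroup L) := fun b hb => hP (mem_subgroupOf.mpr hb)
  have hfix : Fx B₁ (k • z) := fun b hb => hPw _ (hBP b hb)
  have hfw : f (k • z) = f z := h.star B₁ hB₁ _ ⟨k, rfl⟩ hfix
  have hstab : ∀ l : Y, l • (k • z) = k • z → dua l (f z) = f z := by
    intro l hl
    have h1 := h.f_smul l (k • z) ⟨k, rfl⟩
    rw [hl, hfw] at h1
    exact h1.symm
  refine ⟨B₁, L, k • z, hB₁, ?_⟩
  exact
    { faith := h.faith
      ne := h.f_ne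
      nb := hN
      le := hBL
      ex := hmv
      min := hgen
      fixw := hfix
      stab := fun l _ hl => hstab l hl
      syl := by
        intro x hx b hb hbx
        have h1 : dua (x⁻¹ * b * x) (f z) = f z := dua_conj_eq.mpr hbx
        have hxb : x⁻¹ * b * x ∈ L := mul_mem (mul_mem (inv_mem hx) (hBL hb)) hx
        let K : Subgroup L := (stabF Y (f z)).subgroupOf L
        have hPK : (P : Subgroup L) ≤ K := by
          intro r hr
          rw [mem_subgroupOf, mem_stabF]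
          exact hstab _ (hPw r hr)
        have hR : IsPGroup 2 (zpowers (⟨x⁻¹ * b * x, hxb⟩ : L)) := by
          refine isPGroup_zpowers_of_sq ?_
          refine Subtype.ext ?_
          change x⁻¹ * b * x * (x⁻¹ * b * x) = 1
          rw [show x⁻¹ * b * x * (x⁻¹ * b * x) = x⁻¹ * (b * b) * x by group, hN.sq b hb]
          group
        obtain ⟨l, hl, hl'⟩ := sylow_conj P hPK hR (zpowers_le.mpr (mem_subgroupOf.mpr h1))
        refine ⟨x * l, mul_mem hx l.2, ?_, ?_⟩
        · rw [dua_mul]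
          rw [show dua (l : Y) (f z) = f z from hl]
        · have h2 := hPw _ (hl' _ (mem_zpowers _))
          have h3 : ((l⁻¹ * ⟨x⁻¹ * b * x, hxb⟩ * l : L) : Y) = (x * l)⁻¹ * b * (x * l) := by
            simp only [Subgroup.coe_mul, Subgroup.coe_inv]
            group
          rw [h3, mul_smul, mul_smul, inv_smul_eq_iff] at h2
          exact h2
      core := by
        intro b hb hbc x hx
        let N : Subgroup L :=
          { carrier := {l | ∀ x ∈ L, dua (l : Y) (dua x (f z)) = dua x (f z)}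
            mul_mem' := by
              intro a c ha hc x hx
              rw [Subgroup.coe_mul, dua_mul, hc x hx, ha x hx]
            one_mem' := by
              intro x hx
              rw [Subgroup.coe_one, dua_one]
            inv_mem' := by
              intro a ha x hx
              have h1 := ha x hx
              conv_lhs => rw [← h1]
              rw [Subgroup.coe_inv, ← dua_mul, inv_mul_cancel, dua_one] }
        have hNn : N.Normal := by
          refine ⟨fun n hn l x hx => ?_⟩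
          have h1 := hn ((l : Y)⁻¹ * x) (mul_mem (inv_mem l.2) hx)
          rw [dua_mul] at h1
          rw [Subgroup.coe_mul, Subgroup.coe_mul, Subgroup.coe_inv, dua_mul, dua_mul, h1, ← dua_mul,
            mul_inv_cancel, dua_one]
        have hfr := frattini_inf P N
        set R : Subgroup L := (P : Subgroup L) ⊓ N with hR
        have hPR : (P : Subgroup L) ≤ normalizer (R : Set L) := by
          intro r hr
          rw [mem_normalizer_iff]
          intro s
          rw [hR, mem_inf, mem_inf]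
          constructor
          · rintro ⟨h1, h2⟩
            exact ⟨(P : Subgroup L).mul_mem ((P : Subgroup L).mul_mem hr h1) ((P : Subgroup L).inv_mem hr),
              hNn.conj_mem _ h2 _⟩
          · rintro ⟨h1, h2⟩
            refine ⟨?_, ?_⟩
            · have h3 := (P : Subgroup L).mul_mem ((P : Subgroup L).mul_mem ((P : Subgroup L).inv_mem hr) h1) hr
              rwa [show r⁻¹ * (r * s * r⁻¹) * r = s by group] at h3
            · have h3 := hNn.conj_mem _ h2 r⁻¹
              rwa [show r⁻¹ * (r * s * r⁻¹) * r⁻¹⁻¹ = s by group] at h3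
        -- `N_L(R) = L`
        have hmv' : ∃ x : L, x ∈ normalizer (R : Set L) ∧ dua (x : Y) (f z) ≠ f z := by
          by_contra hc
          push Not at hc
          obtain ⟨x, hx, hxne⟩ := hmv
          have h1 : (normalizer (R : Set L) ⊔ N : Subgroup L) ≤ (stabF Y (f z)).subgroupOf L := by
            refine sup_le (fun y hy => mem_subgroupOf.mpr (hc y hy)) fun y hy => mem_subgroupOf.mpr ?_
            have h2 := hy 1 (one_mem _)
            rwa [dua_one] at h2
          rw [hfr] at h1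
          exact hxne (mem_subgroupOf.mp (h1 (mem_top (⟨x, hx⟩ : L))))
        obtain ⟨x₀, hx₀, hx₀ne⟩ := hmv'
        have hall : L ≤ (normalizer (R : Set L)).map L.subtype := by
          refine hgen x₀ x₀.2 hx₀ne _ (fun b hb => ⟨⟨b, hBL hb⟩, hPR (hBP b hb), rfl⟩) fun b hb => ?_
          exact ⟨x₀ * ⟨b, hBL hb⟩ * x₀⁻¹, mul_mem (mul_mem hx₀ (hPR (hBP b hb))) (inv_mem hx₀), rfl⟩
        have hxR : (⟨x, hx⟩ : L) ∈ normalizer (R : Set L) := by
          obtain ⟨y, hy, e⟩ := hall hx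
          have : y = ⟨x, hx⟩ := Subtype.ext e
          rwa [← this]
        have hbR : (⟨b, hBL hb⟩ : L) ∈ R := ⟨hBP b hb, hbc⟩
        have h1 : (⟨x, hx⟩ : L)⁻¹ * ⟨b, hBL hb⟩ * ⟨x, hx⟩ ∈ R := (mem_normalizer_iff''.mp hxR _).mp hbR
        have h2 := hPw _ h1.1
        simp only [Subgroup.coe_mul, Subgroup.coe_inv] at h2
        rw [mul_smul, mul_smul, inv_smul_eq_iff] at h2
        exact h2
      noff := h.noff }

end Dat

end Cfsg.Agent.Omega.NearFF
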