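import Cfsg.Agent.Omega.NearFF.Geo

/-!
# THEOREM BT2 (helper318, bb 13091): steps (4) and (5)

If `x, y, x + y` are points and `x, y` are not perpendicular then all vectors are points; this is impossible.
-/

set_option autoImplicit false

namespace Cfsg.Agent.Omega.NearFF

open Subgroup Transv

variable {Y : Type*} [Group Y] {V : Type*} [AddCommGroup V] [Module (ZMod 2) V] [DistribMulAction Y V]

/-- the four-group of two commuting involutions -/
def four {a b : Y} (ha : a * a = 1) (hb : b * b = 1) (hab : a * b = b * a) : Subgroup Y where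
  carrier := {g | g = 1 ∨ g = a ∨ g = b ∨ g = a * b}
  one_mem' := Or.inl rfl
  mul_mem' := by
    have h1 : a * (a * b) = b := by rw [← mul_assoc, ha, one_mul]
    have h2 : b * (a * b) = a := by rw [hab, ← mul_assoc, hb, one_mul]
    have h3 : a * b * a = b := by rw [hab, mul_assoc, ha, mul_one]
    have h4 : a * b * b = a := by rw [mul_assoc, hb, mul_one]
    have h5 : a * b * (a * b) = 1 := by rw [mul_assoc, h2, ha]
    rintro g k (rfl | rfl | rfl | rfl) (rfl | rfl | rfl | rfl) <;> simp [ha, hb, h1, h2, h3, h4, h5, ← hab]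
  inv_mem' := by
    have h5 : a * b * (a * b) = 1 := by
      have h2 : b * (a * b) = a := by rw [hab, ← mul_assoc, hb, one_mul]
      rw [mul_assoc, h2, ha]
    rintro g (rfl | rfl | rfl | rfl)
    · exact Or.inl inv_one
    · exact Or.inr (Or.inl (inv_eq_of_mul_eq_one_left ha))
    · exact Or.inr (Or.inr (Or.inl (inv_eq_of_mul_eq_one_left hb)))
    · exact Or.inr (Or.inr (Or.inr (inv_eq_of_mul_eq_one_left h5)))

theorem mem_four {a b : Y} {ha : a * a = 1} {hb : b * b = 1} {hab : a * b = b * a} {g : Y} :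
    g ∈ four ha hb hab ↔ g = 1 ∨ g = a ∨ g = b ∨ g = a * b := Iff.rfl

theorem card_four {a b : Y} {ha : a * a = 1} {hb : b * b = 1} {hab : a * b = b * a} (h1 : a ≠ 1) (h2 : b ≠ 1)
    (h3 : a ≠ b) : Nat.card (four ha hb hab) = 4 := by
  classical
  have h4 : ((four ha hb hab : Subgroup Y) : Set Y) = (({1, a, b, a * b} : Finset Y) : Set Y) := by
    ext g
    simp only [Finset.coe_insert, Finset.coe_singleton, Set.mem_insert_iff, Set.mem_singleton_iff]
    exact Iff.rfl
  have h5 : a * b ≠ 1 := fun h => h3 (by rw [← mul_one a, ← hb, ← mul_assoc, h, one_mul])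
  have h6 : a * b ≠ a := fun h => h2 (mul_eq_left.mp h)
  have h7 : a * b ≠ b := fun h => h1 (mul_eq_right.mp h)
  have h8 : Nat.card (four ha hb hab) = (({1, a, b, a * b} : Finset Y) : Set Y).ncard := by
    rw [← h4]
    rfl
  rw [h8, Set.ncard_coe_finset, Finset.card_insert_of_notMem, Finset.card_insert_of_notMem,
    Finset.card_insert_of_notMem, Finset.card_singleton]
  · simp only [Finset.mem_singleton]
    exact h7.symm
  · simp only [Finset.mem_insert, Finset.mem_singleton, not_or]
    exact ⟨h3, h6.symm⟩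
  · simp only [Finset.mem_insert, Finset.mem_singleton, not_or]
    exact ⟨h1.symm, h2.symm, h5.symm⟩

theorem comp {g k : Y} {x y x' y' : V} {χ ψ χ' ψ' : Du V} (hg : ∀ u, g • u = u + χ u • x + ψ u • y)
    (hk : ∀ u, k • u = u + χ' u • x' + ψ' u • y') (h1 : χ x' = 0) (h2 : χ y' = 0) (h3 : ψ x' = 0)
    (h4 : ψ y' = 0) (u : V) : (g * k) • u = u + (χ u • x + ψ u • y) + (χ' u • x' + ψ' u • y') := by
  rw [mul_smul, hk u, hg, map_add, map_add, map_smul, map_smul, map_add, map_add, map_smul, map_smul, h1, h2, h3, h4,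
    smul_zero, smul_zero]
  simp only [add_zero]
  abel

theorem comp_self (hf : Faith Y V) {g : Y} {x y : V} {χ ψ : Du V} (hg : ∀ u, g • u = u + χ u • x + ψ u • y)
    (h1 : χ x = 0) (h2 : χ y = 0) (h3 : ψ x = 0) (h4 : ψ y = 0) : g * g = 1 := by
  refine hf _ fun u => ?_
  rw [comp hg hg h1 h2 h3 h4, add_assoc, add_self, add_zero]

theorem comp_comm (hf : Faith Y V) {g k : Y} {x y x' y' : V} {χ ψ χ' ψ' : Du V}
    (hg : ∀ u, g • u = u + χ u • x + ψ u • y)
    (hk : ∀ u, k • u = u + χ' u • x' + ψ' u • y') (h1 : χ x' = 0) (h2 : χ y' = 0) (h3 : ψ x' = 0)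
    (h4 : ψ y' = 0) (h5 : χ' x = 0) (h6 : χ' y = 0) (h7 : ψ' x = 0)
    (h8 : ψ' y = 0) : g * k = k * g := by
  refine hf.ext fun u => ?_
  rw [comp hg hk h1 h2 h3 h4, comp hk hg h5 h6 h7 h8]
  abel

/-- the fixed vectors of `u ↦ u + χ u • x + ψ u • y` -/
theorem comp_fix {g : Y} {x y : V} {χ ψ : Du V} (hx : x ≠ 0) (hy : y ≠ 0) (hne : x ≠ y)
    (hg : ∀ u, g • u = u + χ u • x + ψ u • y) (u : V) : g • u = u ↔ χ u = 0 ∧ ψ u = 0 := by
  rw [hg, add_assoc, add_eq_left]
  constructor
  · intro h
    rcases zmod_cases (χ u) with h1 | h1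
    · refine ⟨h1, ?_⟩
      refine eq_zero_of_ne fun h2 => hy ?_
      rwa [h1, h2, zero_smul, zero_add, one_smul] at h
    · exfalso
      rcases zmod_cases (ψ u) with h2 | h2
      · rw [h1, h2, zero_smul, add_zero, one_smul] at h
        exact hx h
      · rw [h1, h2, one_smul, one_smul] at h
        exact hne (eq_of_add h)
  · rintro ⟨h1, h2⟩
    rw [h1, h2, zero_smul, zero_smul, add_zero]

/-- two different functionals cut out a subspace of index 4 -/
theorem card_two [Finite V] {χ ψ : Du V} (h1 : χ ≠ 0) (h2 : ψ ≠ 0) (h3 : χ ≠ ψ) (W : Submodule (ZMod 2) V)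
    (hW : ∀ u, u ∈ W ↔ χ u = 0 ∧ ψ u = 0) : Nat.card V = 4 * Nat.card W := by
  let L : V →ₗ[ZMod 2] ZMod 2 × ZMod 2 := χ.prod ψ
  -- there is a vector with `χ = 1`, `ψ = 0`, and one with `χ = 0`, `ψ = 1`
  have key : ∀ {χ ψ : Du V}, χ ≠ 0 → ψ ≠ 0 → χ ≠ ψ → ∃ u, χ u = 1 ∧ ψ u = 0 := by
    intro χ ψ h1 h2 h3
    by_contra hcon
    push Not at hcon
    obtain ⟨v, hv⟩ := exists_one h1
    have hv' := eq_one_of_ne (hcon v hv)
    apply h3
    ext u
    rcases zmod_cases (χ u) with h4 | h4
    · have h5 : χ (v + u) = 1 := by rw [map_add, hv, h4, add_zero]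
      have h6 := eq_one_of_ne (hcon _ h5)
      rw [map_add, hv'] at h6
      rw [h4]
      exact (add_eq_left.mp h6).symm
    · rw [h4, eq_one_of_ne (hcon u h4)]
  obtain ⟨a, ha1, ha2⟩ := key h1 h2 h3
  obtain ⟨b, hb1, hb2⟩ := key h2 h1 (Ne.symm h3)
  let F : W × (ZMod 2 × ZMod 2) → V := fun p => (p.1 : V) + (p.2.1 • a + p.2.2 • b)
  have e1 : ∀ p, χ (F p) = p.2.1 := by
    rintro ⟨⟨w, hw⟩, c, d⟩
    change χ (w + (c • a + d • b)) = c
    rw [map_add, map_add, map_smul, map_smul, ha1, hb2, ((hW w).mp hw).1, smul_eq_mul, mul_one, smul_zero, zero_add,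
      add_zero]
  have e2 : ∀ p, ψ (F p) = p.2.2 := by
    rintro ⟨⟨w, hw⟩, c, d⟩
    change ψ (w + (c • a + d • b)) = d
    rw [map_add, map_add, map_smul, map_smul, ha2, hb1, ((hW w).mp hw).2, smul_zero, smul_eq_mul, mul_one, zero_add,
      zero_add]
  have hF : Function.Bijective F := by
    constructor
    · rintro p q hpq
      have h4 : p.2.1 = q.2.1 := by rw [← e1, ← e1, hpq]
      have h5 : p.2.2 = q.2.2 := by rw [← e2, ← e2, hpq]
      have h6 : p.2 = q.2 := Prod.ext h4 h5
      have h7 : (p.1 : V) + (p.2.1 • a + p.2.2 • b) = q.1 + (q.2.1 • a + q.2.2 • b) := hpq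
      rw [h6] at h7
      exact Prod.ext (Subtype.ext (add_right_cancel h7)) h6
    · intro u
      refine ⟨⟨⟨u + (χ u • a + ψ u • b), ?_⟩, χ u, ψ u⟩, ?_⟩
      · rw [hW]
        constructor
        · rw [map_add, map_add, map_smul, map_smul, ha1, hb2, smul_eq_mul, mul_one, smul_zero, add_zero, add_self]
        · rw [map_add, map_add, map_smul, map_smul, ha2, hb1, smul_zero, smul_eq_mul, mul_one, zero_add, add_self]
      · exact add_add_self _ _
  rw [← Nat.card_congr (Equiv.ofBijective F hF), Nat.card_prod, Nat.card_prod, Nat.card_zmod]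
  omega

namespace Geo

variable {T : Sylow 2 Y} {U : Subgroup Y} {z : V} {Om : Set V} {f : V → Du V}

/-- `|V| > 4` -/
theorem exists_perp (h : Geo Y V T U z Om f) : ∃ e, f z e = 0 ∧ e ≠ 0 ∧ e ≠ z := by
  by_contra hcon
  push Not at hcon
  have hp := h.pnt z h.zO
  have hcon' : ∀ e, f z e = 0 → e = 0 ∨ e = z := by
    intro e he
    by_cases h0 : e = 0
    · exact Or.inl h0
    · exact Or.inr (hcon e he h0)
  obtain ⟨v, hv⟩ := exists_one hp.nz
  have hT : ∀ t ∈ T, t • v = v := by
    intro t ht
    have h1 : f z (t • v + v) = 0 := by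
      rw [map_add, h.f_of_fix h.zO (h.z_fix t ht), hv, one_add_one]
    rcases hcon' _ h1 with h2 | h2
    · exact eq_of_add h2
    · exfalso
      have h3 : t • v = v + z := by rw [← h2, add_comm v, add_add_self]
      refine h.nt t z (f z) ⟨hp.ne, hp.nz, fun u => ?_⟩
      rcases zmod_cases (f z u) with h4 | h4
      · rw [h4, zero_smul, add_zero]
        rcases hcon' u h4 with h5 | h5
        · rw [h5, smul_zero]
        · rw [h5, h.z_fix t ht]
      · have h5 : f z (u + v) = 0 := by rw [map_add, h4, hv, one_add_one]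
        rw [h4, one_smul]
        rcases hcon' _ h5 with h6 | h6
        · rw [eq_of_add h6, h3]
        · have h7 : u = v + z := by rw [← h6, ← add_assoc, Fr.cancel_right]
          rw [h7, smul_add, h3, h.z_fix t ht]
  rcases h.z_uniq v hT with h1 | h1
  · rw [h1, map_zero] at hv
    exact one_ne hv.symm
  · rw [h1, hp.self] at hv
    exact one_ne hv.symm

/-- (4) -/
theorem all [Finite Y] [Finite V] (h : Geo Y V T U z Om f) {x y : V} (hx : x ∈ Om) (hy : y ∈ Om)
    (hs : y + x ∈ Om) (h1 : f x y = 1) {u : V} (hu : u ≠ 0) : u ∈ Om := by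
  have hA : ∀ u, f x u = 1 → u ∈ Om := by
    intro u hu
    obtain ⟨b, hb, c, h2⟩ := h.hit hx h1 hu
    rcases zmod_cases c with hc | hc
    · rw [h2, hc, zero_smul, add_zero]
      exact h.smul b y hy
    · have h3 : u = b • (y + x) := by rw [h2, hc, one_smul, smul_add, hb.1]
      rw [h3]
      exact h.smul b _ hs
  have hB : ∀ w ∈ Om, ∀ u, f w u = 1 → u ∈ Om := by
    intro w hw u hu
    obtain ⟨g, hg⟩ := h.trans x hx
    obtain ⟨k, hk⟩ := h.trans w hw
    have h2 : (k * g⁻¹) • x = w := by rw [mul_smul, ← hg, inv_smul_smul, hk]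
    have h3 := h.conj (k * g⁻¹) x hx ((k * g⁻¹)⁻¹ • u)
    rw [h2, smul_inv_smul, hu] at h3
    have h4 := hA _ h3.symm
    have h5 := h.smul (k * g⁻¹) _ h4
    rwa [smul_inv_smul] at h5
  by_contra hcon
  let W : Submodule (ZMod 2) V :=
    { carrier := {u | ∀ w ∈ Om, f w u = 0}
      zero_mem' := fun w _ => map_zero _
      add_mem' := fun {a b} ha hb w hw => by rw [map_add, ha w hw, hb w hw, add_zero]
      smul_mem' := fun c a ha w hw => by rw [map_smul, ha w hw, smul_zero] }
  have hW : Inv Y W := by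
    intro g v hv w hw
    have h2 := h.conj g _ (h.smul g⁻¹ w hw) v
    rw [smul_inv_smul] at h2
    rw [h2]
    exact hv _ (h.smul g⁻¹ w hw)
  have huW : u ∈ W := fun w hw => eq_zero_of_ne fun h2 => hcon (hB w hw u h2)
  let := subAct hW
  have h2 : (⟨u, huW⟩ : W) ≠ 0 := fun h3 => hu (congrArg Subtype.val h3)
  obtain ⟨w0, hw0, hT⟩ := exists_fixed (Q := T) T.isPGroup' h2
  have h3 : (w0 : V) ≠ 0 := fun h4 => hw0 (Subtype.ext h4)
  have h4 : (w0 : V) = z :=
    (h.z_uniq w0 fun t ht => congrArg Subtype.val (hT ⟨t, ht⟩)).resolve_left h3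
  have h5 : z ∈ W := by
    rw [← h4]
    exact w0.2
  obtain ⟨w, hw, h6⟩ := h.exists_far h.zO
  rw [h.symm h.zO hw, h5 w hw] at h6
  exact one_ne h6.symm

/-! ### all vectors are points -/

section Full

variable (h : Geo Y V T U z Om f) (hall : ∀ u : V, u ≠ 0 → u ∈ Om)

include h in
theorem f_zero : f 0 = 0 := h.zero 0 fun h0 => (h.pnt 0 h0).ne rfl

include h hall in
theorem f_self (x : V) : f x x = 0 := by
  by_cases hx : x = 0
  · rw [hx, map_zero]
  · exact (h.pnt x (hall x hx)).self

variable [Finite Y] [Finite V]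

include h hall in
theorem f_symm (x y : V) : f x y = f y x := by
  by_cases hx : x = 0
  · rw [hx, h.f_zero, map_zero]
    rfl
  · by_cases hy : y = 0
    · rw [hy, h.f_zero, map_zero]
      rfl
    · exact h.symm (hall x hx) (hall y hy)

include h hall in
theorem f_add (x y u : V) : f (x + y) u = f x u + f y u := by
  rw [h.f_symm hall, map_add, h.f_symm hall u x, h.f_symm hall u y]

include h hall in
/-- `f x` determines `x` -/
theorem f_inj {x y : V} (hxy : ∀ u, f x u = f y u) : x = y := by
  by_contra hne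
  have h1 : x + y ≠ 0 := fun h0 => hne (eq_of_add h0)
  obtain ⟨u, hu⟩ := exists_one (h.pnt _ (hall _ h1)).nz
  rw [h.f_add hall, hxy, add_self] at hu
  exact one_ne hu.symm

include h hall in
theorem bxy {x y : V} (hx : x ≠ 0) (hy : y ≠ 0) (hne : x ≠ y) (hxy : f x y = 0) :
    ∃ b ∈ KK Y x (f x), ∃ k : ZMod 2, ∀ u, b • u = u + f x u • y + f y u • x + (k * f x u) • x := by
  have hxO := hall x hx
  have hyO := hall y hy
  have hp := h.pnt x hxO
  obtain ⟨v, hv⟩ := exists_one hp.nz
  obtain ⟨b, hb, c, h2⟩ := h.hit hxO hv (u := v + y) (by rw [map_add, hv, hxy, add_zero])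
  have h3 := eq_add_smul h2
  have hfx : ∀ e, f x e = 0 → b • e = e → f y e = 0 := by
    intro e he hbe
    by_cases h0 : e = 0
    · rw [h0, map_zero]
    · have h4 := h.conj b e (hall e h0) v
      rw [hbe, h3, map_add, map_add, map_smul, h.f_symm hall e x, he, smul_zero, add_zero, h.f_symm hall e y] at h4
      exact add_eq_left.mp h4
  have hfx1 : ∀ e, f x e = 0 → b • e = e + x → f y e = 1 := by
    intro e0 he0 hbe0
    refine eq_one_of_ne fun h4 => hne (h.f_inj hall fun u => ?_)
    have h5 : ∀ e, f x e = 0 → f y e = 0 := by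
      intro e he
      rcases hb.2.2 e he with h6 | h6
      · exact hfx e he h6
      · have h7 := hfx (e + e0) (by rw [map_add, he, he0, add_zero])
          (by rw [smul_add, h6, hbe0, add_add_add_comm, add_self, add_zero])
        rwa [map_add, h4, add_zero] at h7
    obtain ⟨w, hw⟩ := exists_one (h.pnt y hyO).nz
    have h6 : f x w = 1 := eq_one_of_ne fun h7 => by
      rw [h5 w h7] at hw
      exact one_ne hw.symm
    rcases zmod_cases (f x u) with h7 | h7
    · rw [h7, h5 u h7]
    · have h8 := h5 (u + w) (by rw [map_add, h7, h6, one_add_one])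
      rw [map_add, hw] at h8
      rw [h7]
      exact (eq_of_add h8).symm
  have hE : ∀ e, f x e = 0 → b • e = e + f y e • x := by
    intro e he
    rcases hb.2.2 e he with h4 | h4
    · rw [hfx e he h4, zero_smul, add_zero, h4]
    · rw [hfx1 e he h4, one_smul, h4]
  refine ⟨b, hb, c + f y v, fun u => ?_⟩
  rcases zmod_cases (f x u) with h4 | h4
  · rw [hE u h4, h4, zero_smul, mul_zero, zero_smul, add_zero, add_zero]
  · have h5 : f x (u + v) = 0 := by rw [map_add, h4, hv, one_add_one]
    have h6 : u = v + (u + v) := by rw [add_comm v, add_add_self]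
    have h7 : b • u = b • v + (u + v + f y (u + v) • x) := by
      rw [← hE _ h5, ← smul_add, ← h6]
    rw [h7, h3, h4, one_smul, mul_one, map_add, add_smul, add_smul]
    have h8 : v + y + c • x + (u + v + (f y u • x + f y v • x)) =
      u + y + f y u • x + (c • x + f y v • x) + (v + v) := by abel
    rw [h8, add_self, add_zero]

include h hall in
/-- (5) -/
theorem not_all : False := by
  -- `k = 0` for all pairs
  have hk0 : ∀ x y : V, x ≠ 0 → y ≠ 0 → x ≠ y → f x y = 0 → ∃ b : Y, ∀ u, b • u = u + f x u • y + f y u • x := by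
    intro x y hx hy hne hxy
    have hp := h.pnt x (hall x hx)
    have hq := h.pnt y (hall y hy)
    have hyx : f y x = 0 := by rw [h.f_symm hall, hxy]
    obtain ⟨b, hb, k, hbu⟩ := h.bxy hall hx hy hne hxy
    obtain ⟨b', hb', k', hbu'⟩ := h.bxy hall hy hx (Ne.symm hne) hyx
    rcases zmod_cases k with hk | hk
    · exact ⟨b, fun u => by rw [hbu, hk, zero_mul, zero_smul, add_zero]⟩
    · exfalso
      -- `b * b' : u ↦ u + k f x u • x + k' f y u • y`
      have hby : b • y = y := by
        rw [hbu, hxy, hq.self, mul_zero, zero_smul, zero_smul, add_zero, add_zero, add_zero]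
      have hprod : ∀ u, (b * b') • u = u + f x u • x + (k' * f y u) • y := by
        intro u
        rw [mul_smul, hbu' u, smul_add, smul_add, smul_add, smul_zmod, smul_zmod, smul_zmod, hb.1, hby, hbu u, hk,
          one_mul]
        have h1 : u + f x u • y + f y u • x + f x u • x + f y u • x + f x u • y + (k' * f y u) • y =
          u + f x u • x + (k' * f y u) • y + (f x u • y + f x u • y) + (f y u • x + f y u • x) := by abel
        rw [h1, add_self, add_self, add_zero, add_zero]
      have hk' : k' = 1 := by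
        refine eq_one_of_ne fun h2 => ?_
        exact h.nt (b * b') x (f x) ⟨hx, hp.nz, fun u => by rw [hprod, h2, zero_mul, zero_smul, add_zero]⟩
      have hg1 : ∀ u, (b * b') • u = u + f x u • x + f y u • y := by
        intro u
        rw [hprod, hk', one_mul]
      -- the pair `x, x + y`
      have hs : x + y ≠ 0 := fun h0 => hne (eq_of_add h0)
      have hxs : x ≠ x + y := fun h0 => hy (left_eq_add.mp h0)
      have hfs : f x (x + y) = 0 := by rw [map_add, hp.self, hxy, add_zero]
      have hfs' : f (x + y) x = 0 := by rw [h.f_symm hall, hfs]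
      obtain ⟨c, hc, l, hcu⟩ := h.bxy hall hx hs hxs hfs
      obtain ⟨c', hc', l', hcu'⟩ := h.bxy hall hs hx (Ne.symm hxs) hfs'
      have hl : l = 1 := by
        refine eq_one_of_ne fun hl0 => ?_
        refine h.nt (b * c) x (f x) ⟨hx, hp.nz, fun u => ?_⟩
        have hbs : b • (x + y) = x + y := by rw [smul_add, hb.1, hby]
        rw [mul_smul, hcu u, smul_add, smul_add, smul_add, smul_zmod, smul_zmod, smul_zmod, hb.1, hbs, hbu u, hk, hl0,
          one_mul, zero_mul, zero_smul, add_zero, h.f_add hall, add_smul, smul_add]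
        have h1 : u + f x u • y + f y u • x + f x u • x + (f x u • x + f x u • y) + (f x u • x + f y u • x) =
          u + f x u • x + (f x u • y + f x u • y) + (f y u • x + f y u • x) + (f x u • x + f x u • x) := by abel
        rw [h1, add_self, add_self, add_self, add_zero, add_zero, add_zero]
      have hcs : c • (x + y) = x + y := by
        rw [hcu, hfs, (h.pnt _ (hall _ hs)).self, mul_zero, zero_smul, zero_smul, add_zero, add_zero,
          add_zero]
      have hprod2 : ∀ u, (c * c') • u = u + f x u • x + (l' * f (x + y) u) • (x + y) := by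
        intro u
        rw [mul_smul, hcu' u, smul_add, smul_add, smul_add, smul_zmod, smul_zmod, smul_zmod, hc.1, hcs, hcu u, hl,
          one_mul]
        have h1 : u + f x u • (x + y) + f (x + y) u • x + f x u • x + f (x + y) u • x + f x u • (x + y) +
            (l' * f (x + y) u) • (x + y) =
          u + f x u • x + (l' * f (x + y) u) • (x + y) + (f x u • (x + y) + f x u • (x + y)) +
            (f (x + y) u • x + f (x + y) u • x) := by abel
        rw [h1, add_self, add_self, add_zero, add_zero]
      have hl' : l' = 1 := by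
        refine eq_one_of_ne fun h2 => ?_
        exact h.nt (c * c') x (f x) ⟨hx, hp.nz, fun u => by rw [hprod2, h2, zero_mul, zero_smul, add_zero]⟩
      have hg2 : ∀ u, (c * c') • u = u + f x u • x + f (x + y) u • (x + y) := by
        intro u
        rw [hprod2, hl', one_mul]
      -- the four-group
      have hsy : f (x + y) y = 0 := by rw [h.f_add hall, hxy, hq.self, add_zero]
      have hsx : f (x + y) x = 0 := hfs'
      have hss : f (x + y) (x + y) = 0 := (h.pnt _ (hall _ hs)).self
      have hys : f y (x + y) = 0 := by rw [h.f_symm hall, hsy]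
      have e1 : b * b' * (b * b') = 1 := comp_self h.faith hg1 hp.self hxy hyx hq.self
      have e2 : c * c' * (c * c') = 1 := comp_self h.faith hg2 hp.self hfs hsx hss
      have e3 : b * b' * (c * c') = c * c' * (b * b') :=
        comp_comm h.faith hg1 hg2 hp.self hfs hyx hys hp.self hxy hsx hsy
      have hfxy : f x ≠ f y := fun h1 => hne (h.f_inj hall fun u => by rw [h1])
      have m1 := comp_fix hx hy hne hg1
      have m2 := comp_fix hx hs hxs hg2
      obtain ⟨v, hv⟩ := exists_one hp.nz
      have n1 : b * b' ≠ 1 := by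
        intro h1
        have h2 := (m1 v).mp (by rw [h1, one_smul])
        rw [hv] at h2
        exact one_ne h2.1
      have n2 : c * c' ≠ 1 := by
        intro h1
        have h2 := (m2 v).mp (by rw [h1, one_smul])
        rw [hv] at h2
        exact one_ne h2.1
      have n3 : b * b' ≠ c * c' := by
        intro h1
        obtain ⟨w, hw⟩ := exists_one hq.nz
        have h2 := hg1 w
        rw [h1, hg2 w, h.f_add hall, hw, one_smul, add_assoc, add_assoc] at h2
        have h3 := add_left_cancel (add_left_cancel h2)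
        rcases zmod_cases (f x w) with h4 | h4
        · rw [h4, zero_add, one_smul] at h3
          exact hx (add_eq_right.mp h3)
        · rw [h4, one_add_one, zero_smul] at h3
          exact hy h3.symm
      refine h.nf (four e1 e2 e3) (card_four n1 n2 n3) ?_ (card_two hp.nz hq.nz hfxy _ fun u => ?_)
      · rintro g (rfl | rfl | rfl | rfl)
        · exact one_mul 1
        · exact e1
        · exact e2
        · rw [mul_assoc, ← mul_assoc (c * c'), ← e3, mul_assoc (b * b'), e2, mul_one, e1]
      · rw [mem_fixS]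
        constructor
        · intro h1
          exact (m1 u).mp (h1 _ (Or.inr (Or.inl rfl)))
        · rintro h1
          have h2 := (m1 u).mpr h1
          have h3 := (m2 u).mpr ⟨h1.1, by rw [h.f_add hall, h1.1, h1.2, add_zero]⟩
          rintro g (rfl | rfl | rfl | rfl)
          · exact one_smul _ u
          · exact h2
          · exact h3
          · rw [mul_smul, h3, h2]
  -- the end
  obtain ⟨y, hzy, hy0, hyz⟩ := h.exists_perp
  have hz0 := (h.pnt z h.zO).ne
  have hz := (h.pnt z h.zO)
  have hyO := hall y hy0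
  have key : ∀ y', f z y' = 0 → f y y' = 0 := by
    intro y' hy'
    by_cases c1 : y' = 0
    · rw [c1, map_zero]
    by_cases c2 : y' = z
    · rw [c2, h.f_symm hall, hzy]
    by_cases c3 : y = y'
    · rw [← c3, h.f_self hall]
    by_cases c4 : y + y' = z
    · have h1 : y' = y + z := by rw [← c4, ← add_assoc, add_self, zero_add]
      rw [h1, map_add, h.f_self hall, h.f_symm hall, hzy, add_zero]
    have hs : y + y' ≠ 0 := fun h0 => c3 (eq_of_add h0)
    obtain ⟨b1, hb1⟩ := hk0 z y hz0 hy0 (Ne.symm hyz) hzy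
    obtain ⟨b2, hb2⟩ := hk0 z y' hz0 c1 (Ne.symm c2) hy'
    obtain ⟨b3, hb3⟩ := hk0 z (y + y') hz0 hs (Ne.symm c4) (by rw [map_add, hzy, hy', add_zero])
    refine eq_zero_of_ne fun hk => ?_
    have hk' : f y' y = 1 := by rw [h.f_symm hall, hk]
    have a1 : b1 • y' = y' + z := by rw [hb1, hy', hk, zero_smul, one_smul, add_zero]
    have a2 : b1 • z = z := by rw [hb1, hz.self, h.f_symm hall y z, hzy, zero_smul, zero_smul, add_zero, add_zero]
    have a3 : b3 • y = y + z := by
      rw [hb3, hzy, h.f_add hall, h.f_self hall, hk', zero_smul, zero_add, one_smul, add_zero]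
    have a4 : b3 • y' = y' + z := by
      rw [hb3, hy', h.f_add hall, h.f_self hall, hk, zero_smul, add_zero, add_zero, one_smul]
    have a5 : b3 • z = z := by
      rw [hb3, hz.self, h.f_add hall, h.f_symm hall y z, h.f_symm hall y' z, hzy, hy', add_zero, zero_smul, zero_smul,
        add_zero, add_zero]
    refine h.nt (b3 * (b1 * b2)) z (f z) ⟨hz0, hz.nz, fun u => ?_⟩
    have s1 : (b1 * b2) • u = u + f z u • y + f y u • z + f z u • (y' + z) + f y' u • z := by
      rw [mul_smul, hb2 u, smul_add, smul_add, smul_zmod, smul_zmod, a1, a2, hb1 u]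
    rw [mul_smul b3, s1, smul_add, smul_add,
      smul_add, smul_add, smul_zmod, smul_zmod, smul_zmod, smul_zmod, smul_add b3 y' z, a3, a4, a5, hb3 u,
      h.f_add hall]
    simp only [smul_add, add_smul]
    have h1 : u + (f z u • y + f z u • y') + (f y u • z + f y' u • z) + (f z u • y + f z u • z) + f y u • z +
        (f z u • y' + f z u • z + f z u • z) + f y' u • z =
      u + f z u • z + (f z u • y + f z u • y) + (f z u • y' + f z u • y') + (f y u • z + f y u • z) +
        (f y' u • z + f y' u • z) + (f z u • z + f z u • z) := by abel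
    rw [h1, add_self, add_self, add_self, add_self, add_self, add_zero, add_zero, add_zero, add_zero, add_zero]
  obtain ⟨w, hw⟩ := exists_one (h.pnt y hyO).nz
  have h6 : f z w = 1 := eq_one_of_ne fun h7 => by
    rw [key w h7] at hw
    exact one_ne hw.symm
  refine hyz (h.f_inj hall fun u => ?_)
  rcases zmod_cases (f z u) with h7 | h7
  · rw [h7, key u h7]
  · have h8 := key (u + w) (by rw [map_add, h7, h6, one_add_one])
    rw [map_add, hw] at h8
    rw [h7]
    exact eq_of_add h8

end Full

/-- (NH) -/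
theorem nh [Finite Y] [Finite V] (h : Geo Y V T U z Om f) {x y : V} (hx : x ∈ Om) (hy : y ∈ Om)
    (hs : y + x ∈ Om) : f x y = 0 :=
  eq_zero_of_ne fun h1 => h.not_all fun _ hu => h.all hx hy hs h1 hu

end Geo

end Cfsg.Agent.Omega.NearFF
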