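import Cfsg.Agent.Omega.NearFF.Form
import Cfsg.Agent.Omega.NearFF.Symp
import Cfsg.Agent.Omega.NearFF.SymPlus

/-!
# (BT), `|V/E| = 2`: `Sp ⟹ (+)` (helper276 #14522, on helper132's structure `Sp`)

* `Sp.data` : the structure `SymPlus.Data`;
* `Sp.plus` : `β z (g • z) = 0 → g ∈ M`.
-/

set_option autoImplicit false

namespace Cfsg.Agent.Omega.NearFF

open Subgroup Cfsg.Agent.Omega.Transv

variable {Y : Type*} [Group Y] {V : Type*} [AddCommGroup V] [Module (ZMod 2) V] [DistribMulAction Y V]

namespace Sp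

variable {T : Sylow 2 Y} {M : Subgroup Y} {z : V} {β : V →ₗ[ZMod 2] Du V} (h : Sp T M z β)
include h

/-- the form -/
def frm : SymPlus.IFrm Y V where
  b v w := β v w
  add_left u v w := by rw [map_add, LinearMap.add_apply]
  symm := h.symm
  alt := h.alt
  nondeg v hv := h.nondeg v (LinearMap.ext fun w => by rw [hv]; rfl)
  inv := h.inv
  faith := h.faith

theorem R_eq (x : V) : h.frm.R x = KK Y x (β x) := by
  ext r
  rw [SymPlus.IFrm.mem_R, mem_KK]
  constructor
  · rintro ⟨h1, h2⟩
    refine ⟨h1, fun v => ?_, h2⟩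
    have h3 := h.inv r x v
    rwa [h1] at h3
  · rintro ⟨h1, _, h2⟩
    exact ⟨h1, h2⟩

theorem lt_ker [Finite V] {g : Y} {x : V} (hx : x ≠ 0) (hg : ∀ v, g • v = v + β v x • x) : False := by
  have hβx : β x ≠ 0 := fun h0 => hx (h.nondeg x h0)
  have hg' : ∀ v, g • v = v + β x v • x := fun v => by rw [hg, h.symm]
  have htv : Tv g x (β x) := ⟨hx, hβx, hg'⟩
  have hsq := htv.mul_self h.faith
  have hmem : ∀ b ∈ zpowers g, b = 1 ∨ b = g := by
    intro b hb
    obtain ⟨n, rfl⟩ := mem_zpowers_iff.1 hb
    rcases Int.even_or_odd' n with ⟨k, hk | hk⟩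
    · left
      rw [hk, zpow_mul, zpow_two, hsq, one_zpow]
    · right
      rw [hk, zpow_add, zpow_mul, zpow_two, hsq, one_zpow, one_mul, zpow_one]
  have h1 := h.noff (zpowers g) (fun h0 => htv.ne_one (zpowers_eq_bot.1 h0))
    (fun a ha b hb => by
      rcases hmem a ha with rfl | rfl <;> rcases hmem b hb with rfl | rfl <;> simp)
    (fun a ha => by
      rcases hmem a ha with rfl | rfl
      · exact one_mul 1
      · exact hsq)
  have h2 : Nat.card (zpowers g) = 2 := by
    rw [Nat.card_zpowers]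
    exact orderOf_eq_prime (by rw [pow_two, hsq]) htv.ne_one
  have h3 : Nat.card {v : V // Fx (zpowers g) v} = Nat.card {u : V // β x u = 0} := by
    refine Nat.card_congr (Equiv.subtypeEquivRight fun v => ?_)
    rw [← htv.fix_iff]
    constructor
    · intro h4
      exact h4 g (mem_zpowers g)
    · intro h4 b hb
      rcases hmem b hb with rfl | rfl
      · exact one_smul Y v
      · exact h4
  have h4 : Nat.card {u : V // β x u = 0} = Nat.card {u : V // β x u = 1} := by
    obtain ⟨w, hw⟩ := exists_one hβx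
    refine Nat.card_congr ⟨fun u => ⟨(u : V) + w, by rw [map_add, u.2, hw, zero_add]⟩,
      fun u => ⟨(u : V) + w, by rw [map_add, u.2, hw, one_add_one]⟩, fun u => ?_, fun u => ?_⟩
    · exact Subtype.ext (add_add_self _ _)
    · exact Subtype.ext (add_add_self _ _)
  rw [h2, h3, h4, card_hyper hβx] at h1
  exact lt_irrefl _ h1

theorem nf [Finite V] {g k : Y} {x y : V} (hx : x ≠ 0) (hy : y ≠ 0) (hxy : x ≠ y) (hb : β x y = 0)
    (hg : ∀ v, g • v = v + β v y • y + β v (x + y) • (x + y))
    (hk : ∀ v, k • v = v + β v x • x + β v (x + y) • (x + y)) : False := by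
  have hs0 : x + y ≠ 0 := fun h0 => hxy (eq_of_add h0)
  have hxs : x ≠ x + y := fun h0 => hy (by simpa using h0.symm)
  have hys : y ≠ x + y := fun h0 => hx (by simpa using h0.symm)
  have hβx : β x ≠ 0 := fun h0 => hx (h.nondeg x h0)
  have hβy : β y ≠ 0 := fun h0 => hy (h.nondeg y h0)
  have hyx : β y x = 0 := by rw [h.symm, hb]
  have hg' : ∀ v, g • v = v + β y v • y + β (x + y) v • (x + y) := fun v => by
    rw [hg, h.symm v y, h.symm v (x + y)]
  have hk' : ∀ v, k • v = v + β x v • x + β (x + y) v • (x + y) := fun v => by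
    rw [hk, h.symm v x, h.symm v (x + y)]
  have a1 : β x x = 0 := h.alt x
  have a2 : β y y = 0 := h.alt y
  have a3 : β (x + y) (x + y) = 0 := h.alt _
  have a4 : β x (x + y) = 0 := by rw [map_add, a1, hb, add_zero]
  have a5 : β y (x + y) = 0 := by rw [map_add, a2, hyx, add_zero]
  have a6 : β (x + y) x = 0 := by rw [h.symm, a4]
  have a7 : β (x + y) y = 0 := by rw [h.symm, a5]
  have e1 : g * g = 1 := comp_self h.faith hg' a2 a5 a7 a3
  have e2 : k * k = 1 := comp_self h.faith hk' a1 a4 a6 a3
  have e3 : g * k = k * g := comp_comm h.faith hg' hk' hyx a5 a6 a3 hb a4 a7 a3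
  have m1 := comp_fix hy hs0 hys hg'
  have m2 := comp_fix hx hs0 hxs hk'
  obtain ⟨v, hv⟩ := exists_one hβy
  obtain ⟨w, hw⟩ := exists_one hβx
  have n1 : g ≠ 1 := fun h1 => by
    have h2 := (m1 v).mp (by rw [h1, one_smul])
    rw [hv] at h2
    exact one_ne h2.1
  have n2 : k ≠ 1 := fun h1 => by
    have h2 := (m2 w).mp (by rw [h1, one_smul])
    rw [hw] at h2
    exact one_ne h2.1
  have n3 : g ≠ k := fun h1 => by
    have h2 := hg' v
    rw [h1, hk' v, hv, one_smul] at h2
    rcases zmod_cases (β x v) with h3 | h3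
    · rw [h3, zero_smul, add_zero] at h2
      have h4 := add_right_cancel h2
      exact hy (by simpa using h4.symm)
    · rw [h3, one_smul] at h2
      have h4 := add_left_cancel (add_right_cancel h2)
      exact hxy h4
  have h1 := h.noff (NearFF.four e1 e2 e3) (fun h0 => n1 (by
      have : g ∈ NearFF.four e1 e2 e3 := Or.inr (Or.inl rfl)
      rw [h0] at this
      exact mem_bot.1 this)) (by
    rintro a (rfl | rfl | rfl | rfl) b (rfl | rfl | rfl | rfl)
    all_goals first
      | rfl
      | rw [one_mul, mul_one]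
      | exact e3
      | exact e3.symm
      | skip
    · rw [← mul_assoc, e1, one_mul, e3, mul_assoc, e1, mul_one]
    · rw [← mul_assoc, ← e3, mul_assoc, e2, mul_one]
    · rw [mul_assoc, ← e3, ← mul_assoc]
    · rw [mul_assoc, e2, mul_one, ← mul_assoc, ← e3, mul_assoc, e2, mul_one]) (by
    rintro a (rfl | rfl | rfl | rfl)
    · exact one_mul 1
    · exact e1
    · exact e2
    · rw [mul_assoc, ← mul_assoc k, ← e3, mul_assoc g, e2, mul_one, e1])
  have hne : β x ≠ β y := fun h0 => hxy (eq_of_add (h.nondeg _ (by rw [map_add, h0]; exact add_self _)))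
  have h2 := card_two hβx hβy hne (fixS V (NearFF.four e1 e2 e3)) (fun u => by
    rw [mem_fixS]
    constructor
    · intro h1
      have h2 := (m1 u).mp (h1 _ (Or.inr (Or.inl rfl)))
      have h3 := (m2 u).mp (h1 _ (Or.inr (Or.inr (Or.inl rfl))))
      exact ⟨h3.1, h2.1⟩
    · rintro ⟨h1, h2⟩
      have h5 : β (x + y) u = 0 := by rw [map_add, LinearMap.add_apply, h1, h2, add_zero]
      have h3 := (m1 u).mpr ⟨h2, h5⟩
      have h4 := (m2 u).mpr ⟨h1, h5⟩
      rintro n (rfl | rfl | rfl | rfl)
      · exact one_smul _ u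
      · exact h3
      · exact h4
      · rw [mul_smul, h4, h3])
  rw [card_four n1 n2 n3] at h1
  have h3 : Nat.card {v : V // Fx (NearFF.four e1 e2 e3) v} = Nat.card (fixS V (NearFF.four e1 e2 e3)) := rfl
  rw [h3, ← h2] at h1
  exact lt_irrefl _ h1

/-- the structure `SymPlus.Data` -/
def data [Finite V] : SymPlus.Data Y V where
  toIFrm := h.frm
  z := z
  z_ne := h.z_ne
  span := by
    rw [eq_top_iff]
    intro v _
    have h1 : v ∈ Submodule.span (ZMod 2) (Set.range fun g : Y => g • z) := by rw [h.span]; trivial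
    induction h1 using Submodule.span_induction with
    | mem x hx => exact AddSubgroup.subset_closure hx
    | zero => exact zero_mem _
    | add a b _ _ ha hb => exact add_mem (ha trivial) (hb trivial)
    | smul c a _ ha =>
      rcases zmod_cases c with rfl | rfl
      · rw [zero_smul]; exact zero_mem _
      · rw [one_smul]; exact ha trivial
  T := T
  M := M
  T_two := T.isPGroup'
  T_max := fun Q hQ hTQ => T.is_maximal' hQ hTQ
  T_fix := h.z_fix
  T_only := h.fixT
  M_only := fun H hT hH => (h.max H hT).resolve_right hH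
  card4 := by
    rw [h.R_eq]
    exact h.four z (MulAction.mem_orbit_self z)
  DO := fun y hy hr => h.only z (MulAction.mem_orbit_self z) y hy (by
    rw [← h.R_eq]
    exact hr)
  NT := fun g x hx hg => h.lt_ker hx hg
  NF := fun g k x y hx hy hxy hb hg hk => h.nf hx hy hxy hb hg hk

/-- **#14522**: (+) -/
theorem plus [Finite V] {g : Y} (hg : β z (g • z) = 0) : g ∈ M := h.data.plus hg

end Sp

end Cfsg.Agent.Omega.NearFF
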