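import Cfsg.Agent.Omega.NearFF.Good
import Cfsg.Agent.Omega.NearFF.SymPlusSp
import Cfsg.Agent.Omega.NearFF.PlusFam

/-!
# (BT), `|V/E| = 2`: the symmetric case on `Dat` (project OMEGA, leaf N1)

* `Dat.plus_of_symm` : `f` symmetric ⟹ (+);
* `Dat.plus_of_Fz` : `F₀(z) = ⟨z⟩` ⟹ (+);
* `Dat.plus_of_card` : `|R_z| ≥ 3` ⟹ (+);
* `Dat.plus_of_good`, `Dat.plus_of_two` : a good `A ≠ 1`, resp. `|[E, b]| = 2` ⟹ (+);
* `Dat.five_of_plus` : (+) ⟹ `|Ω| = 5`.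
-/

set_option autoImplicit false
set_option linter.unusedSectionVars false

namespace Cfsg.Agent.Omega.NearFF

open Subgroup Cfsg.Agent.Omega.Transv

variable {Y : Type*} [Group Y] {V : Type*} [AddCommGroup V] [Module (ZMod 2) V] [DistribMulAction Y V]

namespace Dat

variable {T : Sylow 2 Y} {M : Subgroup Y} {z : V} {f : V → Du V} {Q : V → Subgroup Y}
  {BB : V → Set (Subgroup Y)} [Finite Y] [Finite V] (h : Dat T M z f Q BB)
include h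

/-- `f` symmetric ⟹ (+) -/
theorem plus_of_symm (hs : ∀ x ∈ MulAction.orbit Y z, ∀ y ∈ MulAction.orbit Y z, f x y = f y x) :
    ∀ g : Y, f z (g • z) = 0 → g ∈ M := by
  obtain ⟨β, hβ, hf⟩ := h.exists_sp hs
  intro g hg
  refine hβ.plus ?_
  rw [hf z (MulAction.mem_orbit_self z)]
  exact hg

/-- `F₀(z) = ⟨z⟩` ⟹ (+) -/
theorem plus_of_Fz (hF : ∀ v : V, (∀ B ∈ BB z, Fx B v) → v = 0 ∨ v = z) :
    ∀ g : Y, f z (g • z) = 0 → g ∈ M :=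
  h.plus_of_symm fun _ hx _ hy => h.symm_of hF hx hy

/-- `|R_z| ≥ 3` ⟹ (+) -/
theorem plus_of_card (hR : 3 ≤ Nat.card (KK Y z (f z))) : ∀ g : Y, f z (g • z) = 0 → g ∈ M :=
  h.plus_of_symm fun _ hx _ hy => h.symm_of_card hR hx hy

/-- a good `A ≠ 1` ⟹ (+) -/
theorem plus_of_good {B : Subgroup Y} (hB : B ∈ BB z) {A : Set Y} (hA : Good (f z) B A) {a : Y}
    (ha : a ∈ A) (ha1 : a ≠ 1) : ∀ g : Y, f z (g • z) = 0 → g ∈ M :=
  h.plus_of_symm fun _ hx _ hy => h.symm_of_good hB hA ha ha1 hx hy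

/-- `|[E, b]| = 2` for some `1 ≠ b ∈ B ∈ BB z` ⟹ (+) -/
theorem plus_of_two {B : Subgroup Y} (hB : B ∈ BB z) {b : Y} (hb : b ∈ B) (hb1 : b ≠ 1) {w : V}
    (hw : ∀ e : V, f z e = 0 → cm b e = 0 ∨ cm b e = w) : ∀ g : Y, f z (g • z) = 0 → g ∈ M :=
  h.plus_of_symm fun _ hx _ hy => h.symm_of_two hB hb hb1 hw hx hy

/-- (+) ⟹ `|Ω| = 5` -/
theorem five_of_plus (plus : ∀ g : Y, f z (g • z) = 0 → g ∈ M) : Nat.card (MulAction.orbit Y z) = 5 :=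
  PlusFam.five h plus

end Dat

end Cfsg.Agent.Omega.NearFF
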