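import Cfsg.Agent.Omega.NearFF.Case1End
import Cfsg.Agent.Omega.NearFF.Min
import Cfsg.Agent.Omega.NearFF.SymEnd
import Cfsg.Agent.Omega.NO1.Two

/-!
# (BT), `|V/E| = 2`: (+) (project OMEGA, leaf N1)

Text: helper132, bb OMEGA #17318.

* `Dat.plusAbs` : (+);
* `btAbs` : `NO1.Two.BTAbs`;
* `Dat.five` : `|Ω| = 5`.
-/

set_option autoImplicit false
set_option linter.unusedSectionVars false

namespace Cfsg.Agent.Omega.NearFF

open Subgroup Cfsg.Agent.Omega.Transv

variable {Y : Type*} [Group Y] {V : Type*} [AddCommGroup V] [Module (ZMod 2) V] [DistribMulAction Y V]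

/-- **(+)** for `|V/E| = 2` -/
theorem Dat.plusAbs [Finite Y] [Finite V] {T : Sylow 2 Y} {M : Subgroup Y} {z : V} {f : V → Du V}
    {Q : V → Subgroup Y} {BB : V → Set (Subgroup Y)} (h : Dat T M z f Q BB) :
    ∀ g : Y, f z (g • z) = 0 → g ∈ M := by
  obtain ⟨B, hB⟩ := h.bb_ne
  obtain ⟨B', L, w, hB', hmp⟩ := h.exists_mp hB
  by_cases hbig : Big (f z) B'
  · exact (hmp.false_of_big hbig).elim
  · unfold Big at hbig
    push Not at hbig
    obtain ⟨b, hb, hb1, w', hw⟩ := hbig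
    refine h.plus_of_two hB' hb hb1 (w := w') fun e he => ?_
    by_cases h0 : cm b e = 0
    · exact Or.inl h0
    · exact Or.inr (hw e he h0)

/-- `|Ω| = 5` -/
theorem Dat.five_pts [Finite Y] [Finite V] {T : Sylow 2 Y} {M : Subgroup Y} {z : V} {f : V → Du V}
    {Q : V → Subgroup Y} {BB : V → Set (Subgroup Y)} (h : Dat T M z f Q BB) :
    Nat.card (MulAction.orbit Y z) = 5 := h.five_of_plus h.plusAbs

/-- **(BT), `|V/E| = 2`, abstract form** -/
theorem btAbs.{u} : NO1.Two.BTAbs.{u} := by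
  intro Y V _ _ _ _ _ _ T M z f Q BB h
  exact h.plusAbs

end Cfsg.Agent.Omega.NearFF
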