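import Cfsg.Agent.Omega.NearFF.Small

/-!
# THEOREM BT2 (helper318, bb 13091): five points
-/

set_option autoImplicit false
set_option linter.unusedSectionVars false

namespace Cfsg.Agent.Omega.NearFF

open Subgroup Transv

variable {Y : Type*} [Group Y] {V : Type*} [AddCommGroup V] [Module (ZMod 2) V] [DistribMulAction Y V]

/-- the permutations of the five vectors induced by the group -/
def HH (Y : Type*) [Group Y] [DistribMulAction Y V] (w : Fin 5 → V) : Subgroup (Equiv.Perm (Fin 5)) where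
  carrier := {σ | ∃ g : Y, ∀ i, g • w i = w (σ i)}
  one_mem' := ⟨1, fun i => one_smul _ _⟩
  mul_mem' := by
    rintro σ τ ⟨g, hg⟩ ⟨k, hk⟩
    refine ⟨g * k, fun i => ?_⟩
    rw [mul_smul, hk, hg]
    rfl
  inv_mem' := by
    rintro σ ⟨g, hg⟩
    refine ⟨g⁻¹, fun i => ?_⟩
    rw [inv_smul_eq_iff, hg]
    exact congrArg w (σ.apply_symm_apply i).symm

theorem mem_HH {w : Fin 5 → V} {σ : Equiv.Perm (Fin 5)} : σ ∈ HH Y w ↔ ∃ g : Y, ∀ i, g • w i = w (σ i) := Iff.rfl

/-- the conclusion of THEOREM BT2: `V` is the natural `O₄⁻(2)`-module for `Y ≅ A₅`, given by the five singular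
vectors -/
structure FivePts (Y : Type*) {V : Type*} [Group Y] [AddCommGroup V] [Module (ZMod 2) V] [DistribMulAction Y V]
    (z : V) (w : Fin 5 → V) : Prop where
  inj : Function.Injective w
  zero : w 0 = z
  range : Set.range w = MulAction.orbit Y z
  sum : ∑ i, w i = 0
  card : Nat.card V = 16
  span : Submodule.span (ZMod 2) (Set.range w) = ⊤
  /-- `Y` acts as a group of even permutations of the five vectors ... -/
  act : ∀ g : Y, ∃ σ ∈ alternatingGroup (Fin 5), ∀ i, g • w i = w (σ i)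
  /-- ... and all even permutations occur -/
  onto : ∀ σ ∈ alternatingGroup (Fin 5), ∃ g : Y, ∀ i, g • w i = w (σ i)

namespace Geo

variable {T : Sylow 2 Y} {U : Subgroup Y} {z : V} {Om : Set V} {f : V → Du V}

theorem far [Finite Y] [Finite V] (h : Geo Y V T U z Om f) {x y : V} (hx : x ∈ Om) (hy : y ∈ Om) (hne : x ≠ y) :
    f x y = 1 := by
  refine eq_one_of_ne fun h1 => hne ?_
  obtain ⟨g, rfl⟩ := h.trans x hx
  have h2 := h.conj g z h.zO (g⁻¹ • y)
  rw [smul_inv_smul, h1] at h2
  have h3 := h.only_z _ (h.smul g⁻¹ y hy) h2.symm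
  rw [← h3, smul_inv_smul]

/-- the five points -/
theorem exists_five [Finite Y] [Finite V] (h : Geo Y V T U z Om f) :
    ∃ w : Fin 5 → V, Function.Injective w ∧ w 0 = z ∧ Set.range w = Om ∧ ∑ i, w i = 0 ∧ Nat.card V = 16 := by
  have hz := h.pnt z h.zO
  obtain ⟨y0, hy0, h1⟩ := h.exists_far h.zO
  have hy := h.pnt y0 hy0
  have h1' : f y0 z = 1 := by rw [h.symm hy0 h.zO, h1]
  have hzy : z + y0 ∉ Om := by
    intro h2
    have h3 := h.nh h.zO hy0 (by rwa [add_comm])
    rw [h1] at h3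
    exact one_ne h3
  have uz : ∀ r, f z r = 0 → f z (z + y0 + r) = 1 := by
    intro r hr
    rw [map_add, map_add, hz.self, h1, hr, zero_add, add_zero]
  have uy : ∀ r, f y0 r = 0 → f y0 (z + y0 + r) = 1 := by
    intro r hr
    rw [map_add, map_add, hy.self, h1', hr, add_zero, add_zero]
  have hR : ∀ r, r ≠ 0 → f z r = 0 → f y0 r = 0 → z + y0 + r ∈ Om := by
    intro r hr0 hr1 hr2
    obtain ⟨b, hb, c, h2⟩ := h.hit h.zO h1 (u := y0 + r) (by rw [map_add, h1, hr1, add_zero])
    rcases zmod_cases c with hc | hc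
    · exfalso
      rw [hc, zero_smul, add_zero] at h2
      have h3 : y0 + r ∈ Om := by
        rw [h2]
        exact h.smul b y0 hy0
      have h4 := h.far hy0 h3 (fun h5 => hr0 (left_eq_add.mp h5))
      rw [map_add, hy.self, hr2, add_zero] at h4
      exact one_ne h4.symm
    · rw [hc, one_smul] at h2
      have h3 : z + y0 + r = b • y0 := by rw [add_assoc, h2, add_comm, add_add_self]
      rw [h3]
      exact h.smul b y0 hy0
  have f1 : ∀ r, r ≠ 0 → f z r = 0 → f y0 r = 0 → f (z + y0 + r) z = 1 := by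
    intro r hr0 hr1 hr2
    rw [h.symm (hR r hr0 hr1 hr2) h.zO, uz r hr1]
  have f2 : ∀ r, r ≠ 0 → f z r = 0 → f y0 r = 0 → f (z + y0 + r) y0 = 1 := by
    intro r hr0 hr1 hr2
    rw [h.symm (hR r hr0 hr1 hr2) hy0, uy r hr2]
  have f3 : ∀ r, r ≠ 0 → f z r = 0 → f y0 r = 0 → ∀ r', r' ≠ 0 → f z r' = 0 → f y0 r' = 0 → r ≠ r' →
      f (z + y0 + r) r' = 1 := by
    intro r hr0 hr1 hr2 r' hr0' hr1' hr2' hne
    have h2 := h.far (hR r hr0 hr1 hr2) (hR r' hr0' hr1' hr2') (fun h3 => hne (add_left_cancel h3))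
    rwa [map_add, map_add, f1 r hr0 hr1 hr2, f2 r hr0 hr1 hr2, one_add_one, zero_add] at h2
  -- a first vector
  obtain ⟨r1, hr10, hr11, hr12⟩ : ∃ r, r ≠ 0 ∧ f z r = 0 ∧ f y0 r = 0 := by
    obtain ⟨e, he, he0, hez⟩ := h.exists_perp
    refine ⟨e + f y0 e • z, ?_, by rw [map_add, map_smul, he, hz.self, smul_zero, add_zero],
      by rw [map_add, map_smul, h1', smul_eq_mul, mul_one, add_self]⟩
    rcases zmod_cases (f y0 e) with h2 | h2
    · rw [h2, zero_smul, add_zero]
      exact he0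
    · rw [h2, one_smul]
      exact fun h3 => hez (eq_of_add h3)
  have hr1z : r1 ≠ z := by
    intro h2
    rw [h2, h1'] at hr12
    exact one_ne hr12
  -- a second one
  obtain ⟨r2, hr20, hr21, hr22, hr12ne⟩ : ∃ r, r ≠ 0 ∧ f z r = 0 ∧ f y0 r = 0 ∧ r1 ≠ r := by
    obtain ⟨b, hb, h2⟩ := h.move h.zO hr11 hr10 hr1z
    have hbO := h.smul b y0 hy0
    have h3 : b • y0 ≠ y0 := by
      intro h4
      have h5 := h.free h.zO hb h1 h4
      rw [h5, one_smul] at h2
      exact hz.ne (left_eq_add.mp h2)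
    refine ⟨b • y0 + (z + y0), ?_, ?_, ?_, ?_⟩
    · intro h4
      have h5 := eq_of_add h4
      rw [h5] at hbO
      exact hzy hbO
    · rw [map_add, map_add, hb.2.1, h1, hz.self, zero_add, one_add_one]
    · rw [map_add, map_add, h.far hy0 hbO (Ne.symm h3), h1', hy.self, add_zero, one_add_one]
    · intro h4
      have h5 : b • y0 = z + y0 + r1 := by rw [h4, add_comm (z + y0), add_add_self]
      have h6 : b • b • y0 = y0 := by rw [← mul_smul, hz.sq b hb, one_smul]
      rw [h5, smul_add, smul_add, hb.1, h5, h2] at h6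
      have h7 : z + (z + y0 + r1) + (r1 + z) = y0 + z + (z + z) + (r1 + r1) := by abel
      rw [h7, add_self, add_self, add_zero, add_zero] at h6
      exact hz.ne (add_eq_left.mp h6)
  have hs0 : r1 + r2 ≠ 0 := fun h2 => hr12ne (eq_of_add h2)
  have hs1 : f z (r1 + r2) = 0 := by rw [map_add, hr11, hr21, add_zero]
  have hs2 : f y0 (r1 + r2) = 0 := by rw [map_add, hr12, hr22, add_zero]
  have hRall : ∀ r, f z r = 0 → f y0 r = 0 → r = 0 ∨ r = r1 ∨ r = r2 ∨ r = r1 + r2 := by
    intro r h2 h3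
    by_contra hcon
    push Not at hcon
    obtain ⟨c0, c1, c2, c3⟩ := hcon
    have h4 := f3 r c0 h2 h3 _ hs0 hs1 hs2 c3
    rw [map_add, f3 r c0 h2 h3 _ hr10 hr11 hr12 c1, f3 r c0 h2 h3 _ hr20 hr21 hr22 c2, one_add_one] at h4
    exact one_ne h4.symm
  have hOm : ∀ u ∈ Om, u = z ∨ u = y0 ∨ u = z + y0 + r1 ∨ u = z + y0 + r2 ∨ u = z + y0 + (r1 + r2) := by
    intro u hu
    by_cases c1 : z = u
    · exact Or.inl c1.symm
    by_cases c2 : y0 = u
    · exact Or.inr (Or.inl c2.symm)
    have h2 : f z (u + (z + y0)) = 0 := by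
      rw [map_add, map_add, h.far h.zO hu c1, hz.self, h1, zero_add, one_add_one]
    have h3 : f y0 (u + (z + y0)) = 0 := by
      rw [map_add, map_add, h.far hy0 hu c2, hy.self, h1', add_zero, one_add_one]
    have h4 : ∀ r, u + (z + y0) = r → u = z + y0 + r := by
      intro r hr
      rw [← hr, add_comm (z + y0), add_add_self]
    rcases hRall _ h2 h3 with h5 | h5 | h5 | h5
    · exfalso
      have h6 := h4 0 h5
      rw [add_zero] at h6
      rw [h6] at hu
      exact hzy hu
    · exact Or.inr (Or.inr (Or.inl (h4 _ h5)))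
    · exact Or.inr (Or.inr (Or.inr (Or.inl (h4 _ h5))))
    · exact Or.inr (Or.inr (Or.inr (Or.inr (h4 _ h5))))
  -- inequalities
  have n01 : z ≠ y0 := by
    intro h2
    rw [← h2, hz.self] at h1
    exact one_ne h1.symm
  have nz : ∀ r, f z r = 0 → z ≠ z + y0 + r := by
    intro r hr h2
    have h3 := uz r hr
    rw [← h2, hz.self] at h3
    exact one_ne h3.symm
  have ny : ∀ r, f y0 r = 0 → y0 ≠ z + y0 + r := by
    intro r hr h2
    have h3 := uy r hr
    rw [← h2, hy.self] at h3
    exact one_ne h3.symm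
  have n02 := nz r1 hr11
  have n03 := nz r2 hr21
  have n04 := nz _ hs1
  have n12 := ny r1 hr12
  have n13 := ny r2 hr22
  have n14 := ny _ hs2
  have n23 : z + y0 + r1 ≠ z + y0 + r2 := fun h2 => hr12ne (add_left_cancel h2)
  have n24 : z + y0 + r1 ≠ z + y0 + (r1 + r2) := fun h2 => hr20 (left_eq_add.mp (add_left_cancel h2))
  have n34 : z + y0 + r2 ≠ z + y0 + (r1 + r2) := fun h2 => hr10 (right_eq_add.mp (add_left_cancel h2))
  refine ⟨![z, y0, z + y0 + r1, z + y0 + r2, z + y0 + (r1 + r2)], ?_, rfl, ?_, ?_, ?_⟩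
  · intro i j hij
    fin_cases i <;> fin_cases j <;> first
      | rfl
      | exact absurd hij n01
      | exact absurd hij n02
      | exact absurd hij n03
      | exact absurd hij n04
      | exact absurd hij n12
      | exact absurd hij n13
      | exact absurd hij n14
      | exact absurd hij n23
      | exact absurd hij n24
      | exact absurd hij n34
      | exact absurd hij.symm n01
      | exact absurd hij.symm n02
      | exact absurd hij.symm n03
      | exact absurd hij.symm n04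
      | exact absurd hij.symm n12
      | exact absurd hij.symm n13
      | exact absurd hij.symm n14
      | exact absurd hij.symm n23
      | exact absurd hij.symm n24
      | exact absurd hij.symm n34
  · ext u
    constructor
    · rintro ⟨i, rfl⟩
      fin_cases i
      · exact h.zO
      · exact hy0
      · exact hR _ hr10 hr11 hr12
      · exact hR _ hr20 hr21 hr22
      · exact hR _ hs0 hs1 hs2
    · intro hu
      rcases hOm u hu with h2 | h2 | h2 | h2 | h2
      · exact ⟨0, h2.symm⟩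
      · exact ⟨1, h2.symm⟩
      · exact ⟨2, h2.symm⟩
      · exact ⟨3, h2.symm⟩
      · exact ⟨4, h2.symm⟩
  · rw [Fin.sum_univ_five]
    change z + y0 + (z + y0 + r1) + (z + y0 + r2) + (z + y0 + (r1 + r2)) = 0
    have h2 : z + y0 + (z + y0 + r1) + (z + y0 + r2) + (z + y0 + (r1 + r2)) =
      (z + z) + (z + z) + (y0 + y0) + (y0 + y0) + (r1 + r1) + (r2 + r2) := by abel
    rw [h2]
    simp only [add_self]
  · classical
    have h2 := card_two hz.nz hy.nz (fun h3 => by
      rw [h3, hy.self] at h1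
      exact one_ne h1.symm) (LinearMap.ker (f z) ⊓ LinearMap.ker (f y0)) (fun u => by
        rw [Submodule.mem_inf, LinearMap.mem_ker, LinearMap.mem_ker])
    have h3 : ((LinearMap.ker (f z) ⊓ LinearMap.ker (f y0) : Submodule (ZMod 2) V) : Set V) =
        (({0, r1, r2, r1 + r2} : Finset V) : Set V) := by
      ext u
      simp only [Finset.coe_insert, Finset.coe_singleton, Set.mem_insert_iff, Set.mem_singleton_iff,
        SetLike.mem_coe, Submodule.mem_inf, LinearMap.mem_ker]
      constructor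
      · rintro ⟨h3, h4⟩
        exact hRall u h3 h4
      · rintro (rfl | rfl | rfl | rfl)
        · exact ⟨map_zero _, map_zero _⟩
        · exact ⟨hr11, hr12⟩
        · exact ⟨hr21, hr22⟩
        · exact ⟨hs1, hs2⟩
    have h4 : Nat.card (LinearMap.ker (f z) ⊓ LinearMap.ker (f y0) : Submodule (ZMod 2) V) =
        (({0, r1, r2, r1 + r2} : Finset V) : Set V).ncard := by
      rw [← h3]
      rfl
    have h5 : r1 ≠ r1 + r2 := fun h6 => hr20 (left_eq_add.mp h6)
    have h7 : r2 ≠ r1 + r2 := fun h6 => hr10 (right_eq_add.mp h6)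
    rw [h2, h4, Set.ncard_coe_finset, Finset.card_insert_of_notMem, Finset.card_insert_of_notMem,
      Finset.card_insert_of_notMem, Finset.card_singleton]
    · simp only [Finset.mem_singleton]
      exact h7
    · simp only [Finset.mem_insert, Finset.mem_singleton, not_or]
      exact ⟨hr12ne, h5⟩
    · simp only [Finset.mem_insert, Finset.mem_singleton, not_or]
      exact ⟨hr10.symm, hr20.symm, hs0.symm⟩

/-- a double transposition -/
theorem dbl [Finite Y] [Finite V] (h : Geo Y V T U z Om f) {w : Fin 5 → V} (hw : Function.Injective w)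
    (hr : Set.range w = Om) :
    ∃ b : Y, b • w 2 = w 2 ∧ b • w 0 = w 4 ∧ b • w 4 = w 0 ∧ b • w 1 = w 3 ∧ b • w 3 = w 1 := by
  have hO : ∀ i, w i ∈ Om := fun i => by
    rw [← hr]
    exact ⟨i, rfl⟩
  have hf : ∀ i j, i ≠ j → f (w i) (w j) = 1 := fun i j hij => h.far (hO i) (hO j) (fun h1 => hij (hw h1))
  obtain ⟨b, hb, c, h1⟩ := h.hit (hO 2) (hf 2 0 (by decide)) (hf 2 4 (by decide))
  have hc : c = 0 := by
    refine eq_zero_of_ne fun hc => ?_
    rw [hc, one_smul] at h1
    have h2 : w 4 + w 2 ∈ Om := by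
      rw [h1, add_add_self]
      exact h.smul b _ (hO 0)
    have h3 := h.nh (hO 2) (hO 4) h2
    rw [hf 2 4 (by decide)] at h3
    exact one_ne h3
  rw [hc, zero_smul, add_zero] at h1
  have hbb : ∀ v : V, b • b • v = v := fun v => by
    rw [← mul_smul, (h.pnt _ (hO 2)).sq b hb, one_smul]
  have h4 : b • w 4 = w 0 := by rw [h1, hbb]
  have hinj : ∀ i j, b • w i = b • w j → i = j := by
    intro i j h2
    apply hw
    rw [← hbb (w i), h2, hbb]
  obtain ⟨j, hj⟩ : b • w 1 ∈ Set.range w := by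
    rw [hr]
    exact h.smul b _ (hO 1)
  have h3 : b • w 1 = w 3 := by
    fin_cases j
    · exfalso
      have h5 := hinj 1 4 (by rw [← hj, h4]; rfl)
      exact absurd h5 (by decide)
    · exfalso
      have h5 := h.free (hO 2) hb (hf 2 1 (by decide)) hj.symm
      rw [h5, one_smul] at h1
      exact absurd (hw h1) (by decide)
    · exfalso
      have h5 := hinj 1 2 (by rw [← hj, hb.1]; rfl)
      exact absurd h5 (by decide)
    · exact hj.symm
    · exfalso
      have h5 := hinj 1 0 (by rw [← hj, ← h1]; rfl)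
      exact absurd h5 (by decide)
  exact ⟨b, hb.1, h1.symm, h4, h3, by rw [← h3, hbb]⟩

/-- no transposition -/
theorem no_swap [Finite Y] [Finite V] (h : Geo Y V T U z Om f) {w : Fin 5 → V} (hw : Function.Injective w)
    (hr : Set.range w = Om) : Equiv.swap (0 : Fin 5) 1 ∉ HH Y w := by
  rintro ⟨g, hg⟩
  have hO : ∀ i, w i ∈ Om := fun i => by
    rw [← hr]
    exact ⟨i, rfl⟩
  have hf : ∀ i j, i ≠ j → f (w i) (w j) = 1 := fun i j hij => h.far (hO i) (hO j) (fun h1 => hij (hw h1))
  have hs : ∀ i, f (w i) (w i) = 0 := fun i => (h.pnt _ (hO i)).self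
  refine h.nt g (w 0 + w 1) (f (w 0) + f (w 1)) ⟨?_, ?_, fun v => ?_⟩
  · intro h1
    exact absurd (hw (eq_of_add h1)) (by decide)
  · intro h1
    have h2 : (f (w 0) + f (w 1)) (w 0) = 0 := by rw [h1]; rfl
    rw [LinearMap.add_apply, hs, hf 1 0 (by decide), zero_add] at h2
    exact one_ne h2
  · let L : V →ₗ[ZMod 2] V := LinearMap.id + (f (w 0) + f (w 1)).smulRight (w 0 + w 1)
    have h1 := h.span (LinearMap.eqLocus (lin g : V →ₗ[ZMod 2] V) L) (by
      intro x hx
      rw [← hr] at hx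
      obtain ⟨i, rfl⟩ := hx
      change g • w i = w i + (f (w 0) (w i) + f (w 1) (w i)) • (w 0 + w 1)
      rw [hg]
      have key : ∀ i, i ≠ 0 → i ≠ 1 → w (Equiv.swap (0 : Fin 5) 1 i) =
          w i + (f (w 0) (w i) + f (w 1) (w i)) • (w 0 + w 1) := by
        intro i h0 h1
        rw [Equiv.swap_apply_of_ne_of_ne h0 h1, hf 0 i (Ne.symm h0), hf 1 i (Ne.symm h1), one_add_one, zero_smul,
          add_zero]
      by_cases c0 : i = 0
      · rw [c0, Equiv.swap_apply_left, hs, hf 1 0 (by decide), zero_add, one_smul, ← add_assoc, add_self, zero_add]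
      by_cases c1 : i = 1
      · rw [c1, Equiv.swap_apply_right, hs, hf 0 1 (by decide), add_zero, one_smul, add_comm (w 0), ← add_assoc,
          add_self, zero_add]
      exact key i c0 c1)
    have h2 : v ∈ LinearMap.eqLocus (lin g : V →ₗ[ZMod 2] V) L := by
      rw [h1]
      exact Submodule.mem_top
    exact h2

/-- the double transpositions -/
theorem dblP [Finite Y] [Finite V] (h : Geo Y V T U z Om f) {w : Fin 5 → V} (hw : Function.Injective w)
    (hr : Set.range w = Om) (c : Equiv.Perm (Fin 5)) :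
    c * (Equiv.swap 0 4 * Equiv.swap 1 3) * c⁻¹ ∈ HH Y w := by
  obtain ⟨b, h2, h0, h4, h1, h3⟩ := h.dbl (w := w ∘ c) (hw.comp c.injective) (by
    rw [Set.range_comp, c.range_eq_univ, Set.image_univ, hr])
  refine ⟨b, fun i => ?_⟩
  obtain ⟨j, rfl⟩ := c.surjective i
  have h5 : (c * (Equiv.swap 0 4 * Equiv.swap 1 3) * c⁻¹ : Equiv.Perm (Fin 5)) (c j) =
      c ((Equiv.swap 0 4 * Equiv.swap 1 3 : Equiv.Perm (Fin 5)) j) := by
    change c ((Equiv.swap 0 4 * Equiv.swap 1 3 : Equiv.Perm (Fin 5)) (c.symm (c j))) = _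
    rw [c.symm_apply_apply]
  rw [h5]
  fin_cases j
  · exact h0
  · exact h1
  · exact h2
  · exact h3
  · exact h4

theorem alt_le [Finite Y] [Finite V] (h : Geo Y V T U z Om f) {w : Fin 5 → V} (hw : Function.Injective w)
    (hr : Set.range w = Om) : alternatingGroup (Fin 5) ≤ HH Y w := by
  have hs : IsSimpleGroup (alternatingGroup (Fin 5)) := alternatingGroup.isSimpleGroup (by simp)
  have hm : Equiv.swap (0 : Fin 5) 4 * Equiv.swap 1 3 ∈ alternatingGroup (Fin 5) :=
    Equiv.Perm.mem_alternatingGroup.2 (by decide)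
  have h1 : normalClosure ({⟨_, hm⟩} : Set (alternatingGroup (Fin 5))) = ⊤ := by
    refine (hs.eq_bot_or_eq_top_of_normal _ normalClosure_normal).resolve_left fun h2 => ?_
    have h3 : (⟨_, hm⟩ : alternatingGroup (Fin 5)) ∈ normalClosure ({⟨_, hm⟩} : Set (alternatingGroup (Fin 5))) :=
      subset_normalClosure rfl
    rw [h2, mem_bot] at h3
    have h4 : Equiv.swap (0 : Fin 5) 4 * Equiv.swap 1 3 = 1 := congrArg Subtype.val h3
    exact absurd h4 (by decide)
  have h2 : normalClosure ({⟨_, hm⟩} : Set (alternatingGroup (Fin 5))) ≤ (HH Y w).subgroupOf _ := by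
    rw [normalClosure, closure_le]
    intro x hx
    rw [Group.mem_conjugatesOfSet_iff] at hx
    obtain ⟨y, hy, hyx⟩ := hx
    rw [Set.mem_singleton_iff] at hy
    obtain ⟨c, hc⟩ := isConj_iff.mp hyx
    rw [SetLike.mem_coe, mem_subgroupOf, ← hc, hy]
    exact h.dblP hw hr c
  intro σ hσ
  have h3 : (⟨σ, hσ⟩ : alternatingGroup (Fin 5)) ∈ (HH Y w).subgroupOf (alternatingGroup (Fin 5)) := by
    apply h2
    rw [h1]
    exact mem_top _
  exact h3

theorem HH_eq [Finite Y] [Finite V] (h : Geo Y V T U z Om f) {w : Fin 5 → V} (hw : Function.Injective w)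
    (hr : Set.range w = Om) : HH Y w = alternatingGroup (Fin 5) := by
  refine le_antisymm (fun σ hσ => ?_) (h.alt_le hw hr)
  by_contra h1
  apply h.no_swap hw hr
  have h2 : σ⁻¹ * Equiv.swap 0 1 ∈ alternatingGroup (Fin 5) := by
    rw [Equiv.Perm.mem_alternatingGroup] at h1 ⊢
    rw [map_mul, map_inv, Equiv.Perm.sign_swap (by decide), (Int.units_eq_one_or _).resolve_left h1]
    decide
  have h3 := mul_mem hσ (h.alt_le hw hr h2)
  rwa [mul_inv_cancel_left] at h3

theorem exists_perm [Finite Y] [Finite V] (h : Geo Y V T U z Om f) {w : Fin 5 → V} (hw : Function.Injective w)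
    (hr : Set.range w = Om) (g : Y) : ∃ σ : Equiv.Perm (Fin 5), ∀ i, g • w i = w (σ i) := by
  have h1 : ∀ i, ∃ j, w j = g • w i := by
    intro i
    have h2 : g • w i ∈ Set.range w := by
      rw [hr]
      refine h.smul g _ ?_
      rw [← hr]
      exact ⟨i, rfl⟩
    exact h2
  choose σ hσ using h1
  have h2 : Function.Injective σ := by
    intro i j hij
    apply hw
    rw [← inv_smul_smul g (w i), ← hσ, hij, hσ, inv_smul_smul]
  exact ⟨Equiv.ofBijective σ (Finite.injective_iff_bijective.mp h2), fun i => (hσ i).symm⟩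

end Geo

/-- **THEOREM BT2** (helper318, bb 13091) -/
theorem Hyp.main [Finite Y] [Finite V] {T : Sylow 2 Y} {U : Subgroup Y} {z : V} {φ : Du V} {B : Subgroup Y}
    (h : Hyp Y V T U z φ B) : ∃ w : Fin 5 → V, FivePts Y z w := by
  have hg := h.geo
  obtain ⟨w, h1, h2, h3, h4, h5⟩ := hg.exists_five
  refine ⟨w, h1, h2, h3, h4, h5, ?_, fun g => ?_, fun σ hσ => ?_⟩
  · refine hg.span _ fun x hx => ?_
    rw [← h3] at hx
    exact Submodule.subset_span hx
  · obtain ⟨σ, hσ⟩ := hg.exists_perm h1 h3 g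
    refine ⟨σ, ?_, hσ⟩
    rw [← hg.HH_eq h1 h3]
    exact ⟨g, hσ⟩
  · rw [← hg.HH_eq h1 h3] at hσ
    exact hσ

end Cfsg.Agent.Omega.NearFF
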