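import Cfsg.Agent.Omega.Transv.Front

/-!
# THEOREM BT2 (helper318, bb 13091): points with their groups

`KK x χ` is the group of all `b` centralising `x`, `ker χ / x` and `V / ker χ`.
-/

set_option autoImplicit false

namespace Cfsg.Agent.Omega.NearFF

open Subgroup Transv

variable {Y : Type*} [Group Y] {V : Type*} [AddCommGroup V] [Module (ZMod 2) V] [DistribMulAction Y V]

/-- no transvections -/
def NT (Y V : Type*) [Group Y] [AddCommGroup V] [Module (ZMod 2) V] [DistribMulAction Y V] : Prop :=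
  ∀ (g : Y) (a : V) (χ : Du V), ¬ Tv g a χ

theorem exists_fn_one {x : V} (hx : x ≠ 0) : ∃ f : Du V, f x = 1 := by
  have h1 : x ∉ (⊥ : Submodule (ZMod 2) V) := fun h => hx ((Submodule.mem_bot _).mp h)
  obtain ⟨f, hf, -⟩ := Submodule.exists_le_ker_of_notMem h1
  exact ⟨f, eq_one_of_ne hf⟩

theorem eq_one_of (hf : Faith Y V) (nt : NT Y V) {k : Y} {x : V} (hx : x ≠ 0)
    (h : ∀ u : V, k • u = u ∨ k • u = u + x) : k = 1 := by
  obtain ⟨l, hl⟩ := exists_fn_one hx
  let ψ : Du V := l.comp (lin k + LinearMap.id)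
  have hψ : ∀ u, k • u = u + ψ u • x := by
    intro u
    change k • u = u + l (k • u + u) • x
    rcases h u with h1 | h1
    · rw [h1, add_self, map_zero, zero_smul, add_zero]
    · rw [h1, Fr.cancel_right, hl, one_smul]
  by_cases h0 : ψ = 0
  · refine hf k fun u => ?_
    rw [hψ, h0]
    change u + (0 : ZMod 2) • x = u
    rw [zero_smul, add_zero]
  · exact absurd ⟨hx, h0, hψ⟩ (nt k x ψ)

/-- the group of the point `x` with the hyperplane `ker χ` -/
def KK (Y : Type*) [Group Y] [DistribMulAction Y V] (x : V) (χ : Du V) : Subgroup Y where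
  carrier := {b | b • x = x ∧ (∀ v, χ (b • v) = χ v) ∧ ∀ e, χ e = 0 → b • e = e ∨ b • e = e + x}
  one_mem' := ⟨one_smul _ _, fun v => by rw [one_smul], fun e _ => Or.inl (one_smul _ _)⟩
  mul_mem' := by
    rintro a b ⟨ha1, ha2, ha3⟩ ⟨hb1, hb2, hb3⟩
    refine ⟨by rw [mul_smul, hb1, ha1], fun v => by rw [mul_smul, ha2, hb2], fun e he => ?_⟩
    rw [mul_smul]
    rcases hb3 e he with h1 | h1
    · rw [h1]
      exact ha3 e he
    · rw [h1, smul_add, ha1]
      rcases ha3 e he with h2 | h2
      · rw [h2]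
        exact Or.inr rfl
      · rw [h2, add_add_self]
        exact Or.inl rfl
  inv_mem' := by
    rintro b ⟨h1, h2, h3⟩
    refine ⟨by rw [inv_smul_eq_iff, h1], fun v => by rw [← h2 (b⁻¹ • v), smul_inv_smul], fun e he => ?_⟩
    have h4 : χ (b⁻¹ • e) = 0 := by rw [← h2 (b⁻¹ • e), smul_inv_smul, he]
    rcases h3 _ h4 with h5 | h5
    · rw [smul_inv_smul] at h5
      exact Or.inl h5.symm
    · rw [smul_inv_smul] at h5
      right
      conv_rhs => rw [h5, add_add_self]

theorem mem_KK {x : V} {χ : Du V} {b : Y} : b ∈ KK Y x χ ↔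
    b • x = x ∧ (∀ v, χ (b • v) = χ v) ∧ ∀ e, χ e = 0 → b • e = e ∨ b • e = e + x := Iff.rfl

/-- a good point -/
structure Pnt (Y : Type*) {V : Type*} [Group Y] [AddCommGroup V] [Module (ZMod 2) V] [DistribMulAction Y V]
    (x : V) (χ : Du V) : Prop where
  ne : x ≠ 0
  nz : χ ≠ 0
  self : χ x = 0
  comm : ∀ a ∈ KK Y x χ, ∀ b ∈ KK Y x χ, a * b = b * a
  sq : ∀ b ∈ KK Y x χ, b * b = 1
  card : 4 * Nat.card (KK Y x χ) = Nat.card V

theorem card_hyper [Finite V] {χ : Du V} (h : χ ≠ 0) : 2 * Nat.card {u : V // χ u = 1} = Nat.card V := by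
  obtain ⟨v, hv⟩ := exists_one h
  let F : {u : V // χ u = 1} × ZMod 2 → V := fun p => p.1 + p.2 • v
  have hF : Function.Bijective F := by
    constructor
    · rintro ⟨⟨u, hu⟩, c⟩ ⟨⟨u', hu'⟩, c'⟩ h1
      have h1' : u + c • v = u' + c' • v := h1
      have h2 : χ (u + c • v) = χ (u' + c' • v) := by rw [h1']
      rw [map_add, map_add, map_smul, map_smul, hu, hu', hv, smul_eq_mul, smul_eq_mul, mul_one, mul_one] at h2
      have h3 : c = c' := add_left_cancel h2
      subst h3
      have h4 : u = u' := add_right_cancel h1'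
      subst h4
      rfl
    · intro u
      rcases zmod_cases (χ u) with h1 | h1
      · refine ⟨⟨⟨u + v, by rw [map_add, h1, hv, zero_add]⟩, 1⟩, ?_⟩
        change u + v + (1 : ZMod 2) • v = u
        rw [one_smul, add_add_self]
      · refine ⟨⟨⟨u, h1⟩, 0⟩, ?_⟩
        change u + (0 : ZMod 2) • v = u
        rw [zero_smul, add_zero]
  rw [← Nat.card_congr (Equiv.ofBijective F hF), Nat.card_prod, Nat.card_zmod, mul_comm]

theorem eq_add_smul {u v x : V} {c : ZMod 2} (h : u = v + c • x) : v = u + c • x := by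
  rw [h, add_add_self]

namespace Pnt

variable {x : V} {χ : Du V}

theorem inj (hf : Faith Y V) (nt : NT Y V) (h : Pnt Y x χ) {b b' : Y} (hb : b ∈ KK Y x χ) (hb' : b' ∈ KK Y x χ)
    {v : V} (hv : χ v = 1) {c : ZMod 2} (he : b • v = b' • v + c • x) : b = b' := by
  have hk : b'⁻¹ * b ∈ KK Y x χ := mul_mem (inv_mem hb') hb
  have h1 : (b'⁻¹ * b) • v = v + c • x := by
    rw [mul_smul, he, smul_add, inv_smul_smul, smul_zmod, (inv_mem hb').1]
  have h2 : b'⁻¹ * b = 1 := by
    refine eq_one_of hf nt h.ne fun u => ?_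
    rcases zmod_cases (χ u) with h3 | h3
    · exact hk.2.2 u h3
    · have h4 : χ (u + v) = 0 := by rw [map_add, h3, hv, one_add_one]
      have h5 : u = v + (u + v) := by rw [add_comm v, add_add_self]
      have h6 : (b'⁻¹ * b) • u = v + c • x + (b'⁻¹ * b) • (u + v) := by
        rw [← h1, ← smul_add, ← h5]
      have h7 : v + c • x + (u + v) = u + c • x := by
        rw [add_comm u v, Fr.cancel_mid, add_comm]
      rcases hk.2.2 _ h4 with h8 | h8
      · rw [h8, h7] at h6
        rcases zmod_cases c with hc | hc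
        · left
          rw [h6, hc, zero_smul, add_zero]
        · right
          rw [h6, hc, one_smul]
      · rw [h8, ← add_assoc, h7] at h6
        rcases zmod_cases c with hc | hc
        · right
          rw [h6, hc, zero_smul, add_zero]
        · left
          rw [h6, hc, one_smul, add_add_self]
  exact (inv_mul_eq_one.mp h2).symm

theorem free (hf : Faith Y V) (nt : NT Y V) (h : Pnt Y x χ) {b : Y} (hb : b ∈ KK Y x χ) {v : V} (hv : χ v = 1)
    (he : b • v = v) : b = 1 :=
  h.inj hf nt hb (one_mem _) hv (c := 0) (by rw [he, one_smul, zero_smul, add_zero])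

theorem hit [Finite Y] [Finite V] (hf : Faith Y V) (nt : NT Y V) (h : Pnt Y x χ) {v u : V} (hv : χ v = 1)
    (hu : χ u = 1) : ∃ b ∈ KK Y x χ, ∃ c : ZMod 2, u = b • v + c • x := by
  let F : KK Y x χ × ZMod 2 → {u : V // χ u = 1} := fun p =>
    ⟨(p.1 : Y) • v + p.2 • x, by
      rw [map_add, p.1.2.2.1, hv, map_smul (f := χ) (c := p.2), h.self, smul_zero, add_zero]⟩
  have hF : Function.Injective F := by
    rintro ⟨⟨b, hb⟩, c⟩ ⟨⟨b', hb'⟩, c'⟩ h1
    have h1' : b • v + c • x = b' • v + c' • x := congrArg Subtype.val h1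
    have h2 : b • v = b' • v + (c' + c) • x := by
      rw [add_smul, ← add_assoc, ← h1', add_add_self]
    have h3 : b = b' := h.inj hf nt hb hb' hv h2
    subst h3
    have h4 : c • x = c' • x := add_left_cancel h1'
    have h5 : c = c' := by
      rcases zmod_cases c with hc | hc
      · rcases zmod_cases c' with hc' | hc'
        · rw [hc, hc']
        · rw [hc, hc', zero_smul, one_smul] at h4
          exact absurd h4.symm h.ne
      · rcases zmod_cases c' with hc' | hc'
        · rw [hc, hc', zero_smul, one_smul] at h4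
          exact absurd h4 h.ne
        · rw [hc, hc']
    rw [h5]
  have hc : Nat.card (KK Y x χ × ZMod 2) = Nat.card {u : V // χ u = 1} := by
    have h1 := card_hyper h.nz
    have h2 := h.card
    rw [Nat.card_prod, Nat.card_zmod]
    omega
  have hb := (Nat.bijective_iff_injective_and_card F).mpr ⟨hF, hc⟩
  obtain ⟨⟨⟨b, hb⟩, c⟩, h1⟩ := hb.2 ⟨u, hu⟩
  exact ⟨b, hb, c, (congrArg Subtype.val h1).symm⟩

theorem move [Finite Y] [Finite V] (hf : Faith Y V) (nt : NT Y V) (h : Pnt Y x χ) {e : V} (he : χ e = 0)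
    (he0 : e ≠ 0) (hex : e ≠ x) : ∃ b ∈ KK Y x χ, b • e = e + x := by
  by_contra hcon
  push Not at hcon
  have hfix : ∀ b ∈ KK Y x χ, b • e = e := fun b hb => (hb.2.2 e he).resolve_right (hcon b hb)
  obtain ⟨v, hv⟩ := exists_one h.nz
  obtain ⟨b0, hb0, c, h1⟩ := h.hit hf nt hv (u := v + e) (by rw [map_add, hv, he, add_zero])
  have h1' := eq_add_smul h1
  have h2 : ∀ e', χ e' = 0 → b0 • e' = e' := by
    intro e' he'
    obtain ⟨b1, hb1, c1, h3⟩ := h.hit hf nt hv (u := v + e') (by rw [map_add, hv, he', add_zero])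
    have h3' := eq_add_smul h3
    have h4 : b0 • (b1 • v) = b1 • (b0 • v) := by rw [← mul_smul, ← mul_smul, h.comm b0 hb0 b1 hb1]
    rw [h1', h3', smul_add, smul_add, smul_add, smul_add, smul_zmod, smul_zmod, hb0.1, hb1.1, hfix b1 hb1, h1',
      h3'] at h4
    have h5 : v + e + c • x + (b0 • e' + c1 • x) = v + e + c • x + (e' + c1 • x) := by
      have h6 : v + e + c • x + (b0 • e' + c1 • x) = v + e + c • x + b0 • e' + c1 • x := by abel
      have h7 : v + e + c • x + (e' + c1 • x) = v + e' + c1 • x + e + c • x := by abel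
      rw [h6, h7]
      exact h4
    exact add_right_cancel (add_left_cancel h5)
  refine nt b0 (e + c • x) χ ⟨?_, h.nz, fun u => ?_⟩
  · intro h3
    rcases zmod_cases c with hc | hc
    · rw [hc, zero_smul, add_zero] at h3
      exact he0 h3
    · rw [hc, one_smul] at h3
      exact hex (eq_of_add h3)
  · rcases zmod_cases (χ u) with h3 | h3
    · rw [h2 u h3, h3, zero_smul, add_zero]
    · have h4 : χ (u + v) = 0 := by rw [map_add, h3, hv, one_add_one]
      have h5 : u = v + (u + v) := by rw [add_comm v, add_add_self]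
      have h6 : b0 • u = b0 • v + (u + v) := by
        rw [← h2 _ h4, ← smul_add, ← h5]
      rw [h6, h1', h3, one_smul]
      have h7 : v + e + c • x + (u + v) = u + (e + c • x) + (v + v) := by abel
      rw [h7, add_self, add_zero]

end Pnt

end Cfsg.Agent.Omega.NearFF
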