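import Cfsg.Agent.Omega.NearFF.Line

/-!
# THEOREM BT2 (helper318, bb 13091): the block of `z`, the line fixed by `T`
-/

set_option autoImplicit false
set_option linter.unusedSectionVars false

namespace Cfsg.Agent.Omega.NearFF

open Subgroup Transv

variable {Y : Type*} [Group Y] {V : Type*} [AddCommGroup V] [Module (ZMod 2) V] [DistribMulAction Y V]

namespace Geo

variable {T : Sylow 2 Y} {U : Subgroup Y} {z : V} {Om : Set V} {f : V → Du V}

/-- two vectors of `E_z` are separated by the group of `z` -/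
theorem separate [Finite Y] [Finite V] (h : Geo Y V T U z Om f) {y y2 : V} (h1 : f z y = 0) (h2 : f z y2 = 0)
    (hy0 : y2 ≠ 0) (hyz : y2 ≠ z) (hs0 : y + y2 ≠ 0) (hsz : y + y2 ≠ z) :
    ∃ a ∈ KK Y z (f z), a • y = y ∧ a • y2 = y2 + z := by
  have hz0 := (h.pnt z h.zO).ne
  obtain ⟨b1, hb1, e1⟩ := h.move h.zO h2 hy0 hyz
  rcases hb1.2.2 y h1 with e2 | e2
  · exact ⟨b1, hb1, e2, e1⟩
  · obtain ⟨b2, hb2, e3⟩ := h.move h.zO (e := y + y2) (by rw [map_add, h1, h2, add_zero]) hs0 hsz
    rw [smul_add] at e3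
    rcases hb2.2.2 y h1 with e4 | e4
    · refine ⟨b2, hb2, e4, ?_⟩
      rw [e4, add_assoc] at e3
      exact add_left_cancel e3
    · rcases hb2.2.2 y2 h2 with e5 | e5
      · refine ⟨b1 * b2, mul_mem hb1 hb2, ?_, ?_⟩
        · rw [mul_smul, e4, smul_add, e2, hb1.1, add_add_self]
        · rw [mul_smul, e5, e1]
      · exfalso
        rw [e4, e5] at e3
        have e6 : y + z + (y2 + z) = y + y2 := by
          rw [add_add_add_comm, add_self, add_zero]
        rw [e6] at e3
        exact hz0 (left_eq_add.mp e3)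

/-- (A5) -/
theorem card_le [Finite Y] [Finite V] (h : Geo Y V T U z Om f) (hD : ∀ d ∈ Del U z, f z d = 0) {w : V}
    (hw : w ∈ Del U z) (hwz : w ≠ z) : Nat.card (KK Y z (f z)) ≤ 4 := by
  have hz := h.pnt z h.zO
  obtain ⟨y0, hy0, h1⟩ := h.exists_far h.zO
  have h1' : f y0 z = 1 := by rw [h.symm hy0 h.zO, h1]
  have hzw := hD w hw
  have hwz' : w + z ∈ Del U z := h.del_add z_del hw hzw hwz
  have hy0D : y0 ∉ Del U z := fun h2 => by
    rw [hD y0 h2] at h1
    exact one_ne h1.symm
  have hd : ∃ d ∈ Del U z, f y0 d = 0 := by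
    rcases zmod_cases (f y0 w) with h2 | h2
    · exact ⟨w, hw, h2⟩
    · exact ⟨w + z, hwz', by rw [map_add, h2, h1', one_add_one]⟩
  obtain ⟨d, ⟨u, hu, rfl⟩, h2⟩ := hd
  have hyO := h.smul u⁻¹ y0 hy0
  have hyz : f z (u⁻¹ • y0) = 0 := by
    rw [← h.conj u z h.zO, smul_inv_smul, h.symm (h.smul u z h.zO) hy0, h2]
  have hyD : u⁻¹ • y0 ∉ Del U z := fun h3 => hy0D (by
    have h4 := del_smul hu h3
    rwa [smul_inv_smul] at h4)
  generalize u⁻¹ • y0 = y at hyO hyz hyD
  obtain ⟨g, rfl⟩ := h.trans y hyO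
  -- all points of the block are perpendicular
  have hDD : ∀ d ∈ Del U z, ∀ d' ∈ Del U z, f d d' = 0 := by
    rintro d ⟨k, hk, rfl⟩ d' hd'
    have h3 := h.conj k z h.zO (k⁻¹ • d')
    rw [smul_inv_smul] at h3
    rw [h3]
    exact hD _ (del_smul (inv_mem hk) hd')
  -- the block of `g • z` does not contain `z`
  have hgz : ∀ d ∈ Del U z, g • d ≠ z := by
    intro d hd h3
    apply hyD
    refine del_smul (h.block hd ?_) z_del
    rw [h3]
    exact z_del
  -- an element fixing `g • z` preserves its block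
  have hblk : ∀ a : Y, a • g • z = g • z → ∀ d ∈ Del U z, ∃ d' ∈ Del U z, a • g • d = g • d' := by
    intro a ha d hd
    refine ⟨(g⁻¹ * a * g) • d, del_smul (h.stab_le ?_) hd, ?_⟩
    · rw [mul_smul, mul_smul, ha, inv_smul_smul]
    · rw [mul_smul, mul_smul, smul_inv_smul]
  have hone : ∀ d ∈ Del U z, d ≠ z → f z (g • d) = 1 := by
    intro d hd hdz
    refine eq_one_of_ne fun h3 => ?_
    have hdO := h.del_le hd
    have hdd : d + z ∈ Del U z := h.del_add z_del hd (hD d hd) hdz
    have e1 : g • z + g • d = g • (d + z) := by rw [smul_add, add_comm]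
    have e2 : g • d ≠ 0 := (h.pnt _ (h.smul g d hdO)).ne
    have e3 : g • z + g • d ≠ 0 := by
      rw [e1]
      exact (h.pnt _ (h.smul g _ (h.del_le hdd))).ne
    have e4 : g • z + g • d ≠ z := by
      rw [e1]
      exact hgz _ hdd
    obtain ⟨a, ha, e5, e6⟩ := h.separate hyz h3 e2 (hgz d hd) e3 e4
    obtain ⟨d', hd', e7⟩ := hblk a e5 d hd
    rw [e6] at e7
    have hne : d' ≠ d := by
      intro e8
      rw [e8] at e7
      exact hz.ne (add_eq_left.mp e7)
    have e9 := h.del_add hd hd' (hDD d hd d' hd') hne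
    apply hgz _ e9
    rw [smul_add, ← e7, Fr.cancel_right]
  -- elements of the group of `z` fixing `g • z`
  have hgw := hone w hw hwz
  have htwo : ∀ a ∈ KK Y z (f z), a • g • z = g • z → a • g • w = g • w ∨ a • g • w = g • w + g • z := by
    intro a ha e1
    obtain ⟨d', hd', e2⟩ := hblk a e1 w hw
    rw [e2]
    by_cases e3 : d' = w
    · rw [e3]
      exact Or.inl rfl
    · right
      have e4 := h.del_add hw hd' (hDD w hw d' hd') e3
      by_cases e5 : d' + w = z
      · rw [← smul_add, ← e5, add_comm d' w, ← add_assoc, add_self, zero_add]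
      · exfalso
        have e6 := hone _ e4 e5
        rw [smul_add, map_add, hgw, ← e2, ha.2.1, hgw, one_add_one] at e6
        exact zero_ne_one' e6
  classical
  have := Fintype.ofFinite (KK Y z (f z))
  rw [Nat.card_eq_fintype_card, ← Finset.card_univ]
  have hinj : ∀ a ∈ KK Y z (f z), ∀ a' ∈ KK Y z (f z), a • g • w = a' • g • w → a = a' := by
    intro a ha a' ha' e1
    have e2 : a'⁻¹ * a = 1 := h.free h.zO (mul_mem (inv_mem ha') ha) hgw (by rw [mul_smul, e1, inv_smul_smul])
    exact (inv_mul_eq_one.mp e2).symm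
  have hmaps : ∀ a ∈ (Finset.univ : Finset (KK Y z (f z))), (a : Y) • g • z ∈ ({g • z, g • z + z} : Finset V) := by
    intro a _
    rw [Finset.mem_insert, Finset.mem_singleton]
    exact a.2.2.2 _ hyz
  have hcard := Finset.card_le_mul_card_image_of_maps_to hmaps 2 (by
    intro v hv
    rcases Finset.eq_empty_or_nonempty
      (Finset.filter (fun a : KK Y z (f z) => (a : Y) • g • z = v) Finset.univ) with e1 | ⟨a0, ha0⟩
    · rw [e1]
      exact Nat.zero_le _
    · rw [Finset.mem_filter] at ha0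
      refine le_trans (Finset.card_le_card_of_injOn (fun a : KK Y z (f z) => (a : Y) • g • w)
        (t := {(a0 : Y) • g • w, (a0 : Y) • (g • w + g • z)}) ?_ ?_) Finset.card_le_two
      · intro a ha
        rw [Finset.mem_coe, Finset.mem_filter] at ha
        rw [Finset.mem_coe, Finset.mem_insert, Finset.mem_singleton]
        have e2 : ((a0 : Y)⁻¹ * a) • g • z = g • z := by rw [mul_smul, ha.2, ← ha0.2, inv_smul_smul]
        have e3 := htwo _ (mul_mem (inv_mem a0.2) a.2) e2
        rw [mul_smul, inv_smul_eq_iff, inv_smul_eq_iff] at e3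
        exact e3
      · intro a _ a' _ e2
        exact Subtype.ext (hinj a a.2 a' a'.2 e2))
  have h5 : ({g • z, g • z + z} : Finset V).card ≤ 2 := Finset.card_le_two
  omega

end Geo

end Cfsg.Agent.Omega.NearFF
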