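import Cfsg.Agent.Omega.NearFF.Up

/-!
# (BT), `|V/E| = 2`: (F) with `c = 4` is dead (helper496, #16504; referee helper540 #16594) (project OMEGA, leaf N1)

* `NB.cfour` : the pure module statement, with an element `x` of 5-power order permuting five forms cyclically;
* `Dat.cfour` : the form used in (F): `L ≥ B`, `|f_z^L| = 5`, `ψ ∈ f_z^L`, `|B : C_B(ψ)| = 4`, and some
  `1 ≠ a ∈ C_B(ψ)` with `β(a, C_B(ψ)) = 0`.
-/

set_option autoImplicit false
set_option linter.unusedSectionVars false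

namespace Cfsg.Agent.Omega.NearFF

open Subgroup Cfsg.Agent.Omega.Transv

/-- the cyclic code of a nonconstant word of length five -/
theorem CFour.five_rel : ∀ a0 a1 a2 a3 a4 : ZMod 2, ¬ (a0 = a1 ∧ a1 = a2 ∧ a2 = a3 ∧ a3 = a4) →
    ∃ d0 d1 d2 d3 d4 : ZMod 2,
      d0 * a0 + d1 * a4 + d2 * a3 + d3 * a2 + d4 * a1 = 1 ∧
      d0 * a1 + d1 * a0 + d2 * a4 + d3 * a3 + d4 * a2 = 1 ∧
      d0 * a2 + d1 * a1 + d2 * a0 + d3 * a4 + d4 * a3 = 0 ∧
      d0 * a3 + d1 * a2 + d2 * a1 + d3 * a0 + d4 * a4 = 0 ∧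
      d0 * a4 + d1 * a3 + d2 * a2 + d3 * a1 + d4 * a0 = 0 := by
  decide +kernel

variable {Y : Type*} [Group Y] {V : Type*} [AddCommGroup V] [Module (ZMod 2) V] [DistribMulAction Y V]

/-- five cyclically permuted forms, the first two different: `|V : ⋂ ker| ≥ 16` -/
theorem CFour.card_five [Finite V] {x : Y} {p : Fin 5 → Du V} (hx : ∀ (i : Fin 5) (v : V), p (i + 1) (x • v) = p i v)
    (h1 : p 1 ≠ p 0) (E : Submodule (ZMod 2) V) (hE : ∀ e ∈ E, ∀ i, p i e = 0) :
    16 * Nat.card E ≤ Nat.card V := by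
  let Φ : V →ₗ[ZMod 2] (Fin 4 → ZMod 2) :=
    LinearMap.pi fun i => p i.succ
  have hΦ : ∀ (v : V) (i : Fin 4), Φ v i = p i.succ v := fun v i => rfl
  have hsurj : Function.Surjective Φ := by
    rw [← LinearMap.range_eq_top]
    by_contra hc
    obtain ⟨f, hf, hle⟩ := Submodule.exists_le_ker_of_lt_top _ (lt_top_iff_ne_top.2 hc)
    let c : Fin 4 → ZMod 2 := fun i => f fun j => if i = j then 1 else 0
    have hfc : ∀ u, f u = ∑ i, u i * c i := fun u => by
      rw [LinearMap.pi_apply_eq_sum_univ f u]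
      rfl
    have hrel : ∀ v : V, p 1 v * c 0 + p 2 v * c 1 + p 3 v * c 2 + p 4 v * c 3 = 0 := by
      intro v
      have h2 : f (Φ v) = 0 := hle ⟨v, rfl⟩
      rw [hfc, Fin.sum_univ_four] at h2
      exact h2
    have hc0 : ¬ ((0 : ZMod 2) = c 0 ∧ c 0 = c 1 ∧ c 1 = c 2 ∧ c 2 = c 3) := by
      rintro ⟨h2, h3, h4, h5⟩
      apply hf
      refine LinearMap.ext fun u => ?_
      rw [hfc, Fin.sum_univ_four, ← h5, ← h4, ← h3, ← h2]
      simp
    obtain ⟨d0, d1, d2, d3, d4, e0, e1, e2, e3, e4⟩ := CFour.five_rel _ _ _ _ _ hc0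
    apply h1
    have h01 : ∀ v, p 1 (x • v) = p 0 v := fun v => hx 0 v
    have h12 : ∀ v, p 2 (x • v) = p 1 v := fun v => hx 1 v
    have h23 : ∀ v, p 3 (x • v) = p 2 v := fun v => hx 2 v
    have h34 : ∀ v, p 4 (x • v) = p 3 v := fun v => hx 3 v
    have h40 : ∀ v, p 0 (x • v) = p 4 v := fun v => hx 4 v
    have r0 := hrel
    have r1 : ∀ v, p 0 v * c 0 + p 1 v * c 1 + p 2 v * c 2 + p 3 v * c 3 = 0 := by
      intro v
      have h := r0 (x • v)
      rwa [h01, h12, h23, h34] at h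
    have r2 : ∀ v, p 4 v * c 0 + p 0 v * c 1 + p 1 v * c 2 + p 2 v * c 3 = 0 := by
      intro v
      have h := r1 (x • v)
      rwa [h40, h01, h12, h23] at h
    have r3 : ∀ v, p 3 v * c 0 + p 4 v * c 1 + p 0 v * c 2 + p 1 v * c 3 = 0 := by
      intro v
      have h := r2 (x • v)
      rwa [h34, h40, h01, h12] at h
    have r4 : ∀ v, p 2 v * c 0 + p 3 v * c 1 + p 4 v * c 2 + p 0 v * c 3 = 0 := by
      intro v
      have h := r3 (x • v)
      rwa [h23, h34, h40, h01] at h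
    refine LinearMap.ext fun v => ?_
    refine eq_of_add (V := ZMod 2) ?_
    linear_combination d0 * r0 v + d1 * r4 v + d2 * r3 v + d3 * r2 v + d4 * r1 v - p 0 v * e0 - p 1 v * e1 -
      p 2 v * e2 - p 3 v * e3 - p 4 v * e4
  have h2 := Submodule.card_eq_card_quotient_mul_card (LinearMap.ker Φ)
  have h3 : Nat.card (V ⧸ LinearMap.ker Φ) = 16 := by
    rw [Nat.card_congr (LinearMap.quotKerEquivOfSurjective Φ hsurj).toEquiv, Nat.card_fun, Nat.card_zmod]
    norm_num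
  have h4 : Nat.card E ≤ Nat.card (LinearMap.ker Φ) := by
    refine Nat.card_le_card_of_injective (fun e : E => (⟨e, ?_⟩ : LinearMap.ker Φ)) ?_
    · rw [LinearMap.mem_ker]
      funext i
      exact hE _ e.2 _
    · intro a b hab
      exact Subtype.ext (congrArg (fun w : LinearMap.ker Φ => (w : V)) hab)
  rw [h2, h3, mul_comm]
  omega

/-- `|V| ≤ 2 |B| |C_V(B)|` in the form used below -/
theorem NB.c4_card_le [Finite Y] [Finite V] {φ : Du V} {B : Subgroup Y} (h : NB φ B) {v : V} (hv : φ v = 1)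
    (D : Submodule (ZMod 2) V) (hD : ∀ d, Fx B d → d ∈ D) : Nat.card V ≤ 2 * (Nat.card B * Nat.card D) := by
  have hs : Function.Surjective fun q : ZMod 2 × B × D => cm (q.2.1 : Y) v + q.2.2 + q.1 • v := by
    intro u
    rcases zmod_cases (φ u) with h1 | h1
    · obtain ⟨b, hb, hd⟩ := h.surj v u hv h1
      refine ⟨(0, ⟨b, hb⟩, ⟨_, hD _ hd⟩), ?_⟩
      change cm b v + (cm b v + u) + (0 : ZMod 2) • v = u
      rw [← add_assoc, add_self, zero_add, zero_smul, add_zero]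
    · obtain ⟨b, hb, hd⟩ := h.surj v (u + v) hv (by rw [map_add, h1, hv, one_add_one])
      refine ⟨(1, ⟨b, hb⟩, ⟨_, hD _ hd⟩), ?_⟩
      change cm b v + (cm b v + (u + v)) + (1 : ZMod 2) • v = u
      rw [← add_assoc (cm b v), add_self, zero_add, one_smul, add_add_self]
  have h1 := Nat.card_le_card_of_surjective _ hs
  rwa [Nat.card_prod, Nat.card_prod, Nat.card_zmod] at h1

/-- the map `(b, d) ↦ [v, b] + d` is injective -/
theorem NB.c4_inj {φ : Du V} {B : Subgroup Y} (h : NB φ B) {v : V} (hv : φ v = 1) {b b' : Y} (hb : b ∈ B)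
    (hb' : b' ∈ B) {d d' : V} (hd : Fx B d) (hd' : Fx B d') (he : cm b v + d = cm b' v + d') :
    b = b' ∧ d = d' := by
  have h1 : cm b v + cm b' v = d + d' := by
    have h2 : cm b v + d + (cm b' v + d) = cm b' v + d' + (cm b' v + d) := by rw [he]
    have h3 : cm b v + d + (cm b' v + d) = cm b v + cm b' v + (d + d) := by abel
    have h4 : cm b' v + d' + (cm b' v + d) = d + d' + (cm b' v + cm b' v) := by abel
    rw [h3, h4, add_self, add_self, add_zero, add_zero] at h2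
    exact h2
  have h2 : Fx B (cm (b * b') v) := by
    rw [cm_mul, h1]
    exact (hd.add hd').add (h.ed _ (h.cm_mem hb' v) b hb)
  have h3 := h.inj v hv _ (mul_mem hb hb') h2
  have h4 : b = b' := by
    rw [mul_eq_one_iff_eq_inv] at h3
    rw [h3, inv_eq_of_mul_eq_one_left (h.sq b' hb')]
  subst h4
  exact ⟨rfl, add_left_cancel he⟩

namespace CFour

/-- the group acting trivially on `V/E` and on `E` -/
def HE (Y : Type*) {V : Type*} [Group Y] [AddCommGroup V] [Module (ZMod 2) V] [DistribMulAction Y V]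
    (E : Submodule (ZMod 2) V) : Subgroup Y where
  carrier := {g | (∀ u : V, cm g u ∈ E) ∧ ∀ e ∈ E, g • e = e}
  one_mem' := ⟨fun u => by rw [cm_one]; exact E.zero_mem, fun e _ => one_smul _ e⟩
  mul_mem' := by
    rintro a b ⟨ha, ha'⟩ ⟨hb, hb'⟩
    refine ⟨fun u => ?_, fun e he => by rw [mul_smul, hb' e he, ha' e he]⟩
    rw [cm_mul]
    exact E.add_mem (E.add_mem (ha u) (hb u)) (ha _)
  inv_mem' := by
    rintro a ⟨ha, ha'⟩
    have h1 : ∀ e ∈ E, a⁻¹ • e = e := fun e he => by rw [inv_smul_eq_iff, ha' e he]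
    refine ⟨fun u => ?_, h1⟩
    have h2 : cm a⁻¹ u = cm a (a⁻¹ • u) := by
      rw [cm, cm, smul_inv_smul, add_comm]
    rw [h2]
    exact ha _

theorem mem_HE {E : Submodule (ZMod 2) V} {g : Y} :
    g ∈ HE Y E ↔ (∀ u : V, cm g u ∈ E) ∧ ∀ e ∈ E, g • e = e := Iff.rfl

theorem HE_cm_mul {E : Submodule (ZMod 2) V} {a b : Y} (ha : a ∈ HE Y E) (hb : b ∈ HE Y E) (u : V) :
    cm (a * b) u = cm a u + cm b u := by
  rw [cm_mul, cm_eq_zero.2 (ha.2 _ (hb.1 u)), add_zero]

theorem HE_comm (hf : Faith Y V) {E : Submodule (ZMod 2) V} {a b : Y} (ha : a ∈ HE Y E) (hb : b ∈ HE Y E) :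
    a * b = b * a := by
  refine hf.ext fun u => ?_
  rw [smul_eq_add_cm, smul_eq_add_cm (b * a), HE_cm_mul ha hb, HE_cm_mul hb ha, add_comm (cm a u)]

theorem HE_sq (hf : Faith Y V) {E : Submodule (ZMod 2) V} {a : Y} (ha : a ∈ HE Y E) : a * a = 1 := by
  refine hf _ fun u => ?_
  rw [smul_eq_add_cm, HE_cm_mul ha ha, add_self, add_zero]

/-- an element of 5-power order normalising an abelian 2-group of order `≤ 8` centralises it -/
theorem comm_of_five [Finite Y] {H : Subgroup Y} (h2 : IsPGroup 2 H) (h8 : Nat.card H < 16) {x : Y} {n : ℕ}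
    (hx : x ^ 5 ^ n = 1) (hn : ∀ g, g ∈ H ↔ x * g * x⁻¹ ∈ H) {a : Y} (ha : a ∈ H) : x * a = a * x := by
  have : Fact (Nat.Prime 2) := ⟨Nat.prime_two⟩
  have : Fact (Nat.Prime 5) := ⟨by norm_num⟩
  have hle : zpowers x ≤ normalizer (H : Set Y) := by
    rw [zpowers_le, mem_normalizer_iff]
    exact hn
  have hmem : ∀ k : zpowers x, ∀ g : H, (k : Y) * g * (k : Y)⁻¹ ∈ H := fun k g =>
    (mem_normalizer_iff.1 (hle k.2) g).1 g.2
  let act : MulAction (zpowers x) H :=
    { smul := fun k g => ⟨(k : Y) * g * (k : Y)⁻¹, hmem k g⟩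
      one_smul := fun g => Subtype.ext (by
        change (1 : Y) * g * (1 : Y)⁻¹ = g
        rw [one_mul, inv_one, mul_one])
      mul_smul := fun k l g => Subtype.ext (by
        change (k : Y) * l * g * ((k : Y) * l)⁻¹ = k * (l * g * (l : Y)⁻¹) * (k : Y)⁻¹
        group) }
  have h5 : IsPGroup 5 (zpowers x) := by
    rintro ⟨_, k, rfl⟩
    refine ⟨n, Subtype.ext ?_⟩
    change (x ^ k) ^ 5 ^ n = 1
    rw [← zpow_natCast, ← zpow_mul, mul_comm, zpow_mul, zpow_natCast, hx, one_zpow]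
  have h3 := h5.card_modEq_card_fixedPoints H
  -- the fixed points form a subgroup
  let C : Subgroup H := (centralizer {x}).subgroupOf H
  have h4 : Nat.card (MulAction.fixedPoints (zpowers x) H) = Nat.card C := by
    refine Nat.card_congr (Equiv.subtypeEquivRight fun g => ?_)
    rw [MulAction.mem_fixedPoints, mem_subgroupOf, mem_centralizer_singleton_iff]
    constructor
    · intro h
      have h6 := congrArg Subtype.val (h ⟨x, mem_zpowers x⟩)
      change x * g * x⁻¹ = g at h6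
      exact mul_inv_eq_iff_eq_mul.1 h6 |>.symm
    · rintro h ⟨_, k, rfl⟩
      refine Subtype.ext ?_
      change x ^ k * g * (x ^ k)⁻¹ = g
      have h6 : Commute (g : Y) (x ^ k) := Commute.zpow_right (show Commute (g : Y) x from h) k
      rw [← h6.eq, mul_inv_cancel_right]
  rw [h4] at h3
  obtain ⟨k, hk⟩ := h2.exists_card_eq
  obtain ⟨l, hl⟩ := (h2.to_subgroup C).exists_card_eq
  have h7 : C = ⊤ := by
    rw [← Subgroup.card_eq_iff_eq_top]
    have hlk : Nat.card C ≤ Nat.card H := Subgroup.card_le_card_group C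
    rw [hk] at h8 h3 hlk ⊢
    rw [hl] at h3 hlk ⊢
    have hk4 : k < 4 := by
      by_contra hc
      push Not at hc
      have := Nat.pow_le_pow_right (n := 2) (by norm_num) hc
      omega
    have hl4 : l < 4 := by
      by_contra hc
      push Not at hc
      have := Nat.pow_le_pow_right (n := 2) (by norm_num) hc
      omega
    interval_cases k <;> interval_cases l <;> revert h3 <;> decide
  have h8 : (⟨a, ha⟩ : H) ∈ C := h7 ▸ mem_top _
  rw [mem_subgroupOf, mem_centralizer_singleton_iff] at h8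
  exact h8.symm

end CFour

open CFour

/-- **(F), `c = 4`, is dead** (#16504), module form -/
theorem NB.cfour [Finite Y] [Finite V] (hf : Faith Y V)
    (noff : ∀ A : Subgroup Y, A ≠ ⊥ → (∀ a ∈ A, ∀ b ∈ A, a * b = b * a) → (∀ a ∈ A, a * a = 1) →
      Nat.card A * Nat.card {v : V // Fx A v} < Nat.card V)
    {φ : Du V} {B : Subgroup Y} (h : NB φ B) {x : Y} {n : ℕ} (hxn : x ^ 5 ^ n = 1) {p : Fin 5 → Du V}
    (hx : ∀ (i : Fin 5) (v : V), p (i + 1) (x • v) = p i v) (h0 : p 0 = φ) (h1 : p 1 ≠ p 0) {B₀ : Subgroup Y}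
    (hB₀ : B₀ ≤ B) (hcard : Nat.card B ≤ 4 * Nat.card B₀) (hfix : ∀ b ∈ B₀, ∀ i, ∀ v : V, p i (b • v) = p i v)
    (hD : ∀ d : V, Fx B d → ∀ i, i ≠ 0 → p i d = p 1 d) {a : Y} (ha : a ∈ B₀) (ha1 : a ≠ 1) {v : V} (hv : φ v = 1)
    (hperp : ∀ b ∈ B₀, a • cm b v = cm b v) : False := by
  let E : Submodule (ZMod 2) V := ⨅ i, LinearMap.ker (p i)
  have hE : ∀ e, e ∈ E ↔ ∀ i, p i e = 0 := fun e => by
    change e ∈ (⨅ i, LinearMap.ker (p i) : Submodule (ZMod 2) V) ↔ _
    rw [Submodule.mem_iInf]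
    rfl
  have hc1 := CFour.card_five hx h1 E fun e he => (hE e).1 he
  have hEx : ∀ e, e ∈ E ↔ x • e ∈ E := by
    intro e
    rw [hE, hE]
    constructor
    · intro h2 i
      have h3 := hx (i - 1) e
      rw [sub_add_cancel] at h3
      rw [h3, h2]
    · intro h2 i
      rw [← hx i e, h2]
  have h0D : ∀ d : V, Fx B d → p 0 d = 0 := fun d hd => by
    rw [h0]
    exact h.fix (hB₀ ha) ha1 (hd a (hB₀ ha))
  -- `D = C_V(B)` and `D ∩ E`
  let D : Submodule (ZMod 2) V := fixS V B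
  have hDm : ∀ d, d ∈ D ↔ Fx B d := fun d => Iff.rfl
  have hDE : Nat.card D ≤ 2 * Nat.card (D ⊓ E : Submodule (ZMod 2) V) := by
    by_cases hd1 : ∃ d1 ∈ D, p 1 d1 = 1
    · obtain ⟨d1, hd1, hp1⟩ := hd1
      have h2 : ∀ d ∈ D, d + p 1 d • d1 ∈ (D ⊓ E : Submodule (ZMod 2) V) := by
        intro d hd
        have h3 : d + p 1 d • d1 ∈ D := D.add_mem hd (D.smul_mem _ hd1)
        refine ⟨h3, (hE _).2 fun i => ?_⟩
        by_cases hi : i = 0
        · rw [hi]
          exact h0D _ h3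
        · rw [hD _ h3 i hi, map_add, map_smul, hp1, smul_eq_mul, mul_one, add_self]
      have h3 : Function.Injective fun d : D => ((p 1 (d : V), ⟨_, h2 d d.2⟩) :
          ZMod 2 × (D ⊓ E : Submodule (ZMod 2) V)) := by
        intro d d' hdd
        obtain ⟨h4, h5⟩ := Prod.mk.inj hdd
        have h6 : (d : V) + p 1 (d : V) • d1 = (d' : V) + p 1 (d' : V) • d1 := congrArg Subtype.val h5
        rw [h4] at h6
        exact Subtype.ext (add_right_cancel h6)
      have h4 := Nat.card_le_card_of_injective _ h3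
      rwa [Nat.card_prod, Nat.card_zmod] at h4
    · push Not at hd1
      have h2 : D ≤ D ⊓ E := by
        refine le_inf le_rfl fun d hd => (hE _).2 fun i => ?_
        by_cases hi : i = 0
        · rw [hi]
          exact h0D _ hd
        · rw [hD _ hd i hi]
          exact eq_zero_of_ne (hd1 d hd)
      have h3 : D = D ⊓ E := le_antisymm h2 inf_le_left
      rw [← h3]
      omega
  have hcV := h.c4_card_le hv D fun d hd => hd
  -- the map `(b, d) ↦ [v, b] + d`
  have hcmE : ∀ b ∈ B₀, cm b v ∈ E := by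
    intro b hb
    rw [hE]
    intro i
    rw [cm, map_add, hfix b hb, add_self]
  let F : B₀ × (D ⊓ E : Submodule (ZMod 2) V) → E := fun q =>
    ⟨cm (q.1 : Y) v + q.2, E.add_mem (hcmE _ q.1.2) q.2.2.2⟩
  have hF : Function.Injective F := by
    rintro ⟨⟨b, hb⟩, ⟨d, hd⟩⟩ ⟨⟨b', hb'⟩, ⟨d', hd'⟩⟩ he
    have h2 : cm b v + d = cm b' v + d' := congrArg Subtype.val he
    obtain ⟨rfl, rfl⟩ := h.c4_inj hv (hB₀ hb) (hB₀ hb') hd.1 hd'.1 h2
    rfl
  have hc2 : Nat.card B₀ * Nat.card (D ⊓ E : Submodule (ZMod 2) V) ≤ Nat.card E := by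
    rw [← Nat.card_prod]
    exact Nat.card_le_card_of_injective F hF
  have hc3 : Nat.card V ≤ 16 * (Nat.card B₀ * Nat.card (D ⊓ E : Submodule (ZMod 2) V)) := by
    calc Nat.card V ≤ 2 * (Nat.card B * Nat.card D) := hcV
      _ ≤ 2 * ((4 * Nat.card B₀) * (2 * Nat.card (D ⊓ E : Submodule (ZMod 2) V))) :=
        Nat.mul_le_mul_left _ (Nat.mul_le_mul hcard hDE)
      _ = _ := by ring
  have hFb : Function.Bijective F := by
    rw [Nat.bijective_iff_injective_and_card]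
    refine ⟨hF, ?_⟩
    rw [Nat.card_prod]
    omega
  have haE : ∀ e ∈ E, a • e = e := by
    intro e he
    obtain ⟨⟨⟨b, hb⟩, ⟨d, hd⟩⟩, h2⟩ := hFb.2 ⟨e, he⟩
    have h3 : cm b v + d = e := congrArg Subtype.val h2
    rw [← h3, smul_add, hperp b hb, hd.1 a (hB₀ ha)]
  -- `HE`
  have haH : a ∈ HE Y E := ⟨fun u => (hE _).2 fun i => by rw [cm, map_add, hfix a ha, add_self], haE⟩
  have hHne : HE Y E ≠ ⊥ := fun h2 => ha1 ((Subgroup.eq_bot_iff_forall _).1 h2 a haH)
  have h2 := noff (HE Y E) hHne (fun a ha b hb => HE_comm hf ha hb) fun a ha => HE_sq hf ha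
  have h3 : Nat.card E ≤ Nat.card {v : V // Fx (HE Y E) v} :=
    Nat.card_le_card_of_injective (fun e : E => (⟨e, fun g hg => hg.2 _ e.2⟩ : {v : V // Fx (HE Y E) v}))
      fun a b hab => Subtype.ext
        (congrArg (fun w : {v : V // Fx (HE Y E) v} => (w : V)) hab)
  have hEpos : 0 < Nat.card E := Nat.card_pos
  have h4 : Nat.card (HE Y E) < 16 := by
    by_contra hc
    push Not at hc
    have h5 : 16 * Nat.card E ≤ Nat.card (HE Y E) * Nat.card {v : V // Fx (HE Y E) v} := Nat.mul_le_mul hc h3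
    omega
  have h2g : IsPGroup 2 (HE Y E) := by
    rintro ⟨g, hg⟩
    refine ⟨1, Subtype.ext ?_⟩
    change g ^ 2 ^ 1 = 1
    rw [pow_one, pow_two, HE_sq hf hg]
  have hxa : x * a = a * x := by
    refine comm_of_five h2g h4 hxn (fun g => ?_) haH
    rw [mem_HE, mem_HE]
    have hcj : ∀ u : V, cm (x * g * x⁻¹) (x • u) = x • cm g u := fun u => (smul_cm_conj x g u).symm
    constructor
    · rintro ⟨h5, h6⟩
      refine ⟨fun u => ?_, fun e he => ?_⟩
      · have h7 := hcj (x⁻¹ • u)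
        rw [smul_inv_smul] at h7
        rw [h7, ← hEx]
        exact h5 _
      · have h7 : x⁻¹ • e ∈ E := by rwa [hEx, smul_inv_smul]
        rw [mul_smul, mul_smul, h6 _ h7, smul_inv_smul]
    · rintro ⟨h5, h6⟩
      refine ⟨fun u => ?_, fun e he => ?_⟩
      · rw [hEx, ← hcj]
        exact h5 _
      · have h7 := h6 _ ((hEx e).1 he)
        rw [mul_smul, mul_smul, inv_smul_smul] at h7
        exact smul_left_cancel x h7
  -- `C_V(a) ≤ E`
  have haxi : a * x⁻¹ = x⁻¹ * a := by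
    rw [eq_inv_mul_iff_mul_eq, ← mul_assoc, hxa, mul_inv_cancel_right]
  have hfa : ∀ (i : Fin 5) (u : V), a • u = u → p i u = 0 := by
    have hstep : ∀ i : Fin 5, (∀ u : V, a • u = u → p i u = 0) → ∀ u : V, a • u = u → p (i + 1) u = 0 := by
      intro i hi u hu
      have h5 := hx i (x⁻¹ • u)
      rw [smul_inv_smul] at h5
      rw [h5]
      apply hi
      rw [← mul_smul, haxi, mul_smul, hu]
    have s0 : ∀ u : V, a • u = u → p 0 u = 0 := fun u hu => by
      rw [h0]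
      exact h.fix (hB₀ ha) ha1 hu
    have s1 := hstep 0 s0
    have s2 := hstep _ s1
    have s3 := hstep _ s2
    have s4 := hstep _ s3
    intro i
    fin_cases i
    · exact s0
    · exact s1
    · exact s2
    · exact s3
    · exact s4
  let F' : B₀ × D → E := fun q =>
    ⟨cm (q.1 : Y) v + q.2, (hE _).2 fun i => hfa i _ (by
      rw [smul_add, hperp _ q.1.2, q.2.2 a (hB₀ ha)])⟩
  have hF' : Function.Injective F' := by
    rintro ⟨⟨b, hb⟩, ⟨d, hd⟩⟩ ⟨⟨b', hb'⟩, ⟨d', hd'⟩⟩ he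
    have h2 : cm b v + d = cm b' v + d' := congrArg Subtype.val he
    obtain ⟨rfl, rfl⟩ := h.c4_inj hv (hB₀ hb) (hB₀ hb') hd hd' h2
    rfl
  have hc4 : Nat.card B₀ * Nat.card D ≤ Nat.card E := by
    rw [← Nat.card_prod]
    exact Nat.card_le_card_of_injective F' hF'
  have hc5 : Nat.card V ≤ 8 * Nat.card E := by
    calc Nat.card V ≤ 2 * (Nat.card B * Nat.card D) := hcV
      _ ≤ 2 * ((4 * Nat.card B₀) * Nat.card D) := Nat.mul_le_mul_left _ (Nat.mul_le_mul_right _ hcard)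
      _ = 8 * (Nat.card B₀ * Nat.card D) := by ring
      _ ≤ 8 * Nat.card E := Nat.mul_le_mul_left _ hc4
  omega

theorem CFour.ncard_orbit_dua (φ : Du V) (L : Subgroup Y) :
    ((fun l : Y => dua l φ) '' (L : Set Y)).ncard = (stabF Y φ).relIndex L := by
  let act : MulAction L (Du V) :=
    { smul := fun l ψ => dua (l : Y) ψ
      one_smul := fun ψ => dua_one ψ
      mul_smul := fun a b ψ => dua_mul (a : Y) b ψ }
  have h1 := MulAction.index_stabilizer L φ
  have h2 : MulAction.stabilizer L φ = (stabF Y φ).subgroupOf L := by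
    ext l
    rfl
  have h3 : MulAction.orbit L φ = (fun l : Y => dua l φ) '' (L : Set Y) := by
    ext ψ
    constructor
    · rintro ⟨l, rfl⟩
      exact ⟨l, l.2, rfl⟩
    · rintro ⟨l, hl, rfl⟩
      exact ⟨⟨l, hl⟩, rfl⟩
  rw [h2, h3] at h1
  exact h1.symm

/-- an element of 5-power order moving `φ` inside an orbit of length five -/
theorem CFour.exists_five [Finite Y] {φ : Du V} {L : Subgroup Y} (h5 : (stabF Y φ).relIndex L = 5) :
    ∃ x ∈ L, ∃ n : ℕ, x ^ 5 ^ n = 1 ∧ dua (x ^ 5) φ = φ ∧ ∀ i : ℕ, 0 < i → i < 5 → dua (x ^ i) φ ≠ φ := by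
  have : Fact (Nat.Prime 5) := ⟨by norm_num⟩
  obtain ⟨P⟩ : Nonempty (Sylow 5 L) := inferInstance
  have h1 : ¬ (P : Subgroup L) ≤ (stabF Y φ).subgroupOf L := by
    intro hle
    have h2 := Subgroup.index_dvd_of_le hle
    change (stabF Y φ).relIndex L ∣ _ at h2
    rw [h5] at h2
    exact P.not_dvd_index h2
  obtain ⟨x, hxP, hxN⟩ := SetLike.not_le_iff_exists.1 h1
  obtain ⟨n, hn⟩ := P.isPGroup' ⟨x, hxP⟩
  have hn' : (x : Y) ^ 5 ^ n = 1 := congrArg (fun w : P => ((w : L) : Y)) hn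
  let act : MulAction Y (Du V) :=
    { smul := fun l ψ => dua l ψ
      one_smul := fun ψ => dua_one ψ
      mul_smul := fun a b ψ => dua_mul a b ψ }
  have hper : ∀ k : ℕ, dua ((x : Y) ^ k) φ = φ ↔ Function.minimalPeriod (fun ψ : Du V => (x : Y) • ψ) φ ∣ k :=
    fun k => MulAction.pow_smul_eq_iff_minimalPeriod_dvd (a := (x : Y)) (b := φ)
  set m := Function.minimalPeriod (fun ψ : Du V => (x : Y) • ψ) φ with hm
  have hmn : m ∣ 5 ^ n := by
    rw [← hper, hn', dua_one]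
  have hm1 : m ≠ 1 := by
    intro h2
    apply hxN
    have h3 : dua ((x : Y) ^ 1) φ = φ := by
      rw [hper, h2]
    rwa [pow_one] at h3
  obtain ⟨j, -, hj⟩ := (Nat.dvd_prime_pow (by norm_num : Nat.Prime 5)).1 hmn
  -- the orbit has length at most five
  have hm5 : m ≤ 5 := by
    rw [← h5, ← ncard_orbit_dua]
    have hfin : ((fun l : Y => dua l φ) '' (L : Set Y)).Finite := Set.toFinite _
    have hinj : Set.InjOn (fun i : ℕ => dua ((x : Y) ^ i) φ) (Finset.range m : Set ℕ) := by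
      intro i hi k hk hik
      rw [Finset.coe_range, Set.mem_Iio] at hi hk
      wlog hle : i ≤ k generalizing i k
      · exact (this hk hi hik.symm (le_of_not_ge hle)).symm
      have h6 : dua ((x : Y) ^ (k - i)) φ = φ := by
        have h7 : dua ((x : Y) ^ i) (dua ((x : Y) ^ (k - i)) φ) = dua ((x : Y) ^ i) φ := by
          rw [← dua_mul, ← pow_add, Nat.add_sub_cancel' hle]
          exact hik.symm
        have h8 := congrArg (dua ((x : Y) ^ i)⁻¹) h7
        rwa [dua_inv, dua_inv] at h8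
      rw [hper] at h6
      have h7 := Nat.eq_zero_of_dvd_of_lt h6 (by omega)
      omega
    have h6 : ((fun i : ℕ => dua ((x : Y) ^ i) φ) '' (Finset.range m : Set ℕ)).ncard = m := by
      rw [Set.InjOn.ncard_image hinj, Set.ncard_coe_finset, Finset.card_range]
    rw [← h6]
    refine Set.ncard_le_ncard ?_ hfin
    rintro _ ⟨i, -, rfl⟩
    exact ⟨(x : Y) ^ i, pow_mem x.2 i, rfl⟩
  have hm6 : m = 5 := by
    rcases j with _ | _ | j
    · exact absurd hj hm1
    · exact hj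
    · rw [hj, pow_succ, pow_succ] at hm5
      have : 0 < 5 ^ j := by positivity
      omega
  refine ⟨x, x.2, n, hn', by rw [hper, hm6], fun i hi hi5 hfix => ?_⟩
  rw [hper, hm6] at hfix
  have := Nat.le_of_dvd hi hfix
  omega

/-- **(F), `c = 4`, is dead** (#16504), for a subgroup `L` -/
theorem NB.cfour_of [Finite Y] [Finite V] (hf : Faith Y V)
    (noff : ∀ A : Subgroup Y, A ≠ ⊥ → (∀ a ∈ A, ∀ b ∈ A, a * b = b * a) → (∀ a ∈ A, a * a = 1) →
      Nat.card A * Nat.card {v : V // Fx A v} < Nat.card V)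
    {φ : Du V} {B : Subgroup Y} (h : NB φ B) {L : Subgroup Y} (hBL : B ≤ L)
    (h5 : (stabF Y φ).relIndex L = 5) {ψ : Du V} (hψ : ∃ g ∈ L, dua g φ = ψ) (hne : ψ ≠ φ)
    (h4 : (stabF Y ψ).relIndex B = 4) {a : Y} (ha : a ∈ B) (haψ : a ∈ stabF Y ψ) (ha1 : a ≠ 1)
    {v : V} (hv : φ v = 1) (hperp : ∀ b ∈ B, b ∈ stabF Y ψ → a • cm b v = cm b v) : False := by
  obtain ⟨g, hg, hgψ⟩ := hψ
  have hBφ : ∀ b ∈ B, dua b φ = φ := fun b hb => by
    refine LinearMap.ext fun u => ?_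
    rw [dua_apply, h.inv _ (inv_mem hb)]
  -- `φ^L = {φ} ∪ ψ^B`
  have hO : ∀ l ∈ L, dua l φ = φ ∨ ∃ b ∈ B, dua l φ = dua b ψ := by
    let O : Set (Du V) := (fun l : Y => dua l φ) '' (L : Set Y)
    let P : Set (Du V) := (fun b : Y => dua b ψ) '' (B : Set Y)
    have hOc : O.ncard = 5 := by rw [ncard_orbit_dua, h5]
    have hPc : P.ncard = 4 := by rw [ncard_orbit_dua, h4]
    have hφP : φ ∉ P := by
      rintro ⟨b, hb, hbψ⟩
      apply hne
      have h6 := congrArg (dua b⁻¹) hbψ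
      change dua b⁻¹ (dua b ψ) = dua b⁻¹ φ at h6
      rwa [dua_inv, hBφ _ (inv_mem hb)] at h6
    have hPfin : P.Finite := Set.toFinite _
    have hOfin : O.Finite := Set.toFinite _
    have hsub : insert φ P ⊆ O := by
      rw [Set.insert_subset_iff]
      refine ⟨⟨1, one_mem L, dua_one φ⟩, ?_⟩
      rintro _ ⟨b, hb, rfl⟩
      refine ⟨b * g, mul_mem (hBL hb) hg, ?_⟩
      change dua (b * g) φ = dua b ψ
      rw [dua_mul, hgψ]
    have heq : insert φ P = O := by
      refine Set.eq_of_subset_of_ncard_le hsub ?_ hOfin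
      rw [Set.ncard_insert_of_notMem hφP hPfin, hPc, hOc]
    intro l hl
    have h6 : dua l φ ∈ insert φ P := heq ▸ ⟨l, hl, rfl⟩
    rcases h6 with h6 | ⟨b, hb, h6⟩
    · exact Or.inl h6
    · exact Or.inr ⟨b, hb, h6.symm⟩
  obtain ⟨x, hxL, n, hxn, hx5, hxi⟩ := exists_five h5
  let p : Fin 5 → Du V := fun i => dua (x ^ (i : ℕ)) φ
  have hp : ∀ i, i ≠ 0 → ∃ b ∈ B, p i = dua b ψ := by
    intro i hi
    have hi0 : 0 < (i : ℕ) := Nat.pos_of_ne_zero fun h6 => hi (Fin.ext h6)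
    exact (hO _ (pow_mem hxL _)).resolve_left (hxi _ hi0 i.2)
  have hstep : ∀ k : ℕ, ∀ u : V, dua (x ^ (k + 1)) φ (x • u) = dua (x ^ k) φ u := by
    intro k u
    rw [dua_apply, dua_apply, pow_succ', mul_inv_rev, mul_smul, inv_smul_smul]
  refine h.cfour hf noff hxn (p := p) ?_ ?_ ?_ (B₀ := B ⊓ stabF Y ψ) inf_le_left ?_ ?_ ?_
    ⟨ha, haψ⟩ ha1 hv fun b hb => hperp b hb.1 hb.2
  · intro i u
    by_cases hi : (i : ℕ) < 4
    · have h6 : ((i + 1 : Fin 5) : ℕ) = i + 1 := by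
        rw [Fin.val_add]
        change ((i : ℕ) + 1) % 5 = i + 1
        omega
      change dua (x ^ ((i + 1 : Fin 5) : ℕ)) φ (x • u) = dua (x ^ (i : ℕ)) φ u
      rw [h6, hstep]
    · have h6 : (i : ℕ) = 4 := by omega
      have h7 : i = 4 := Fin.ext h6
      rw [h7]
      change dua (x ^ 0) φ (x • u) = dua (x ^ 4) φ u
      rw [← hstep 4 u, pow_zero, dua_one, hx5]
  · change dua (x ^ 0) φ = φ
    rw [pow_zero, dua_one]
  · change dua (x ^ 1) φ ≠ dua (x ^ 0) φ
    rw [pow_zero, dua_one]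
    exact hxi 1 (by norm_num) (by norm_num)
  · have h6 := Subgroup.card_mul_index ((stabF Y ψ).subgroupOf B)
    change _ * (stabF Y ψ).relIndex B = _ at h6
    rw [h4] at h6
    have h7 : Nat.card ((stabF Y ψ).subgroupOf B) = Nat.card (B ⊓ stabF Y ψ : Subgroup Y) := by
      rw [inf_comm, ← Subgroup.inf_subgroupOf_right]
      exact Nat.card_congr (Subgroup.subgroupOfEquivOfLe inf_le_right).toEquiv
    rw [← h6, h7, mul_comm]
  · rintro b ⟨hb, hbψ⟩ i u
    by_cases hi : i = 0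
    · rw [hi]
      change dua (x ^ 0) φ (b • u) = dua (x ^ 0) φ u
      rw [pow_zero, dua_one, h.inv b hb]
    · obtain ⟨c, hc, h6⟩ := hp i hi
      have h7 : c⁻¹ * b = b * c⁻¹ := h.comm _ (inv_mem hc) _ hb
      rw [h6, dua_apply, dua_apply, ← mul_smul, h7, mul_smul, stabF_apply hbψ]
  · intro d hd i hi
    obtain ⟨c, hc, h6⟩ := hp i hi
    obtain ⟨c', hc', h6'⟩ := hp 1 (by decide)
    rw [h6, h6', dua_apply, dua_apply, hd _ (inv_mem hc), hd _ (inv_mem hc')]

/-- **(F), `c = 4`, is dead** (#16504), on `Dat`: `L ≥ B`, `|f_z^L| = 5`, `ψ ∈ f_z^L`, `|B : C_B(ψ)| = 4`,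
`1 ≠ a ∈ C_B(ψ)`, `β(a, C_B(ψ)) = 0`. -/
theorem Dat.cfour [Finite Y] [Finite V] {T : Sylow 2 Y} {M : Subgroup Y} {z : V} {f : V → Du V}
    {Q : V → Subgroup Y} {BB : V → Set (Subgroup Y)} (h : Dat T M z f Q BB) {B : Subgroup Y} (hB : B ∈ BB z)
    {L : Subgroup Y} (hBL : B ≤ L) (h5 : (stabF Y (f z)).relIndex L = 5) {ψ : Du V}
    (hψ : ∃ g ∈ L, dua g (f z) = ψ) (hne : ψ ≠ f z) (h4 : (stabF Y ψ).relIndex B = 4) {a : Y} (ha : a ∈ B)
    (haψ : a ∈ stabF Y ψ) (ha1 : a ≠ 1) {v : V} (hv : f z v = 1)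
    (hperp : ∀ b ∈ B, b ∈ stabF Y ψ → cm a (cm b v) = 0) : False :=
  (h.bb B hB).cfour_of h.faith h.noff hBL h5 hψ hne h4 ha haψ ha1 hv fun b hb hbψ =>
    cm_eq_zero.1 (hperp b hb hbψ)

end Cfsg.Agent.Omega.NearFF
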