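import Cfsg.Agent.Omega.NearFF.MPair

/-!
# (BT), `|V/E| = 2`: minimal pairs, Case 1 (project OMEGA, leaf N1)

Text: helper132, bb OMEGA #17318.  `MP.false_of_big` : there is no minimal pair with `|[E, b]| ≥ 4` for all `b`.
-/

set_option autoImplicit false
set_option linter.unusedSectionVars false

namespace Cfsg.Agent.Omega.NearFF

open Subgroup Cfsg.Agent.Omega.Transv

variable {Y : Type*} [Group Y] {V : Type*} [AddCommGroup V] [Module (ZMod 2) V] [DistribMulAction Y V]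

/-- the fixed space of `L` -/
def VL (V : Type*) [AddCommGroup V] [Module (ZMod 2) V] [DistribMulAction Y V] (L : Subgroup Y) :
    Submodule (ZMod 2) V where
  carrier := {v | Fx L v}
  zero_mem' := Fx.zero L
  add_mem' := fun h1 h2 => Fx.add h1 h2
  smul_mem' := by
    intro c v hv
    rcases zmod_cases c with h1 | h1
    · rw [h1, zero_smul]
      exact Fx.zero L
    · rw [h1, one_smul]
      exact hv

theorem mem_VL {L : Subgroup Y} {v : V} : v ∈ VL V L ↔ Fx L v := Iff.rfl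

/-- `⟨w^L⟩ + C_V(L)` -/
def PW (L : Subgroup Y) (w : V) : Submodule (ZMod 2) V :=
  Submodule.span (ZMod 2) (Set.range fun l : L => (l : Y) • w) ⊔ VL V L

theorem PW_induct {L : Subgroup Y} {w : V} {p : V → Prop} (h1 : ∀ l ∈ L, p (l • w)) (h2 : ∀ v, Fx L v → p v)
    (h3 : ∀ u v, p u → p v → p (u + v)) {u : V} (hu : u ∈ PW L w) : p u := by
  obtain ⟨a, ha, b, hb, rfl⟩ := Submodule.mem_sup.1 hu
  refine h3 _ _ ?_ (h2 b hb)
  clear hu
  induction ha using Submodule.span_induction with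
  | mem x hx =>
    obtain ⟨l, rfl⟩ := hx
    exact h1 l l.2
  | zero => exact h2 0 (Fx.zero L)
  | add x y _ _ hx hy => exact h3 _ _ hx hy
  | smul c x _ hx =>
    rcases zmod_cases c with h4 | h4
    · rw [h4, zero_smul]
      exact h2 0 (Fx.zero L)
    · rw [h4, one_smul]
      exact hx

theorem orb_mem_PW {L : Subgroup Y} {w : V} {l : Y} (hl : l ∈ L) : l • w ∈ PW L w :=
  Submodule.mem_sup_left (Submodule.subset_span ⟨⟨l, hl⟩, rfl⟩)

theorem VL_le_PW {L : Subgroup Y} {w v : V} (hv : Fx L v) : v ∈ PW L w :=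
  Submodule.mem_sup_right hv

theorem smul_mem_PW {L : Subgroup Y} {w : V} {l : Y} (hl : l ∈ L) {u : V} (hu : u ∈ PW L w) :
    l • u ∈ PW L w := by
  refine PW_induct (p := fun u => l • u ∈ PW L w) ?_ ?_ ?_ hu
  · intro k hk
    rw [smul_smul]
    exact orb_mem_PW (mul_mem hl hk)
  · intro v hv
    rw [hv l hl]
    exact VL_le_PW hv
  · intro u v h1 h2
    rw [smul_add]
    exact add_mem h1 h2

theorem cm_mem_PW {L : Subgroup Y} {w : V} {l : Y} (hl : l ∈ L) {u : V} (hu : u ∈ PW L w) :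
    cm l u ∈ PW L w := add_mem (smul_mem_PW hl hu) hu

/-- the elements fixing all `φ^x`, `x ∈ L` -/
def KL (L : Subgroup Y) (φ : Du V) : Subgroup Y where
  carrier := {g | ∀ x ∈ L, dua g (dua x φ) = dua x φ}
  one_mem' := fun x _ => dua_one _
  mul_mem' := by
    intro a b ha hb x hx
    rw [dua_mul, hb x hx, ha x hx]
  inv_mem' := by
    intro a ha x hx
    conv_lhs => rw [← ha x hx, dua_inv]

theorem mem_KL {L : Subgroup Y} {φ : Du V} {g : Y} : g ∈ KL L φ ↔ ∀ x ∈ L, dua g (dua x φ) = dua x φ :=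
  Iff.rfl

theorem card_two_le {H K : Subgroup Y} [Finite Y] (h1 : H ≤ K) {k : Y} (hk : k ∈ K) (hk' : k ∉ H) :
    2 * Nat.card H ≤ Nat.card K := by
  obtain ⟨m, hm⟩ := Subgroup.card_dvd_of_le h1
  have h2 : Nat.card H ≠ Nat.card K := by
    intro h0
    exact hk' (Subgroup.eq_of_le_of_card_ge h1 h0.ge ▸ hk)
  have h3 : 0 < Nat.card K := Nat.card_pos
  have h4 : m ≠ 0 := by
    rintro rfl
    rw [mul_zero] at hm
    omega
  have h5 : m ≠ 1 := by
    rintro rfl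
    rw [mul_one] at hm
    exact h2 hm.symm
  have h6 : 2 ≤ m := by omega
  rw [hm, mul_comm]
  exact Nat.mul_le_mul_left _ h6

namespace MP

variable {φ : Du V} {B L : Subgroup Y} {w : V} (h : MP φ B L w)
include h

theorem exists_B : ∃ b ∈ B, b ≠ 1 := by
  by_contra hc
  push Not at hc
  exact h.nb.ne ((eq_bot_iff_forall B).2 hc)

theorem phi_of_fx {v : V} (hv : Fx B v) : φ v = 0 := by
  obtain ⟨b, hb, hb1⟩ := h.exists_B
  exact h.nb.fix hb hb1 (hv b hb)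

theorem fx_B {v : V} (hv : Fx L v) : Fx B v := fun b hb => hv b (h.le hb)

theorem phi_PW (hE : ∀ l ∈ L, φ (l • w) = 0) {u : V} (hu : u ∈ PW L w) : φ u = 0 := by
  refine PW_induct (p := fun u => φ u = 0) hE (fun v hv => h.phi_of_fx (h.fx_B hv)) ?_ hu
  intro u v h1 h2
  rw [map_add, h1, h2, add_zero]

/-- (1) -/
theorem split (hE : ∀ l ∈ L, φ (l • w) = 0) {x : Y} (hx : x ∈ L) (hne : dua x φ ≠ φ) {u : V}
    (hu : u ∈ PW L w) :
    ∃ u₁ ∈ PW L w, ∃ u₂ ∈ PW L w, u = u₁ + u₂ ∧ Fx B u₁ ∧ Fx B (x⁻¹ • u₂) := by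
  let p : V → Prop := fun u => ∃ u₁ ∈ PW L w, ∃ u₂ ∈ PW L w, u = u₁ + u₂ ∧ Fx B u₁ ∧ Fx B (x⁻¹ • u₂)
  have hp := h.inv_of hx hne p ?_ ?_
  · refine PW_induct (p := p) ?_ ?_ ?_ hu
    · intro l hl
      refine hp l hl w ⟨w, ?_, 0, zero_mem _, (add_zero w).symm, h.fixw, ?_⟩
      · have h1 := orb_mem_PW (w := w) (one_mem L)
        rwa [one_smul] at h1
      · rw [smul_zero]
        exact Fx.zero B
    · intro v hv
      refine ⟨v, VL_le_PW hv, 0, zero_mem _, (add_zero v).symm, h.fx_B hv, ?_⟩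
      rw [smul_zero]
      exact Fx.zero B
    · rintro _ _ ⟨a₁, h1, a₂, h2, rfl, h3, h4⟩ ⟨b₁, k1, b₂, k2, rfl, k3, k4⟩
      refine ⟨a₁ + b₁, add_mem h1 k1, a₂ + b₂, add_mem h2 k2, by abel, h3.add k3, ?_⟩
      rw [smul_add]
      exact h4.add k4
  · rintro b hb _ ⟨a₁, h1, a₂, h2, rfl, h3, h4⟩
    refine ⟨a₁ + cm b a₂, add_mem h1 (cm_mem_PW (h.le hb) h2), a₂, h2, ?_,
      h3.add (h.nb.ed _ (h.phi_PW hE h2) b hb), h4⟩
    rw [smul_add, h3 b hb, smul_eq_add_cm b a₂]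
    abel
  · rintro b hb _ ⟨a₁, h1, a₂, h2, rfl, h3, h4⟩
    have hc : x * b * x⁻¹ ∈ L := mul_mem (mul_mem hx (h.le hb)) (inv_mem hx)
    refine ⟨a₁, h1, a₂ + cm (x * b * x⁻¹) a₁, add_mem h2 (cm_mem_PW hc h1), ?_, h3, ?_⟩
    · rw [smul_add, fx_conj.1 h4 b hb, smul_eq_add_cm _ a₁]
      abel
    · rw [smul_add]
      refine h4.add ?_
      have h7 : x⁻¹ • cm (x * b * x⁻¹) a₁ = cm b (x⁻¹ • a₁) := by
        rw [smul_cm_conj]
        congr 1
        group
      rw [h7]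
      exact h.nb.ed _ (h.phi_PW hE (smul_mem_PW (inv_mem hx) h1)) b hb

/-- (2) -/
theorem two {x : Y} (hx : x ∈ L) {u : V} (hu : Fx B (x⁻¹ • u)) {a : Y} (ha : a ∈ L) (hau : Fx L (cm a u))
    (hne : dua a (dua x φ) ≠ dua x φ) : Fx L u := by
  let H : Subgroup Y :=
    { carrier := {k | k ∈ L ∧ Fx L (cm k u)}
      one_mem' := ⟨one_mem L, by rw [cm_one]; exact Fx.zero L⟩
      mul_mem' := by
        rintro a b ⟨ha, ha'⟩ ⟨hb, hb'⟩
        refine ⟨mul_mem ha hb, ?_⟩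
        rw [cm_mul, cm_eq_zero.2 (hb' a ha), add_zero]
        exact ha'.add hb'
      inv_mem' := by
        rintro a ⟨ha, ha'⟩
        refine ⟨inv_mem ha, ?_⟩
        have h1 : cm a⁻¹ u = cm a u := by
          rw [← ha' a⁻¹ (inv_mem ha), cm, cm, smul_add, inv_smul_smul, add_comm]
        rw [h1]
        exact ha' }
  have h1 : L ≤ H := by
    refine h.gen hx ha hne H (fun c hc => ⟨mul_mem (mul_mem hx (h.le hc)) (inv_mem hx), ?_⟩) ⟨ha, hau⟩
    rw [cm_eq_zero.2 (fx_conj.1 hu c hc)]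
    exact Fx.zero L
  have h2 : ∀ l ∈ L, ∀ b ∈ B, (l * b * l⁻¹) • u = u := by
    intro l hl b hb
    have h3 : Fx L (cm (x * l⁻¹) u) := (h1 (mul_mem hx (inv_mem hl))).2
    have h4 : (x * l⁻¹) • u = u + cm (x * l⁻¹) u := smul_eq_add_cm _ _
    have h5 : l * b * l⁻¹ = (x * l⁻¹)⁻¹ * (x * b * x⁻¹) * (x * l⁻¹) := by group
    have h6 : x * b * x⁻¹ ∈ L := mul_mem (mul_mem hx (h.le hb)) (inv_mem hx)
    rw [h5, mul_smul, mul_smul, inv_smul_eq_iff, h4, smul_add, fx_conj.1 hu b hb, h3 _ h6]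
  obtain ⟨y, hy, hy'⟩ := h.ex
  refine fun l hl => h.min y hy hy' (MulAction.stabilizer Y u) (fun b hb => ?_) (fun b hb => h2 y hy b hb) hl
  have h3 := h2 1 (one_mem L) b hb
  rwa [one_mul, inv_one, mul_one] at h3

/-- (3) -/
theorem three (hE : ∀ l ∈ L, φ (l • w) = 0) {y : Y} (hy : y ∈ L) (hne : dua y φ ≠ φ) {a : Y} (ha : a ∈ B)
    (hay : dua a (dua y φ) = dua y φ) : a ∈ KL L φ := by
  intro x hx
  by_contra hxa
  have hx1 : dua x φ ≠ φ := by
    intro h0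
    apply hxa
    rw [h0]
    exact h.dua_B ha
  obtain ⟨y', hy', h1, h2⟩ := h.syl y hy a ha hay
  obtain ⟨t₁, -, t₂, -, h3, h4, h5⟩ := h.split hE hx hx1 (orb_mem_PW (w := w) hy')
  have h6 : a • t₂ = t₂ := by
    rw [h3, smul_add, h4 a ha, add_right_inj] at h2
    exact h2
  have h7 : Fx L t₂ := h.two hx h5 (h.le ha) (by rw [cm_eq_zero.2 h6]; exact Fx.zero L) hxa
  have h8 : Fx B (y' • w) := by
    rw [h3]
    exact h4.add (h.fx_B h7)
  have h9 : Fx L (y' • w) := h.fix_of2 hy' (by rw [h1]; exact hne) h8 (by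
    rw [inv_smul_smul]
    exact h.fixw)
  exact h.w_not ((fx_smul hy').1 h9)

/-- `B₀ = B ∩ K₀` centralises `⟨w^L⟩ + C_V(L)` -/
theorem fix_PW {b : Y} (hb : b ∈ B) (hb' : b ∈ KL L φ) {u : V} (hu : u ∈ PW L w) : b • u = u := by
  refine PW_induct (p := fun u => b • u = u) (fun l hl => h.core b hb hb' l hl)
    (fun v hv => hv b (h.le hb)) ?_ hu
  intro u v h1 h2
  rw [smul_add, h1, h2]

/-- `[v, H] + C_V(B)` -/
theorem card_VH {v : V} (hv : φ v = 1) {H : Subgroup Y} (hH : H ≤ B) :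
    ∃ E : AddSubgroup V, (∀ u, u ∈ E ↔ ∃ b ∈ H, Fx B (cm b v + u)) ∧
      Nat.card E = Nat.card H * Nat.card {d : V // Fx B d} := by
  let E : AddSubgroup V :=
    { carrier := {u | ∃ b ∈ H, Fx B (cm b v + u)}
      zero_mem' := ⟨1, one_mem H, by rw [cm_one, zero_add]; exact Fx.zero B⟩
      add_mem' := by
        rintro u u' ⟨b, hb, h1⟩ ⟨b', hb', h2⟩
        refine ⟨b * b', mul_mem hb hb', ?_⟩
        have h3 := h.nb.ed _ (h.nb.cm_mem (hH hb') v) b (hH hb)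
        rw [cm_mul, show cm b v + cm b' v + cm b (cm b' v) + (u + u') =
          (cm b v + u) + (cm b' v + u') + cm b (cm b' v) by abel]
        exact (h1.add h2).add h3
      neg_mem' := by
        rintro u ⟨b, hb, h1⟩
        rw [neg_eq]
        exact ⟨b, hb, h1⟩ }
  refine ⟨E, fun u => Iff.rfl, ?_⟩
  rw [← Nat.card_prod]
  refine (Nat.card_congr (Equiv.ofBijective
    (fun p : H × {d : V // Fx B d} => (⟨cm (p.1 : Y) v + p.2, p.1, p.1.2, by
      rw [← add_assoc, add_self, zero_add]; exact p.2.2⟩ : E)) ⟨?_, ?_⟩)).symm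
  · rintro ⟨⟨b, hb⟩, d, hd⟩ ⟨⟨b', hb'⟩, d', hd'⟩ h1
    have h2 : cm b v + d = cm b' v + d' := congrArg Subtype.val h1
    have h3 : Fx B (cm (b * b') v) := by
      rw [cm_mul]
      refine Fx.add ?_ (h.nb.ed _ (h.nb.cm_mem (hH hb') v) b (hH hb))
      have h4 : cm b v + cm b' v = d + d' := by
        have h5 : cm b v = cm b' v + d' + d := by rw [← h2, add_add_self]
        rw [h5]
        have h6 : cm b' v + d' + d + cm b' v = (cm b' v + cm b' v) + (d + d') := by abel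
        rw [h6, add_self, zero_add]
      rw [h4]
      exact Fx.add hd hd'
    have h5 := h.nb.inj v hv _ (mul_mem (hH hb) (hH hb')) h3
    have h6 : b = b' := by rw [eq_inv_of_mul_eq_one_left h5, h.inv_B (hH hb')]
    subst h6
    have h7 : d = d' := add_left_cancel h2
    subst h7
    rfl
  · rintro ⟨u, b, hb, h1⟩
    refine ⟨(⟨b, hb⟩, ⟨cm b v + u, h1⟩), Subtype.ext ?_⟩
    change cm b v + (cm b v + u) = u
    rw [← add_assoc, add_self, zero_add]

theorem card_V [Finite V] : Nat.card V = 2 * (Nat.card B * Nat.card {d : V // Fx B d}) := by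
  obtain ⟨v, hv⟩ := exists_one h.ne
  obtain ⟨E, hE, hc⟩ := h.card_VH hv (le_refl B)
  rw [← hc, ← card_ker h.ne]
  congr 1
  refine Nat.card_congr (Equiv.subtypeEquivRight fun u => ?_)
  rw [← SetLike.mem_coe, SetLike.mem_coe, hE]
  constructor
  · intro h1
    obtain ⟨b, hb, h2⟩ := h.nb.surj v u hv h1
    exact ⟨b, hb, h2⟩
  · rintro ⟨b, hb, h1⟩
    have h2 := h.phi_of_fx h1
    rwa [map_add, h.nb.cm_mem hb, zero_add] at h2

end MP

end Cfsg.Agent.Omega.NearFF
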