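import Cfsg.Agent.Omega.NearFF.Case1

/-!
# (BT), `|V/E| = 2`: minimal pairs, Case 1, the group `A` (project OMEGA, leaf N1)

Text: helper132, bb OMEGA #17318, Case 1 (4).
-/

set_option autoImplicit false
set_option linter.unusedSectionVars false

namespace Cfsg.Agent.Omega.NearFF

open Subgroup Cfsg.Agent.Omega.Transv

variable {Y : Type*} [Group Y] {V : Type*} [AddCommGroup V] [Module (ZMod 2) V] [DistribMulAction Y V]

/-- the output of Case 1 (4) -/
structure Out (φ : Du V) (B L : Subgroup Y) (w : V) (x : Y) (v : V) (A : Subgroup Y) : Prop where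
  le : A ≤ B
  KL : ∀ a ∈ A, a ∈ KL L φ
  ne : ∃ a ∈ A, a ≠ 1
  perp0 : ∀ a ∈ A, ∀ b ∈ B, b ∈ NearFF.KL L φ → cm b (cm a v) = 0
  perp1 : ∀ a ∈ A, a ≠ 1 → ∀ b ∈ B, cm b (cm a v) = 0 → b ∈ NearFF.KL L φ
  card : Nat.card A * Nat.card ((B ⊓ NearFF.KL L φ : Subgroup Y)) = Nat.card B
  surj : ∀ u ∈ PW L w, Fx B (x⁻¹ • u) → ¬ Fx L u → ∀ t ∈ PW L w, Fx B t → ∃ b ∈ B, Fx L (cm b u + t)

namespace MP

variable {φ : Du V} {B L : Subgroup Y} {w : V} (h : MP φ B L w)
include h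

theorem cm_cm_of_fx {v u : V} {a b : Y} (hb : b ∈ B) (hu : Fx B (cm a v + u)) : cm b (cm a v) = cm b u := by
  have h1 := cm_eq_zero.2 (hu b hb)
  rw [cm_add] at h1
  exact eq_of_add h1

theorem perp0 {v u : V} {a b : Y} (hb : b ∈ B) (hb' : b ∈ KL L φ) (hu : u ∈ PW L w)
    (hau : Fx B (cm a v + u)) : cm b (cm a v) = 0 := by
  rw [h.cm_cm_of_fx hb hau, cm_eq_zero.2 (h.fix_PW hb hb' hu)]

theorem perp1 (hE : ∀ l ∈ L, φ (l • w) = 0) {x : Y} (hx : x ∈ L) (hne : dua x φ ≠ φ) {v u : V}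
    (hv : φ v = 1) {a b : Y} (ha : a ∈ B) (ha1 : a ≠ 1) (hux : Fx B (x⁻¹ • u)) (hau : Fx B (cm a v + u))
    (hb : b ∈ B) (h0 : cm b (cm a v) = 0) : b ∈ KL L φ := by
  refine h.three hE hx hne hb ?_
  by_contra hbx
  rw [h.cm_cm_of_fx hb hau] at h0
  have h1 : Fx L u := h.two hx hux (h.le hb) (by rw [h0]; exact Fx.zero L) hbx
  exact ha1 (h.nb.inj v hv a ha (hau.of_add (h.fx_B h1)))

/-- `|P ∩ D_{B^x}| = |A| |C_V(L)|` -/
theorem card_C2 {x : Y} (hx : x ∈ L) (hne : dua x φ ≠ φ) {v : V} (hv : φ v = 1)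
    (hE : ∀ l ∈ L, φ (l • w) = 0) {A : Subgroup Y}
    (hA : ∀ a, a ∈ A ↔ a ∈ B ∧ ∃ u ∈ PW L w, Fx B (x⁻¹ • u) ∧ Fx B (cm a v + u)) :
    Nat.card {u : V // u ∈ PW L w ∧ Fx B (x⁻¹ • u)} = Nat.card A * Nat.card (VL V L) := by
  classical
  choose s hs1 hs2 hs3 using fun a : A => ((hA a).1 a.2).2
  rw [← Nat.card_prod]
  refine (Nat.card_congr (Equiv.ofBijective
    (fun p : A × VL V L => (⟨s p.1 + p.2, add_mem (hs1 p.1) (VL_le_PW p.2.2), by
      rw [smul_add]
      exact (hs2 p.1).add (h.fx_B ((fx_smul (inv_mem hx)).2 p.2.2))⟩ :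
      {u : V // u ∈ PW L w ∧ Fx B (x⁻¹ • u)})) ⟨?_, ?_⟩)).symm
  · rintro ⟨a, n, hn⟩ ⟨a', n', hn'⟩ h1
    have h2 : s a + n = s a' + n' := congrArg Subtype.val h1
    have haB := ((hA a).1 a.2).1
    have haB' := ((hA a').1 a'.2).1
    have h3 : Fx B (cm ((a : Y) * a') v) := by
      rw [cm_mul]
      refine Fx.add ?_ (h.nb.ed _ (h.nb.cm_mem haB' v) a haB)
      have h4 := ((hs3 a).add (hs3 a')).add ((h.fx_B hn).add (h.fx_B hn'))
      have h5 : cm (a : Y) v + s a + (cm (a' : Y) v + s a') + (n + n') =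
          (cm (a : Y) v + cm (a' : Y) v) + ((s a + n) + (s a' + n')) := by abel
      rw [h5, h2, add_self, add_zero] at h4
      exact h4
    have h5 := h.nb.inj v hv _ (mul_mem haB haB') h3
    have h6 : (a : Y) = a' := by rw [eq_inv_of_mul_eq_one_left h5, h.inv_B haB']
    have h7 : a = a' := Subtype.ext h6
    subst h7
    have h8 : n = n' := add_left_cancel h2
    subst h8
    rfl
  · rintro ⟨u, hu, hux⟩
    obtain ⟨b, hb, hd⟩ := h.nb.surj v u hv (h.phi_PW hE hu)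
    let a : A := ⟨b, (hA b).2 ⟨hb, u, hu, hux, hd⟩⟩
    have h1 : Fx B (u + s a) := by
      have h4 := hd.add (hs3 a)
      have h5 : cm b v + u + (cm (a : Y) v + s a) = (cm b v + cm b v) + (u + s a) := by
        change cm b v + u + (cm b v + s a) = _
        abel
      rw [h5, add_self, zero_add] at h4
      exact h4
    have h2 : Fx B (x⁻¹ • (u + s a)) := by
      rw [smul_add]
      exact hux.add (hs2 a)
    refine ⟨(a, ⟨u + s a, h.fix_of2 hx hne h1 h2⟩), Subtype.ext ?_⟩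
    change s a + (u + s a) = u
    rw [add_comm, add_add_self]

/-- `b ↦ [u, b] + C_V(L)` -/
theorem exists_R (hE : ∀ l ∈ L, φ (l • w) = 0) {x : Y} (hx : x ∈ L) (hne : dua x φ ≠ φ) {u : V}
    (hu : u ∈ PW L w) (hux : Fx B (x⁻¹ • u)) (huL : ¬ Fx L u) :
    ∃ R : AddSubgroup V, (∀ n, n ∈ R ↔ ∃ b ∈ B, Fx L (cm b u + n)) ∧
      Nat.card R * Nat.card ((B ⊓ KL L φ : Subgroup Y)) = Nat.card B * Nat.card (VL V L) := by
  classical
  have hu0 := h.phi_PW hE hu
  have hcc : ∀ b ∈ B, ∀ c ∈ B, cm b (cm c u) = 0 := fun b hb c hc =>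
    cm_eq_zero.2 (h.nb.ed u hu0 c hc b hb)
  let R : AddSubgroup V :=
    { carrier := {n | ∃ b ∈ B, Fx L (cm b u + n)}
      zero_mem' := ⟨1, one_mem B, by rw [cm_one, zero_add]; exact Fx.zero L⟩
      add_mem' := by
        rintro n n' ⟨b, hb, h1⟩ ⟨b', hb', h2⟩
        refine ⟨b * b', mul_mem hb hb', ?_⟩
        rw [cm_mul, hcc b hb b' hb', add_zero, show cm b u + cm b' u + (n + n') =
          (cm b u + n) + (cm b' u + n') by abel]
        exact h1.add h2
      neg_mem' := by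
        rintro n ⟨b, hb, h1⟩
        rw [neg_eq]
        exact ⟨b, hb, h1⟩ }
  refine ⟨R, fun n => Iff.rfl, ?_⟩
  have hfix : ∀ b ∈ B, Fx L (cm b u) → b ∈ KL L φ := by
    intro b hb h1
    refine h.three hE hx hne hb ?_
    by_contra hbx
    exact huL (h.two hx hux (h.le hb) h1 hbx)
  choose s hs1 hs2 using fun n : R => (n.2 : ∃ b ∈ B, Fx L (cm b u + n))
  rw [← Nat.card_prod, ← Nat.card_prod]
  have hmul : ∀ n : R, ∀ b : (B ⊓ KL L φ : Subgroup Y), cm (s n * b) u = cm (s n) u := by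
    intro n b
    rw [cm_mul, hcc _ (hs1 n) _ b.2.1, add_zero, cm_eq_zero.2 (h.fix_PW b.2.1 b.2.2 hu), add_zero]
  refine Nat.card_congr (Equiv.ofBijective
    (fun p : R × (B ⊓ KL L φ : Subgroup Y) => ((⟨s p.1 * p.2, mul_mem (hs1 p.1) p.2.2.1⟩,
      ⟨cm (s p.1) u + p.1, hs2 p.1⟩) : B × VL V L)) ⟨?_, ?_⟩)
  · rintro ⟨n, b⟩ ⟨n', b'⟩ h1
    have h2 : s n * b = s n' * b' := congrArg (fun p => (p.1 : Y)) h1
    have h3 : cm (s n) u + (n : V) = cm (s n') u + n' := congrArg (fun p => (p.2 : V)) h1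
    have h4 : cm (s n) u = cm (s n') u := by rw [← hmul n b, ← hmul n' b', h2]
    rw [h4] at h3
    have h5 : n = n' := Subtype.ext (add_left_cancel h3)
    subst h5
    have h6 : b = b' := Subtype.ext (mul_left_cancel h2)
    subst h6
    rfl
  · rintro ⟨⟨b, hb⟩, m, hm⟩
    have hR : cm b u + m ∈ R := ⟨b, hb, by
      rw [← add_assoc, add_self, zero_add]
      exact hm⟩
    let n : R := ⟨cm b u + m, hR⟩
    have h1 := hs2 n
    have h2 : cm (s n * b) u = cm (s n) u + (n : V) + m := by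
      rw [cm_mul, hcc _ (hs1 n) _ hb, add_zero]
      change _ = cm (s n) u + (cm b u + m) + m
      rw [add_assoc, add_assoc, add_self, add_zero]
    have h3 : s n * b ∈ KL L φ := by
      refine hfix _ (mul_mem (hs1 n) hb) ?_
      rw [h2]
      exact h1.add hm
    have h4 : cm (s n * b) u = 0 := cm_eq_zero.2 (h.fix_PW (mul_mem (hs1 n) hb) h3 hu)
    rw [h2] at h4
    refine ⟨(n, ⟨s n * b, mul_mem (hs1 n) hb, h3⟩), Prod.ext (Subtype.ext ?_) (Subtype.ext ?_)⟩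
    · change s n * (s n * b) = b
      rw [← mul_assoc, h.nb.sq _ (hs1 n), one_mul]
    · exact eq_of_add h4

theorem exists_out [Finite Y] [Finite V] (hE : ∀ l ∈ L, φ (l • w) = 0) {x : Y} (hx : x ∈ L)
    (hne : dua x φ ≠ φ) {v : V} (hv : φ v = 1) : ∃ A : Subgroup Y, Out φ B L w x v A := by
  classical
  let A : Subgroup Y :=
    { carrier := {a | a ∈ B ∧ ∃ u ∈ PW L w, Fx B (x⁻¹ • u) ∧ Fx B (cm a v + u)}
      one_mem' := ⟨one_mem B, 0, zero_mem _, by rw [smul_zero]; exact Fx.zero B, by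
        rw [cm_one, zero_add]
        exact Fx.zero B⟩
      mul_mem' := by
        rintro a b ⟨ha, u, hu, hux, h1⟩ ⟨hb, u', hu', hux', h2⟩
        refine ⟨mul_mem ha hb, u + u', add_mem hu hu', by rw [smul_add]; exact hux.add hux', ?_⟩
        have h3 := h.nb.ed _ (h.nb.cm_mem hb v) a ha
        rw [cm_mul, show cm a v + cm b v + cm a (cm b v) + (u + u') =
          (cm a v + u) + (cm b v + u') + cm a (cm b v) by abel]
        exact (h1.add h2).add h3
      inv_mem' := by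
        rintro a ⟨ha, h1⟩
        rw [h.inv_B ha]
        exact ⟨ha, h1⟩ }
  have hA : ∀ a, a ∈ A ↔ a ∈ B ∧ ∃ u ∈ PW L w, Fx B (x⁻¹ • u) ∧ Fx B (cm a v + u) := fun a => Iff.rfl
  have hxw : x • w ∈ PW L w := orb_mem_PW hx
  have hxw' : Fx B (x⁻¹ • (x • w)) := by
    rw [inv_smul_smul]
    exact h.fixw
  have hxwL : ¬ Fx L (x • w) := fun h0 => h.w_not ((fx_smul hx).1 h0)
  have hAne : ∃ a ∈ A, a ≠ 1 := by
    obtain ⟨a, ha, hd⟩ := h.nb.surj v (x • w) hv (h.phi_PW hE hxw)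
    refine ⟨a, ⟨ha, x • w, hxw, hxw', hd⟩, ?_⟩
    rintro rfl
    rw [cm_one, zero_add] at hd
    exact hxwL (h.fix_of2 hx hne hd hxw')
  have hp0 : ∀ a ∈ A, ∀ b ∈ B, b ∈ KL L φ → cm b (cm a v) = 0 := by
    rintro a ⟨-, u, hu, -, h1⟩ b hb hb'
    exact h.perp0 hb hb' hu h1
  have hp1 : ∀ a ∈ A, a ≠ 1 → ∀ b ∈ B, cm b (cm a v) = 0 → b ∈ KL L φ := by
    rintro a ⟨ha, u, -, hux, h1⟩ ha1 b hb h0
    exact h.perp1 hE hx hne hv ha ha1 hux h1 hb h0
  have hAK : ∀ a ∈ A, a ∈ KL L φ := by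
    intro a ha
    by_cases ha1 : a = 1
    · rw [ha1]
      exact one_mem _
    · exact hp1 a ha ha1 a ha.1 (cm_eq_zero.2 (h.nb.smul_cm_self ha.1 v))
  -- no offender
  have hlt : Nat.card A * Nat.card ((B ⊓ KL L φ : Subgroup Y)) < 2 * Nat.card B := by
    obtain ⟨E, hE', hc⟩ := h.card_VH hv (inf_le_left : B ⊓ KL L φ ≤ B)
    have h1 : Nat.card E ≤ Nat.card {v : V // Fx A v} := by
      refine Nat.card_le_card_of_injective (fun u : E => (⟨u, ?_⟩ : {v : V // Fx A v})) ?_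
      · intro a ha
        obtain ⟨b, hb, h1⟩ := (hE' u).1 u.2
        rw [← cm_eq_zero, ← h.cm_cm_of_fx ha.1 h1, cm_comm (h.nb.comm a ha.1 b hb.1)]
        exact hp0 a ha b hb.1 hb.2
      · intro u u' h2
        exact Subtype.ext (congrArg (fun p : {v : V // Fx A v} => (p : V)) h2)
    have h2 := h.noff A (by
      rintro h0
      obtain ⟨a, ha, ha1⟩ := hAne
      rw [h0, mem_bot] at ha
      exact ha1 ha) (fun a ha b hb => h.nb.comm a ha.1 b hb.1) (fun a ha => h.nb.sq a ha.1)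
    rw [h.card_V] at h2
    have h3 := lt_of_le_of_lt (Nat.mul_le_mul_left (Nat.card A) h1) h2
    rw [hc, ← mul_assoc, ← mul_assoc] at h3
    exact lt_of_mul_lt_mul_right h3 (Nat.zero_le _)
  have hC2 := h.card_C2 hx hne hv hE hA
  let C : AddSubgroup V :=
    { carrier := {u | u ∈ PW L w ∧ Fx B u}
      zero_mem' := ⟨zero_mem _, Fx.zero B⟩
      add_mem' := fun h1 h2 => ⟨add_mem h1.1 h2.1, h1.2.add h2.2⟩
      neg_mem' := by
        intro u hu
        rw [neg_eq]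
        exact hu }
  have hC : Nat.card C = Nat.card A * Nat.card (VL V L) := by
    rw [← hC2]
    refine Nat.card_congr ⟨fun u => ⟨x • u, smul_mem_PW hx u.2.1, by rw [inv_smul_smul]; exact u.2.2⟩,
      fun u => ⟨x⁻¹ • u, smul_mem_PW (inv_mem hx) u.2.1, u.2.2⟩, fun u => Subtype.ext ?_,
      fun u => Subtype.ext ?_⟩
    · exact inv_smul_smul x _
    · exact smul_inv_smul x _
  have hpos : 0 < Nat.card ((B ⊓ KL L φ : Subgroup Y)) := Nat.card_pos
  have hpos' : 0 < Nat.card (VL V L) := Nat.card_pos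
  have main : ∀ u ∈ PW L w, Fx B (x⁻¹ • u) → ¬ Fx L u →
      (∀ t ∈ PW L w, Fx B t → ∃ b ∈ B, Fx L (cm b u + t)) ∧
      Nat.card A * Nat.card ((B ⊓ KL L φ : Subgroup Y)) = Nat.card B := by
    intro u hu hux huL
    obtain ⟨R, hR, hRc⟩ := h.exists_R hE hx hne hu hux huL
    have hRC : R ≤ C := by
      intro n hn
      obtain ⟨b, hb, h1⟩ := (hR n).1 hn
      have h2 : n = cm b u + (cm b u + n) := by rw [← add_assoc, add_self, zero_add]
      rw [h2]
      exact ⟨add_mem (cm_mem_PW (h.le hb) hu) (VL_le_PW h1),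
        (h.nb.ed u (h.phi_PW hE hu) b hb).add (h.fx_B h1)⟩
    have h1 : Nat.card C < 2 * Nat.card R := by
      have h2 : Nat.card C * Nat.card ((B ⊓ KL L φ : Subgroup Y)) <
          2 * Nat.card R * Nat.card ((B ⊓ KL L φ : Subgroup Y)) := by
        rw [hC, mul_assoc 2, hRc]
        calc Nat.card A * Nat.card (VL V L) * Nat.card ((B ⊓ KL L φ : Subgroup Y))
            = Nat.card A * Nat.card ((B ⊓ KL L φ : Subgroup Y)) * Nat.card (VL V L) := by ring
          _ < 2 * Nat.card B * Nat.card (VL V L) := Nat.mul_lt_mul_of_pos_right hlt hpos'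
          _ = 2 * (Nat.card B * Nat.card (VL V L)) := by ring
      exact lt_of_mul_lt_mul_right h2 (Nat.zero_le _)
    obtain ⟨m, hm⟩ := AddSubgroup.card_dvd_of_le hRC
    have hCpos : 0 < Nat.card C := Nat.card_pos
    have hm1 : m = 1 := by
      have h3 : m ≠ 0 := by
        rintro rfl
        rw [mul_zero] at hm
        omega
      have h4 : m < 2 := by
        by_contra hc
        have h5 : 2 ≤ m := by omega
        have h6 := Nat.mul_le_mul_left (Nat.card R) h5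
        rw [← hm] at h6
        omega
      omega
    rw [hm1, mul_one] at hm
    have hRC' : R = C := AddSubgroup.eq_of_le_of_card_ge hRC hm.le
    refine ⟨fun t ht htB => ?_, ?_⟩
    · have h3 : t ∈ R := by
        rw [hRC']
        exact ⟨ht, htB⟩
      exact (hR t).1 h3
    · rw [← hm, hC] at hRc
      have h4 : Nat.card A * Nat.card ((B ⊓ KL L φ : Subgroup Y)) * Nat.card (VL V L) =
          Nat.card B * Nat.card (VL V L) := by
        rw [← hRc]
        ring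
      exact Nat.eq_of_mul_eq_mul_right hpos' h4
  exact ⟨A, fun a ha => ha.1, hAK, hAne, hp0, hp1, (main _ hxw hxw' hxwL).2,
    fun u hu hux huL => (main u hu hux huL).1⟩

end MP

end Cfsg.Agent.Omega.NearFF
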