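import Cfsg.Agent.Omega.NearFF.Case1A

/-!
# (BT), `|V/E| = 2`: there is no minimal pair with `|[E, b]| ≥ 4` for all `b` (project OMEGA, leaf N1)

Text: helper132, bb OMEGA #17318, Case 1 (5), (6).
-/

set_option autoImplicit false
set_option linter.unusedSectionVars false

namespace Cfsg.Agent.Omega.NearFF

open Subgroup Cfsg.Agent.Omega.Transv

variable {Y : Type*} [Group Y] {V : Type*} [AddCommGroup V] [Module (ZMod 2) V] [DistribMulAction Y V]

theorem dua_injF {g : Y} {φ ψ : Du V} (h : dua g φ = dua g ψ) : φ = ψ := by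
  rw [← dua_inv g φ, h, dua_inv]

theorem card_half [Finite V] (E : AddSubgroup V) (ψ : Du V) :
    Nat.card E ≤ 2 * Nat.card {u : V // u ∈ E ∧ ψ u = 0} := by
  classical
  by_cases h0 : ∃ e ∈ E, ψ e = 1
  · obtain ⟨e, he, he1⟩ := h0
    have h1 : Nat.card (Fin 2 × {u : V // u ∈ E ∧ ψ u = 0}) = 2 * Nat.card {u : V // u ∈ E ∧ ψ u = 0} := by
      rw [Nat.card_prod, Nat.card_fin]
    rw [← h1]
    refine Nat.card_le_card_of_injective (fun u : E => if hu : ψ u = 0 then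
      ((0 : Fin 2), (⟨u, u.2, hu⟩ : {u : V // u ∈ E ∧ ψ u = 0})) else
      ((1 : Fin 2), ⟨u + e, add_mem u.2 he, by rw [map_add, he1, eq_one_of_ne hu, one_add_one]⟩)) ?_
    intro u u' h2
    by_cases hu : ψ u = 0
    · by_cases hu' : ψ u' = 0
      · simp only [hu, hu', dif_pos] at h2
        exact Subtype.ext (congrArg (fun p => (p.2 : V)) h2)
      · simp only [hu, hu', dif_pos, dif_neg, not_false_iff] at h2
        have h3 : (0 : Fin 2) = 1 := congrArg Prod.fst h2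
        exact absurd h3 (by decide)
    · by_cases hu' : ψ u' = 0
      · simp only [hu, hu', dif_pos, dif_neg, not_false_iff] at h2
        have h3 : (1 : Fin 2) = 0 := congrArg Prod.fst h2
        exact absurd h3 (by decide)
      · simp only [hu, hu', dif_neg, not_false_iff] at h2
        have h3 : (u : V) + e = u' + e := congrArg (fun p => (p.2 : V)) h2
        exact Subtype.ext (add_right_cancel h3)
  · push Not at h0
    have h1 : Nat.card E ≤ Nat.card {u : V // u ∈ E ∧ ψ u = 0} :=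
      Nat.card_le_card_of_injective (fun u : E => (⟨u, u.2, eq_zero_of_ne (h0 u u.2)⟩ :
        {u : V // u ∈ E ∧ ψ u = 0})) fun u u' h2 =>
        Subtype.ext (congrArg (fun p : {u : V // u ∈ E ∧ ψ u = 0} => (p : V)) h2)
    omega

namespace MP

variable {φ : Du V} {B L : Subgroup Y} {w : V} (h : MP φ B L w)
include h

/-- `B` is transitive on `φ^L - φ` -/
theorem trans (hE : ∀ l ∈ L, φ (l • w) = 0) {x : Y} (hx : x ∈ L) (hne : dua x φ ≠ φ) {v : V}
    {A : Subgroup Y} (hA : Out φ B L w x v A) {y : Y} (hy : y ∈ L) (hney : dua y φ ≠ φ) :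
    ∃ b ∈ B, dua y φ = dua (b * x) φ := by
  obtain ⟨t₁, h1, t₂, h2, h3, h4, h5⟩ := h.split hE hx hne (orb_mem_PW (w := w) hy)
  have hw : Fx B (y⁻¹ • (y • w)) := by
    rw [inv_smul_smul]
    exact h.fixw
  have hyL : ¬ Fx L (y • w) := fun h0 => h.w_not ((fx_smul hy).1 h0)
  have h6 : ¬ Fx L t₂ := by
    intro h0
    refine hyL (h.fix_of2 hy hney ?_ hw)
    rw [h3]
    exact h4.add (h.fx_B h0)
  obtain ⟨b, hb, h7⟩ := hA.surj t₂ h2 h5 h6 t₁ h1 h4
  refine ⟨b, hb, ?_⟩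
  by_contra hc
  refine hyL (h.fix_of3 hy (mul_mem (h.le hb) hx) hc hw ?_)
  have h8 : b • (y • w) = t₂ + (cm b t₂ + t₁) := by
    rw [h3, smul_add, h4 b hb, smul_eq_add_cm b t₂]
    abel
  rw [mul_inv_rev, h.inv_B hb, mul_smul, h8, smul_add]
  exact h5.add (h.fx_B ((fx_smul (inv_mem hx)).2 h7))

theorem dua_b {b : Y} (hb : b ∈ B) (ψ : Du V) (u : V) : dua b ψ u = ψ u + ψ (cm b u) := by
  rw [dua_apply, h.inv_B hb, smul_eq_add_cm, map_add]

/-- **no minimal pair** with `|[E, b]| ≥ 4` for all `1 ≠ b ∈ B` -/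
theorem false_of_big [Finite Y] [Finite V] (hbig : Big φ B) : False := by
  classical
  have hE := h.case2 hbig
  obtain ⟨x, hx, hne⟩ := h.ex
  obtain ⟨v, hv⟩ := exists_one h.ne
  obtain ⟨A, hA⟩ := h.exists_out hE hx hne hv
  have htr := fun {y : Y} (hy : y ∈ L) (hney : dua y φ ≠ φ) => h.trans hE hx hne hA hy hney
  have h3 := fun {a : Y} (ha : a ∈ B) (hax : dua a (dua x φ) = dua x φ) => h.three hE hx hne ha hax
  -- `b₁, b₂`
  obtain ⟨a, haA, ha1⟩ := hA.ne
  have haB := hA.le haA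
  have hk0 : ∀ b ∈ B, (b ∈ KL L φ ↔ cm a (cm b v) = 0) := by
    intro b hb
    rw [cm_comm (h.nb.comm a haB b hb)]
    exact ⟨fun h0 => hA.perp0 a haA b hb h0, fun h0 => hA.perp1 a haA ha1 b hb h0⟩
  have hmul : ∀ b ∈ B, ∀ c ∈ B, cm a (cm (b * c) v) = cm a (cm b v) + cm a (cm c v) := by
    intro b hb c hc
    rw [cm_mul, cm_add, cm_add, cm_eq_zero.2 (h.nb.ed _ (h.nb.cm_mem hc v) b hb a haB), add_zero]
  obtain ⟨e₁, he₁, g1, -⟩ := hbig a haB ha1 0
  obtain ⟨e₂, he₂, g2, g3⟩ := hbig a haB ha1 (cm a e₁)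
  obtain ⟨b₁, hb₁, hd₁⟩ := h.nb.surj _ e₁ hv he₁
  obtain ⟨b₂, hb₂, hd₂⟩ := h.nb.surj _ e₂ hv he₂
  have k1 : cm a (cm b₁ v) = cm a e₁ := h.cm_cm_of_fx haB hd₁
  have k2 : cm a (cm b₂ v) = cm a e₂ := h.cm_cm_of_fx haB hd₂
  have n1 : b₁ ∉ KL L φ := by
    rw [hk0 b₁ hb₁, k1]
    exact g1
  have n2 : b₂ ∉ KL L φ := by
    rw [hk0 b₂ hb₂, k2]
    exact g2
  have n3 : b₁ * b₂ ∉ KL L φ := by
    rw [hk0 _ (mul_mem hb₁ hb₂), hmul b₁ hb₁ b₂ hb₂, k1, k2]
    exact fun h0 => g3 (eq_of_add h0).symm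
  -- (5)
  obtain ⟨d, hd, hd1⟩ : ∃ d, Fx B d ∧ dua x φ d = 1 := by
    by_contra hc
    push Not at hc
    have h0 : ∀ d, Fx B d → dua x φ d = 0 := fun d hd => eq_zero_of_ne (hc d hd)
    have h1 : ∀ b ∈ B, b ∉ KL L φ → dua x φ (cm b v) = 1 := by
      intro b hb hbK
      refine eq_one_of_ne fun h4 => hbK (h3 hb ?_)
      refine LinearMap.ext fun u => ?_
      rw [h.dua_b hb]
      have h5 : dua x φ (cm b u) = 0 := by
        rcases zmod_cases (φ u) with h6 | h6
        · exact h0 _ (h.nb.ed u h6 b hb)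
        · have h7 : φ (u + v) = 0 := by rw [map_add, h6, hv, one_add_one]
          have h8 := h0 _ (h.nb.ed _ h7 b hb)
          rw [cm_add, map_add, h4, add_zero] at h8
          exact h8
      rw [h5, add_zero]
    have h4 := h1 _ (mul_mem hb₁ hb₂) n3
    rw [cm_mul, map_add, map_add, h1 b₁ hb₁ n1, h1 b₂ hb₂ n2,
      h0 _ (h.nb.ed _ (h.nb.cm_mem hb₂ v) b₁ hb₁), add_zero, one_add_one] at h4
    exact one_ne h4.symm
  have hd' : ∀ y ∈ L, dua y φ ≠ φ → dua y φ d = 1 := by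
    intro y hy hney
    obtain ⟨b, hb, h4⟩ := htr hy hney
    rw [h4, dua_mul, dua_apply, hd _ (inv_mem hb), hd1]
  -- (5')
  have hrad : ∀ b ∈ B, (∀ c ∈ B, dua x φ (cm c (cm b v)) = 0) → b ∈ KL L φ := by
    intro b hb hr
    by_contra hbK
    have h4 : dua b (dua x φ) + dua x φ = φ := by
      refine (eq_of_hyper (φ := φ) (ψ := dua b (dua x φ) + dua x φ) fun e he => ?_).resolve_left ?_
      · obtain ⟨c, hc, h5⟩ := h.nb.surj v e hv he
        rw [LinearMap.add_apply, h.dua_b hb]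
        have h6 : dua x φ (cm b e) = 0 := by
          rw [← h.cm_cm_of_fx hb h5, cm_comm (h.nb.comm b hb c hc)]
          exact hr c hc
        rw [h6, add_zero, add_self]
      · intro h0
        refine hbK (h3 hb (LinearMap.ext fun u => ?_))
        have h5 := LinearMap.congr_fun h0 u
        rw [LinearMap.add_apply] at h5
        exact eq_of_add h5
    obtain ⟨c, hc, hcK, hbc⟩ : ∃ c ∈ B, c ∉ KL L φ ∧ b * c ∉ KL L φ := by
      by_cases h5 : b * b₁ ∈ KL L φ
      · refine ⟨b₂, hb₂, n2, fun h6 => n3 ?_⟩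
        have h7 := mul_mem h5 h6
        have h8 : b * b₁ * (b * b₂) = b₁ * b₂ := by
          rw [h.nb.comm b hb b₁ hb₁, mul_assoc b₁ b, ← mul_assoc b b, h.nb.sq b hb, one_mul]
        rwa [h8] at h7
      · exact ⟨b₁, hb₁, n1, h5⟩
    have hg : (c * x)⁻¹ ∈ L := inv_mem (mul_mem (h.le hc) hx)
    have e1 : dua (c * x)⁻¹ φ ≠ φ := by
      intro h0
      apply hne
      have h5 : dua c (dua x φ) = dua c φ := by
        rw [h.dua_B hc, ← dua_mul]
        conv_lhs => rw [← h0, ← dua_mul, mul_inv_cancel, dua_one]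
      exact dua_injF h5
    have e2 : dua ((c * x)⁻¹ * x) φ ≠ φ := by
      intro h0
      apply hcK
      apply h3 hc
      rw [dua_mul] at h0
      have h5 : dua (c * x) (dua (c * x)⁻¹ (dua x φ)) = dua (c * x) φ := by rw [h0]
      rw [← dua_mul, mul_inv_cancel, dua_one, dua_mul] at h5
      exact h5.symm
    have e3 : dua ((c * x)⁻¹ * (b * x)) φ ≠ φ := by
      intro h0
      apply hbc
      apply h3 (mul_mem hb hc)
      rw [dua_mul] at h0
      have h5 : dua (c * x) (dua (c * x)⁻¹ (dua (b * x) φ)) = dua (c * x) φ := by rw [h0]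
      rw [← dua_mul, mul_inv_cancel, dua_one, dua_mul c] at h5
      rw [dua_mul b c, ← h5, ← dua_mul, ← mul_assoc, h.nb.sq b hb, one_mul]
    have e4 := hd' _ hg e1
    have e5 := hd' _ (mul_mem hg hx) e2
    have e6 := hd' _ (mul_mem hg (mul_mem (h.le hb) hx)) e3
    rw [dua_mul] at e5 e6
    rw [dua_apply] at e4 e5 e6
    have e7 := LinearMap.congr_fun h4 (((c * x)⁻¹)⁻¹ • d)
    rw [LinearMap.add_apply, ← dua_mul, e6, e5, e4, one_add_one] at e7
    exact one_ne e7.symm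
  -- (6)
  let El : V → Prop := fun u => ∀ y ∈ L, dua y φ u = 0
  have hEl1 : ∀ l ∈ L, ∀ u, El u → El (l • u) := by
    intro l hl u hu y hy
    have h4 := hu (l⁻¹ * y) (mul_mem (inv_mem hl) hy)
    rw [dua_mul, dua_apply, inv_inv] at h4
    exact h4
  have hAf : ∀ a ∈ A, ∀ u, El u → a • u = u := by
    intro a ha u hu
    have haB := hA.le ha
    have hu0 : φ u = 0 := by
      have h4 := hu 1 (one_mem L)
      rwa [dua_one] at h4
    obtain ⟨b, hb, h4⟩ := h.nb.surj v u hv hu0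
    have h5 : b ∈ KL L φ := by
      refine hrad b hb fun c hc => ?_
      have h6 := hu (c * x) (mul_mem (h.le hc) hx)
      rw [dua_mul, h.dua_b hc, hu x hx, zero_add] at h6
      rwa [h.cm_cm_of_fx hc h4]
    rw [← cm_eq_zero, ← h.cm_cm_of_fx haB h4, cm_comm (h.nb.comm a haB b hb)]
    exact hA.perp0 a ha b hb h5
  have hAc : ∀ a ∈ A, ∀ u, El (cm a u) := by
    intro a ha u y hy
    rw [cm_def, map_add, stabF_apply (mem_stabF.2 (hA.KL a ha y hy)), add_self]
  have hXf : ∀ a ∈ A, ∀ u, El u → (x * a * x⁻¹) • u = u := by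
    intro a ha u hu
    rw [mul_smul, mul_smul, hAf a ha _ (hEl1 _ (inv_mem hx) u hu), smul_inv_smul]
  have hXc : ∀ a ∈ A, ∀ u, El (cm (x * a * x⁻¹) u) := by
    intro a ha u
    rw [smul_cm_inv]
    exact hEl1 x hx _ (hAc a ha _)
  have hcom : ∀ a ∈ A, ∀ c ∈ A, a * (x * c * x⁻¹) = x * c * x⁻¹ * a := by
    intro a ha c hc
    refine h.faith.ext fun u => ?_
    rw [mul_smul a, mul_smul (x * c * x⁻¹) a, smul_eq_add_cm (x * c * x⁻¹) u, smul_add,
      hAf a ha _ (hXc c hc u),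
      smul_eq_add_cm a u, smul_add, hXf c hc _ (hAc a ha u), smul_eq_add_cm (x * c * x⁻¹) u]
    abel
  have hti : ∀ a ∈ A, ∀ c ∈ A, a = x * c * x⁻¹ → c = 1 := by
    intro a ha c hc h4
    by_contra hc1
    have h5 : a • d = d := hd a (hA.le ha)
    rw [h4, mul_smul, mul_smul] at h5
    have h6 : c • (x⁻¹ • d) = x⁻¹ • d := by rw [eq_inv_smul_iff, h5]
    have h7 := h.nb.fix (hA.le hc) hc1 h6
    rw [dua_apply, h7] at hd1
    exact one_ne hd1.symm
  have hAcomm : ∀ a ∈ A, ∀ b ∈ A, a * b = b * a := fun a ha b hb =>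
    h.nb.comm a (hA.le ha) b (hA.le hb)
  let K : Subgroup Y :=
    { carrier := {k | ∃ a ∈ A, ∃ c ∈ A, k = a * (x * c * x⁻¹)}
      one_mem' := ⟨1, one_mem A, 1, one_mem A, by group⟩
      mul_mem' := by
        rintro _ _ ⟨a, ha, c, hc, rfl⟩ ⟨a', ha', c', hc', rfl⟩
        refine ⟨a * a', mul_mem ha ha', c * c', mul_mem hc hc', ?_⟩
        calc a * (x * c * x⁻¹) * (a' * (x * c' * x⁻¹))
            = a * (x * c * x⁻¹ * a') * (x * c' * x⁻¹) := by group
          _ = a * (a' * (x * c * x⁻¹)) * (x * c' * x⁻¹) := by rw [hcom a' ha' c hc]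
          _ = a * a' * (x * (c * c') * x⁻¹) := by group
      inv_mem' := by
        rintro _ ⟨a, ha, c, hc, rfl⟩
        refine ⟨a⁻¹, inv_mem ha, c⁻¹, inv_mem hc, ?_⟩
        rw [hcom a ha c hc]
        group }
  have hKc : ∀ a ∈ K, ∀ b ∈ K, a * b = b * a := by
    rintro _ ⟨a, ha, c, hc, rfl⟩ _ ⟨a', ha', c', hc', rfl⟩
    calc a * (x * c * x⁻¹) * (a' * (x * c' * x⁻¹))
        = a * (x * c * x⁻¹ * a') * (x * c' * x⁻¹) := by group
      _ = a * (a' * (x * c * x⁻¹)) * (x * c' * x⁻¹) := by rw [hcom a' ha' c hc]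
      _ = a * a' * (x * (c * c') * x⁻¹) := by group
      _ = a' * a * (x * (c' * c) * x⁻¹) := by rw [hAcomm a ha a' ha', hAcomm c hc c' hc']
      _ = a' * (a * (x * c' * x⁻¹)) * (x * c * x⁻¹) := by group
      _ = a' * (x * c' * x⁻¹ * a) * (x * c * x⁻¹) := by rw [hcom a ha c' hc']
      _ = a' * (x * c' * x⁻¹) * (a * (x * c * x⁻¹)) := by group
  have hK2 : ∀ a ∈ K, a * a = 1 := by
    rintro _ ⟨a, ha, c, hc, rfl⟩
    calc a * (x * c * x⁻¹) * (a * (x * c * x⁻¹))
        = a * (x * c * x⁻¹ * a) * (x * c * x⁻¹) := by group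
      _ = a * (a * (x * c * x⁻¹)) * (x * c * x⁻¹) := by rw [hcom a ha c hc]
      _ = a * a * (x * (c * c) * x⁻¹) := by group
      _ = 1 := by rw [h.nb.sq a (hA.le ha), h.nb.sq c (hA.le hc)]; group
  have hKcard : Nat.card A * Nat.card A = Nat.card K := by
    rw [← Nat.card_prod]
    refine Nat.card_congr (Equiv.ofBijective
      (fun p : A × A => (⟨p.1 * (x * p.2 * x⁻¹), p.1, p.1.2, p.2, p.2.2, rfl⟩ : K)) ⟨?_, ?_⟩)
    · rintro ⟨⟨a, ha⟩, c, hc⟩ ⟨⟨a', ha'⟩, c', hc'⟩ h4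
      have h5 : a * (x * c * x⁻¹) = a' * (x * c' * x⁻¹) := congrArg Subtype.val h4
      have h6 : a'⁻¹ * a = x * (c' * c⁻¹) * x⁻¹ := by
        have h7 : a'⁻¹ * a = a'⁻¹ * (a * (x * c * x⁻¹)) * (x * c * x⁻¹)⁻¹ := by group
        rw [h7, h5]
        group
      have h7 := hti _ (mul_mem (inv_mem ha') ha) _ (mul_mem hc' (inv_mem hc)) h6
      have h8 : c' = c := by rwa [mul_inv_eq_one] at h7
      subst h8
      rw [mul_inv_cancel, mul_one, mul_inv_cancel] at h6
      have h9 : a' = a := inv_mul_eq_one.1 h6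
      subst h9
      rfl
    · rintro ⟨_, a, ha, c, hc, rfl⟩
      exact ⟨(⟨a, ha⟩, ⟨c, hc⟩), rfl⟩
  have hKne : K ≠ ⊥ := by
    intro h0
    have h4 : a ∈ K := ⟨a, haA, 1, one_mem A, by group⟩
    rw [h0, mem_bot] at h4
    exact ha1 h4
  have hoff := h.noff K hKne hKc hK2
  have hElK : Nat.card {u : V // El u} ≤ Nat.card {u : V // Fx K u} := by
    refine Nat.card_le_card_of_injective (fun u : {u : V // El u} => (⟨u, ?_⟩ : {u : V // Fx K u})) ?_
    · rintro _ ⟨a, ha, c, hc, rfl⟩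
      rw [mul_smul, hXf c hc _ u.2, hAf a ha _ u.2]
    · intro u u' h4
      exact Subtype.ext (congrArg (fun p : {u : V // Fx K u} => (p : V)) h4)
  obtain ⟨E, hE', hEc⟩ := h.card_VH hv (inf_le_left : B ⊓ KL L φ ≤ B)
  have hEE : Nat.card {u : V // u ∈ E ∧ dua x φ u = 0} ≤ Nat.card {u : V // El u} := by
    refine Nat.card_le_card_of_injective (fun u : {u : V // u ∈ E ∧ dua x φ u = 0} =>
      (⟨u, ?_⟩ : {u : V // El u})) ?_
    · obtain ⟨u, hu, hux⟩ := u
      obtain ⟨b, hb, h4⟩ := (hE' u).1 hu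
      have hu0 : φ u = 0 := by
        have h5 := h.phi_of_fx h4
        rwa [map_add, h.nb.cm_mem hb.1, zero_add] at h5
      intro y hy
      change dua y φ u = 0
      by_cases hney : dua y φ = φ
      · rw [hney, hu0]
      · obtain ⟨c, hc, h5⟩ := htr hy hney
        rw [h5, dua_mul, h.dua_b hc, hux, zero_add, ← h.cm_cm_of_fx hc h4,
          cm_comm (h.nb.comm c hc b hb.1), cm_def, map_add,
          stabF_apply (mem_stabF.2 (hb.2 x hx)), add_self]
    · intro u u' h4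
      exact Subtype.ext (congrArg (fun p : {u : V // El u} => (p : V)) h4)
  have hhalf := card_half E (dua x φ)
  have hV := h.card_V
  rw [← hA.card] at hV
  -- `4 ≤ |A|`
  have h4A : 4 * Nat.card ((B ⊓ KL L φ : Subgroup Y)) ≤ Nat.card B := by
    let B₁ : Subgroup Y :=
      { carrier := {b | b ∈ B ∧ (cm a (cm b v) = 0 ∨ cm a (cm b v) = cm a e₁)}
        one_mem' := ⟨one_mem B, Or.inl (by rw [cm_one, cm_zero])⟩
        mul_mem' := by
          rintro b c ⟨hb, hb'⟩ ⟨hc, hc'⟩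
          refine ⟨mul_mem hb hc, ?_⟩
          rw [hmul b hb c hc]
          rcases hb' with h4 | h4 <;> rcases hc' with h5 | h5 <;> rw [h4, h5]
          · left; rw [add_zero]
          · right; rw [zero_add]
          · right; rw [add_zero]
          · left; rw [add_self]
        inv_mem' := by
          rintro b ⟨hb, hb'⟩
          rw [h.inv_B hb]
          exact ⟨hb, hb'⟩ }
    have h4 : 2 * Nat.card ((B ⊓ KL L φ : Subgroup Y)) ≤ Nat.card B₁ :=
      card_two_le (fun b hb => ⟨hb.1, Or.inl ((hk0 b hb.1).1 hb.2)⟩) (k := b₁) ⟨hb₁, Or.inr k1⟩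
        (fun h5 => n1 h5.2)
    have h5 : 2 * Nat.card B₁ ≤ Nat.card B :=
      card_two_le (fun b hb => hb.1) (k := b₂) hb₂ (fun h6 => by
        rcases h6.2 with h7 | h7
        · exact g2 (by rw [← k2, h7])
        · exact g3 (by rw [← k2, h7]))
    omega
  have hpos : 0 < Nat.card ((B ⊓ KL L φ : Subgroup Y)) := Nat.card_pos
  have h4A' : 4 ≤ Nat.card A := by
    rw [← hA.card] at h4A
    exact le_of_mul_le_mul_right h4A hpos
  -- final count
  have hf1 : Nat.card A * Nat.card A * Nat.card {u : V // El u} < Nat.card V := by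
    rw [hKcard]
    exact lt_of_le_of_lt (Nat.mul_le_mul_left _ hElK) hoff
  have hf2 : Nat.card V ≤ 4 * Nat.card A * Nat.card {u : V // El u} := by
    rw [hV]
    calc 2 * (Nat.card A * Nat.card ((B ⊓ KL L φ : Subgroup Y)) * Nat.card {d : V // Fx B d})
        = 2 * Nat.card A * Nat.card E := by rw [hEc]; ring
      _ ≤ 2 * Nat.card A * (2 * Nat.card {u : V // u ∈ E ∧ dua x φ u = 0}) := Nat.mul_le_mul_left _ hhalf
      _ ≤ 2 * Nat.card A * (2 * Nat.card {u : V // El u}) :=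
          Nat.mul_le_mul_left _ (Nat.mul_le_mul_left _ hEE)
      _ = 4 * Nat.card A * Nat.card {u : V // El u} := by ring
  have hf3 : 4 * Nat.card A * Nat.card {u : V // El u} ≤ Nat.card A * Nat.card A * Nat.card {u : V // El u} :=
    Nat.mul_le_mul_right _ (Nat.mul_le_mul_right _ h4A')
  omega

end MP

end Cfsg.Agent.Omega.NearFF
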