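import Cfsg.Agent.Omega.NearFF.Three
import Cfsg.Agent.Omega.NO1.Two

/-!
# (BT), `|V/E| = 2`, on `Dat`: the case `F₀(z) = ⟨z⟩` (project OMEGA, leaf N1)

* `Dat.card_orbit` : `F₀(z) = ⟨z⟩` ⟹ `|Ω| = 5`.
-/

set_option autoImplicit false
set_option linter.unusedSectionVars false

namespace Cfsg.Agent.Omega.NearFF

open Subgroup MulAction Cfsg.Agent.Omega.Transv

variable {Y : Type*} [Group Y] [Finite Y] {V : Type*} [AddCommGroup V] [Finite V] [Module (ZMod 2) V]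
  [DistribMulAction Y V] {T : Sylow 2 Y} {M : Subgroup Y} {z : V} {f : V → Du V} {Q : V → Subgroup Y}
  {BB : V → Set (Subgroup Y)}

/-- **`F₀(z) = ⟨z⟩` ⟹ `|Ω| = 5`** (#14271, #13823 (c), #13091) -/
theorem Dat.card_orbit (h : Dat T M z f Q BB) (hF : ∀ v : V, (∀ B ∈ BB z, Fx B v) → v = 0 ∨ v = z) :
    Nat.card (orbit Y z) = 5 := by
  obtain ⟨w, hw⟩ := h.five hF
  rw [← hw.range]
  have h1 := Nat.card_congr (Equiv.ofInjective w hw.inj)
  rw [← h1, Nat.card_fin]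

end Cfsg.Agent.Omega.NearFF
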