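import Cfsg.Agent.Omega.NearFF.Block

/-!
# THEOREM BT2 (helper318, bb 13091): `T` fixes a line on `z`
-/

set_option autoImplicit false
set_option linter.unusedSectionVars false

namespace Cfsg.Agent.Omega.NearFF

open Subgroup Transv

variable {Y : Type*} [Group Y] {V : Type*} [AddCommGroup V] [Module (ZMod 2) V] [DistribMulAction Y V]

/-- a finite set with an involution fixing exactly one element has odd order -/
theorem odd_of {α : Type*} [Finite α] {S : Set α} {w : α} (hw : w ∈ S) (g : α → α)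
    (hg : ∀ u ∈ S, u ≠ w → g u ∈ S ∧ g u ≠ w ∧ g u ≠ u ∧ g (g u) = u) : ¬ 2 ∣ Nat.card S := by
  classical
  have := Fintype.ofFinite α
  have h1 : ∑ u ∈ S.toFinset.erase w, (1 : ZMod 2) = 0 := by
    refine Finset.sum_involution (fun u _ => g u) ?_ ?_ ?_ ?_
    · intro u hu
      exact one_add_one
    · intro u hu _
      rw [Finset.mem_erase, Set.mem_toFinset] at hu
      exact (hg u hu.2 hu.1).2.2.1
    · intro u hu
      rw [Finset.mem_erase, Set.mem_toFinset] at hu ⊢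
      exact ⟨(hg u hu.2 hu.1).2.1, (hg u hu.2 hu.1).1⟩
    · intro u hu
      rw [Finset.mem_erase, Set.mem_toFinset] at hu
      exact (hg u hu.2 hu.1).2.2.2
  rw [Finset.sum_const, nsmul_eq_mul, mul_one, ZMod.natCast_eq_zero_iff] at h1
  have h2 := Finset.card_erase_add_one (Set.mem_toFinset.mpr hw)
  rw [Nat.card_eq_fintype_card, ← Set.toFinset_card]
  omega

namespace Geo

variable {T : Sylow 2 Y} {U : Subgroup Y} {z : V} {Om : Set V} {f : V → Du V}

theorem card_K (h : Geo Y V T U z Om f) {x : V} (hx : x ∈ Om) :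
    Nat.card (KK Y x (f x)) = Nat.card (KK Y z (f z)) := by
  obtain ⟨g, rfl⟩ := h.trans x hx
  rw [h.f_smul h.zO, card_KK_conj]

/-- (A3) -/
theorem exists_line [Finite Y] [Finite V] (h : Geo Y V T U z Om f) (h4 : 4 < Nat.card (KK Y z (f z))) {w0 : V}
    (hw0 : w0 ∈ Om) (hzw : f z w0 = 0) (hne : w0 ≠ z) :
    ∃ w ∈ Om, f z w = 0 ∧ w ≠ z ∧ ∀ t ∈ T, t • w = w ∨ t • w = w + z := by
  classical
  have hz := h.pnt z h.zO
  obtain ⟨y0, hy0, h1⟩ := h.exists_far h.zO
  have h1' : f y0 z = 1 := by rw [h.symm hy0 h.zO, h1]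
  let S : Set V := {u | u ∈ Om ∧ f z u = 0 ∧ f y0 u = 0}
  have hSz : ∀ u ∈ S, u ≠ z := by
    rintro u ⟨-, -, h2⟩ h3
    rw [h3, h1'] at h2
    exact one_ne h2
  obtain ⟨w, hwS⟩ : ∃ w, w ∈ S := by
    rcases zmod_cases (f y0 w0) with h2 | h2
    · exact ⟨w0, hw0, hzw, h2⟩
    · exact ⟨w0 + z, h.line h.zO hw0 hzw hne, by rw [map_add, hzw, hz.self, add_zero],
        by rw [map_add, h2, h1', one_add_one]⟩
  have hw := h.pnt w hwS.1
  have hwz : f w z = 0 := by rw [h.symm hwS.1 h.zO, hwS.2.1]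
  have hwy : f w y0 = 0 := by rw [h.symm hwS.1 hy0, hwS.2.2]
  -- an element of `K_w` fixing `z` and `y0`
  obtain ⟨a, ha, ha1, haz, hay⟩ : ∃ a ∈ KK Y w (f w), a ≠ 1 ∧ a • z = z ∧ a • y0 = y0 := by
    have := Fintype.ofFinite (KK Y w (f w))
    have h5 : Fintype.card (Bool × Bool) < Fintype.card (KK Y w (f w)) := by
      rw [← Nat.card_eq_fintype_card (α := KK Y w (f w)), h.card_K hwS.1]
      simpa using h4
    obtain ⟨b, b', h6, h7⟩ := Fintype.exists_ne_map_eq_of_card_lt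
      (fun b : KK Y w (f w) => (decide ((b : Y) • z = z), decide ((b : Y) • y0 = y0))) h5
    have h8 := congrArg Prod.fst h7
    have h9 := congrArg Prod.snd h7
    simp only [decide_eq_decide] at h8 h9
    have key : ∀ e, f w e = 0 → ((b : Y) • e = e ↔ (b' : Y) • e = e) → ((b : Y)⁻¹ * b') • e = e := by
      intro e he h10
      rw [mul_smul, inv_smul_eq_iff]
      rcases b.2.2.2 e he with h11 | h11
      · rw [h11, h10.mp h11]
      · rcases b'.2.2.2 e he with h12 | h12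
        · rw [h12, h10.mpr h12]
        · rw [h11, h12]
    refine ⟨(b : Y)⁻¹ * b', mul_mem (inv_mem b.2) b'.2, ?_, key z hwz h8, key y0 hwy h9⟩
    intro h10
    exact h6 (Subtype.ext (inv_mul_eq_one.mp h10))
  have haa : a * a = 1 := hw.sq a ha
  have hodd : ¬ 2 ∣ Nat.card S := by
    refine odd_of hwS (fun u => if f w u = 0 then u + w else a • u) ?_
    rintro u hu hne
    by_cases h5 : f w u = 0
    · have h6 : f w (u + w) = 0 := by rw [map_add, h5, hw.self, add_zero]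
      simp only [if_pos h5, if_pos h6]
      refine ⟨⟨h.line hwS.1 hu.1 h5 hne, by rw [map_add, hu.2.1, hwS.2.1, add_zero],
        by rw [map_add, hu.2.2, hwS.2.2, add_zero]⟩, ?_, ?_, add_add_self _ _⟩
      · intro h7
        exact (h.pnt u hu.1).ne (add_eq_right.mp h7)
      · intro h7
        exact hw.ne (add_eq_left.mp h7)
    · have h5' := eq_one_of_ne h5
      have h6 : ¬ f w (a • u) = 0 := by rwa [ha.2.1]
      simp only [if_neg h5, if_neg h6]
      refine ⟨⟨h.smul a u hu.1, ?_, ?_⟩, ?_, ?_, ?_⟩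
      · rw [h.f_of_fix h.zO haz, hu.2.1]
      · rw [h.f_of_fix hy0 hay, hu.2.2]
      · intro h7
        rw [h7, hw.self] at h6
        exact h6 rfl
      · intro h7
        exact ha1 (h.free hwS.1 ha h5' h7)
      · rw [← mul_smul, haa, one_smul]
  -- the action of `T`
  have hstar : ∀ t ∈ T, ∀ u ∈ S, t • u + f y0 (t • u) • z ∈ S := by
    rintro t ht u hu
    have h5 : f z (t • u) = 0 := by rw [h.f_of_fix h.zO (h.z_fix t ht), hu.2.1]
    rcases zmod_cases (f y0 (t • u)) with h6 | h6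
    · rw [h6, zero_smul, add_zero]
      exact ⟨h.smul t u hu.1, h5, h6⟩
    · have h7 : t • u ≠ z := by
        intro h8
        apply hSz u hu
        rw [← inv_smul_smul t u, h8, inv_smul_eq_iff, h.z_fix t ht]
      rw [h6, one_smul]
      exact ⟨h.line h.zO (h.smul t u hu.1) h5 h7, by rw [map_add, h5, hz.self, add_zero],
        by rw [map_add, h6, h1', one_add_one]⟩
  let act : MulAction T S :=
    { smul := fun t u => ⟨(t : Y) • (u : V) + f y0 ((t : Y) • (u : V)) • z, hstar t t.2 u u.2⟩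
      one_smul := by
        rintro ⟨u, hu⟩
        apply Subtype.ext
        change (1 : Y) • u + f y0 ((1 : Y) • u) • z = u
        rw [one_smul, hu.2.2, zero_smul, add_zero]
      mul_smul := by
        rintro ⟨t, ht⟩ ⟨s, hs⟩ ⟨u, hu⟩
        apply Subtype.ext
        change (t * s) • u + f y0 ((t * s) • u) • z = t • (s • u + f y0 (s • u) • z) +
          f y0 (t • (s • u + f y0 (s • u) • z)) • z
        rw [mul_smul, smul_add, smul_zmod, h.z_fix t ht, map_add, map_smul (f := f y0) (c := f y0 (s • u)), h1',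
          smul_eq_mul, mul_one, add_smul]
        have h5 : t • s • u + f y0 (s • u) • z + (f y0 (t • s • u) • z + f y0 (s • u) • z) =
          t • s • u + f y0 (t • s • u) • z + (f y0 (s • u) • z + f y0 (s • u) • z) := by abel
        rw [h5, add_self, add_zero] }
  have : Fact (Nat.Prime 2) := ⟨Nat.prime_two⟩
  obtain ⟨⟨v, hv⟩, hfix⟩ := T.isPGroup'.nonempty_fixed_point_of_prime_not_dvd_card S hodd
  refine ⟨v, hv.1, hv.2.1, hSz v hv, fun t ht => ?_⟩
  have h5 : t • v + f y0 (t • v) • z = v := congrArg Subtype.val (hfix ⟨t, ht⟩)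
  rcases zmod_cases (f y0 (t • v)) with h6 | h6
  · rw [h6, zero_smul, add_zero] at h5
    exact Or.inl h5
  · right
    rw [h6, one_smul] at h5
    conv_rhs => rw [← h5, add_add_self]

/-- two points of `E_z` which are not perpendicular -/
theorem exists_pair [Finite Y] [Finite V] (h : Geo Y V T U z Om f) {y0 : V} (hy0 : y0 ∈ Om) (h1 : f z y0 = 1)
    {w0 : V} (hw0 : w0 ∈ Om) (hzw : f z w0 = 0) (hne : w0 ≠ z) :
    ∃ w1 ∈ Om, ∃ w2 ∈ Om, f z w1 = 0 ∧ f z w2 = 0 ∧ f y0 w1 = 0 ∧ f y0 w2 = 0 ∧ f w1 w2 = 1 := by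
  have hz := h.pnt z h.zO
  have h1' : f y0 z = 1 := by rw [h.symm hy0 h.zO, h1]
  -- first two points of `E_z`
  have hA : ∃ w1 ∈ Om, ∃ w2 ∈ Om, f z w1 = 0 ∧ f z w2 = 0 ∧ f w1 w2 = 1 := by
    by_contra hcon
    push Not at hcon
    have hB : ∀ x ∈ Om, ∀ w1 ∈ Om, ∀ w2 ∈ Om, f x w1 = 0 → f x w2 = 0 → f w1 w2 = 0 := by
      intro x hx w1 hw1 w2 hw2 h2 h3
      obtain ⟨g, rfl⟩ := h.trans x hx
      have h4 := h.conj g z h.zO (g⁻¹ • w1)
      rw [smul_inv_smul, h2] at h4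
      have h5 := h.conj g z h.zO (g⁻¹ • w2)
      rw [smul_inv_smul, h3] at h5
      have h6 := hcon _ (h.smul g⁻¹ w1 hw1) _ (h.smul g⁻¹ w2 hw2) h4.symm h5.symm
      rw [h.conj g⁻¹ w1 hw1] at h6
      exact eq_zero_of_ne h6
    -- a point of `E_z` perpendicular to `y0`
    have hC : ∃ w ∈ Om, f z w = 0 ∧ f y0 w = 0 := by
      rcases zmod_cases (f y0 w0) with h2 | h2
      · exact ⟨w0, hw0, hzw, h2⟩
      · exact ⟨w0 + z, h.line h.zO hw0 hzw hne, by rw [map_add, hzw, hz.self, add_zero],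
          by rw [map_add, h2, h1', one_add_one]⟩
    obtain ⟨w, hw, h2, h3⟩ := hC
    have h4 := hB w hw z h.zO y0 hy0 (by rw [h.symm hw h.zO, h2]) (by rw [h.symm hw hy0, h3])
    rw [h1] at h4
    exact one_ne h4
  obtain ⟨w1, hw1, w2, hw2, h2, h3, h4⟩ := hA
  have hne1 : w1 ≠ z := by
    intro h5
    rw [h5, h3] at h4
    exact one_ne h4.symm
  have hne2 : w2 ≠ z := by
    intro h5
    rw [h5, h.symm hw1 h.zO, h2] at h4
    exact one_ne h4.symm
  -- move `w1` into `E_y0`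
  have hD : ∀ w1 ∈ Om, f z w1 = 0 → w1 ≠ z → ∃ w1' ∈ Om, f z w1' = 0 ∧ f y0 w1' = 0 ∧
      ∀ w ∈ Om, f z w = 0 → f w w1' = f w w1 := by
    intro w1 hw1 h2 hne1
    rcases zmod_cases (f y0 w1) with h5 | h5
    · exact ⟨w1, hw1, h2, h5, fun w _ _ => rfl⟩
    · refine ⟨w1 + z, h.line h.zO hw1 h2 hne1, by rw [map_add, h2, hz.self, add_zero],
        by rw [map_add, h5, h1', one_add_one], fun w hw hzw => ?_⟩
      rw [map_add, h.symm hw h.zO, hzw, add_zero]
  obtain ⟨w1', hw1', h5, h6, h7⟩ := hD w1 hw1 h2 hne1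
  obtain ⟨w2', hw2', h8, h9, h10⟩ := hD w2 hw2 h3 hne2
  refine ⟨w1', hw1', w2', hw2', h5, h8, h6, h9, ?_⟩
  rw [h10 w1' hw1' h5, h.symm hw1' hw2, h7 w2 hw2 h3, h.symm hw2 hw1, h4]

end Geo

end Cfsg.Agent.Omega.NearFF
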