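import Cfsg.Agent.Omega.NearFF.Basic

/-!
# THEOREM BT2 (helper318, bb 13091): hypotheses and the geometry of the points

The points are the conjugates of `z`; the point `x` has a hyperplane `ker (h.f x)` and a group `h.K x`.
-/

set_option autoImplicit false

namespace Cfsg.Agent.Omega.NearFF

open Subgroup Transv

variable {Y : Type*} [Group Y] {V : Type*} [AddCommGroup V] [Module (ZMod 2) V] [DistribMulAction Y V]

/-- the hypotheses of THEOREM BT2 -/
structure Hyp (Y V : Type*) [Group Y] [AddCommGroup V] [Module (ZMod 2) V] [DistribMulAction Y V]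
    (T : Sylow 2 Y) (U : Subgroup Y) (z : V) (φ : Du V) (B : Subgroup Y) : Prop where
  faith : Faith Y V
  le : (T : Subgroup Y) ≤ U
  ne : U ≠ ⊤
  max : ∀ X : Subgroup Y, (T : Subgroup Y) ≤ X → X ≤ U ∨ X = ⊤
  z_ne : z ≠ 0
  z_fix : ∀ t ∈ T, t • z = z
  z_uniq : ∀ v : V, (∀ t ∈ T, t • v = v) → v = 0 ∨ v = z
  span : cen Y z = ⊤
  phi_ne : φ ≠ 0
  phi_z : φ z = 0
  inv : ∀ g : Y, g • z = z → ∀ v, φ (g • v) = φ v
  B_comm : ∀ a ∈ B, ∀ b ∈ B, a * b = b * a
  B_sq : ∀ b ∈ B, b * b = 1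
  B_phi : ∀ b ∈ B, ∀ v, φ (b • v) = φ v
  B_E : ∀ b ∈ B, ∀ e, φ e = 0 → b • e = e ∨ b • e = e + z
  B_card : 4 * Nat.card B = Nat.card V
  /-- no transvections -/
  nt : NT Y V
  /-- no four-group with `|V : C_V(A)| = 4` -/
  nf : ∀ A : Subgroup Y, Nat.card A = 4 → (∀ a ∈ A, a * a = 1) → Nat.card V ≠ 4 * Nat.card (fixS V A)

/-- conjugate groups -/
theorem conj_mem_KK {x : V} {χ : Du V} {b : Y} (hb : b ∈ KK Y x χ) (g : Y) :
    g * b * g⁻¹ ∈ KK Y (g • x) (dua g χ) := by
  obtain ⟨h1, h2, h3⟩ := hb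
  refine ⟨by rw [mul_smul, mul_smul, inv_smul_smul, h1], fun v => ?_, fun e he => ?_⟩
  · rw [dua_apply, dua_apply, mul_smul, mul_smul, inv_smul_smul, h2]
  · rw [dua_apply] at he
    rw [mul_smul, mul_smul]
    rcases h3 _ he with h4 | h4
    · rw [h4, smul_inv_smul]
      exact Or.inl rfl
    · rw [h4, smul_add, smul_inv_smul]
      exact Or.inr rfl

theorem dua_inv (g : Y) (χ : Du V) : dua g⁻¹ (dua g χ) = χ := by
  ext v
  rw [dua_apply, dua_apply, inv_inv, inv_smul_smul]

theorem mem_KK_conj {x : V} {χ : Du V} {b : Y} (g : Y) :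
    g * b * g⁻¹ ∈ KK Y (g • x) (dua g χ) ↔ b ∈ KK Y x χ := by
  refine ⟨fun h => ?_, fun h => conj_mem_KK h g⟩
  have h1 := conj_mem_KK h g⁻¹
  rw [inv_smul_smul, dua_inv] at h1
  have h2 : g⁻¹ * (g * b * g⁻¹) * g⁻¹⁻¹ = b := by group
  rwa [h2] at h1

theorem card_KK_conj (x : V) (χ : Du V) (g : Y) :
    Nat.card (KK Y (g • x) (dua g χ)) = Nat.card (KK Y x χ) := by
  refine (Nat.card_congr ?_).symm
  refine (MulAut.conj g).toEquiv.subtypeEquiv fun b => ?_
  exact (mem_KK_conj g).symm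

theorem Pnt.conj {x : V} {χ : Du V} (h : Pnt Y x χ) (g : Y) : Pnt Y (g • x) (dua g χ) where
  ne := by
    intro h0
    apply h.ne
    rw [← inv_smul_smul g x, h0, smul_zero]
  nz := by
    obtain ⟨v, hv⟩ := exists_one h.nz
    intro h0
    have h1 : dua g χ (g • v) = 0 := by rw [h0]; rfl
    rw [dua_apply, inv_smul_smul, hv] at h1
    exact one_ne h1
  self := by rw [dua_apply, inv_smul_smul, h.self]
  comm := by
    intro a ha b hb
    have ha' := conj_mem_KK ha g⁻¹
    have hb' := conj_mem_KK hb g⁻¹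
    rw [inv_smul_smul, dua_inv] at ha' hb'
    have h1 := h.comm _ ha' _ hb'
    have h2 : a * b = g * (g⁻¹ * a * g⁻¹⁻¹ * (g⁻¹ * b * g⁻¹⁻¹)) * g⁻¹ := by group
    rw [h2, h1]
    group
  sq := by
    intro b hb
    have hb' := conj_mem_KK hb g⁻¹
    rw [inv_smul_smul, dua_inv] at hb'
    have h1 := h.sq _ hb'
    have h2 : b * b = g * (g⁻¹ * b * g⁻¹⁻¹ * (g⁻¹ * b * g⁻¹⁻¹)) * g⁻¹ := by group
    rw [h2, h1]
    group
  card := by
    rw [card_KK_conj]
    exact h.card

open Classical in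
/-- the functional of a point -/
noncomputable def fu (Y : Type*) {V : Type*} [Group Y] [AddCommGroup V] [Module (ZMod 2) V] [DistribMulAction Y V]
    (z : V) (φ : Du V) (x : V) : Du V :=
  if h : ∃ g : Y, g • z = x then dua h.choose φ else 0

namespace Hyp

variable {T : Sylow 2 Y} {U : Subgroup Y} {z : V} {φ : Du V} {B : Subgroup Y}

theorem B_z (h : Hyp Y V T U z φ B) {b : Y} (hb : b ∈ B) : b • z = z := by
  rcases h.B_E b hb z h.phi_z with h1 | h1
  · exact h1
  · rw [add_self] at h1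
    exfalso
    apply h.z_ne
    rw [← inv_smul_smul b z, h1, smul_zero]

theorem B_le (h : Hyp Y V T U z φ B) : B ≤ KK Y z φ := fun b hb => ⟨h.B_z hb, h.B_phi b hb, h.B_E b hb⟩

/-- `B` is the whole group of `z` -/
theorem eq_B [Finite Y] [Finite V] (h : Hyp Y V T U z φ B) : KK Y z φ = B := by
  symm
  refine Subgroup.eq_of_le_of_card_ge h.B_le ?_
  -- `|K| ≤ |E / z|`
  obtain ⟨v, hv⟩ := exists_one h.phi_ne
  let F : KK Y z φ × ZMod 2 → {u : V // φ u = 1} := fun p =>
    ⟨(p.1 : Y) • v + p.2 • z, by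
      rw [map_add, p.1.2.2.1, hv, map_smul (f := φ) (c := p.2), h.phi_z, smul_zero, add_zero]⟩
  have hF : Function.Injective F := by
    rintro ⟨⟨b, hb⟩, c⟩ ⟨⟨b', hb'⟩, c'⟩ h1
    have h1' : b • v + c • z = b' • v + c' • z := congrArg Subtype.val h1
    have h2 : b • v = b' • v + (c' + c) • z := by
      rw [add_smul, ← add_assoc, ← h1', add_add_self]
    have h3 : b = b' := by
      have hk : b'⁻¹ * b ∈ KK Y z φ := mul_mem (inv_mem hb') hb
      have h1 : (b'⁻¹ * b) • v = v + (c' + c) • z := by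
        rw [mul_smul, h2, smul_add, inv_smul_smul, smul_zmod, (inv_mem hb').1]
      have h2 : b'⁻¹ * b = 1 := by
        refine eq_one_of h.faith h.nt h.z_ne fun u => ?_
        rcases zmod_cases (φ u) with h3 | h3
        · exact hk.2.2 u h3
        · have h4 : φ (u + v) = 0 := by rw [map_add, h3, hv, one_add_one]
          have h5 : u = v + (u + v) := by rw [add_comm v, add_add_self]
          have h6 : (b'⁻¹ * b) • u = v + (c' + c) • z + (b'⁻¹ * b) • (u + v) := by
            rw [← h1, ← smul_add, ← h5]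
          have h7 : v + (c' + c) • z + (u + v) = u + (c' + c) • z := by
            rw [add_comm u v, Fr.cancel_mid, add_comm]
          rcases hk.2.2 _ h4 with h8 | h8
          · rw [h8, h7] at h6
            rcases zmod_cases (c' + c) with hc | hc
            · left
              rw [h6, hc, zero_smul, add_zero]
            · right
              rw [h6, hc, one_smul]
          · rw [h8, ← add_assoc, h7] at h6
            rcases zmod_cases (c' + c) with hc | hc
            · right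
              rw [h6, hc, zero_smul, add_zero]
            · left
              rw [h6, hc, one_smul, add_add_self]
      exact (inv_mul_eq_one.mp h2).symm
    subst h3
    have h4 : c • z = c' • z := add_left_cancel h1'
    have h5 : c = c' := by
      rcases zmod_cases c with hc | hc
      · rcases zmod_cases c' with hc' | hc'
        · rw [hc, hc']
        · rw [hc, hc', zero_smul, one_smul] at h4
          exact absurd h4.symm h.z_ne
      · rcases zmod_cases c' with hc' | hc'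
        · rw [hc, hc', zero_smul, one_smul] at h4
          exact absurd h4 h.z_ne
        · rw [hc, hc']
    rw [h5]
  have h1 := Nat.card_le_card_of_injective F hF
  rw [Nat.card_prod, Nat.card_zmod] at h1
  have h2 := card_hyper h.phi_ne
  have h3 := h.B_card
  omega

theorem pnt_z [Finite Y] [Finite V] (h : Hyp Y V T U z φ B) : Pnt Y z φ where
  ne := h.z_ne
  nz := h.phi_ne
  self := h.phi_z
  comm := by
    rw [h.eq_B]
    exact h.B_comm
  sq := by
    rw [h.eq_B]
    exact h.B_sq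
  card := by
    rw [h.eq_B]
    exact h.B_card

theorem dua_eq (h : Hyp Y V T U z φ B) {g k : Y} (hgk : g • z = k • z) : dua g φ = dua k φ := by
  ext v
  rw [dua_apply, dua_apply]
  have h1 : (g⁻¹ * k) • z = z := by rw [mul_smul, ← hgk, inv_smul_smul]
  have h2 := h.inv _ h1 (k⁻¹ • v)
  rw [mul_smul, smul_inv_smul] at h2
  exact h2

theorem fu_eq (h : Hyp Y V T U z φ B) (g : Y) : fu Y z φ (g • z) = dua g φ := by
  have h1 : ∃ k : Y, k • z = g • z := ⟨g, rfl⟩
  rw [fu, dif_pos h1]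
  exact h.dua_eq h1.choose_spec

theorem pnt [Finite Y] [Finite V] (h : Hyp Y V T U z φ B) {x : V} (hx : x ∈ MulAction.orbit Y z) :
    Pnt Y x (fu Y z φ x) := by
  obtain ⟨g, rfl⟩ := hx
  change Pnt Y (g • z) (fu Y z φ (g • z))
  rw [h.fu_eq]
  exact h.pnt_z.conj g

theorem fu_conj (h : Hyp Y V T U z φ B) {x : V} (hx : x ∈ MulAction.orbit Y z) (g : Y) (v : V) :
    fu Y z φ (g • x) (g • v) = fu Y z φ x v := by
  obtain ⟨k, rfl⟩ := hx
  change fu Y z φ (g • k • z) (g • v) = fu Y z φ (k • z) v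
  rw [← mul_smul, h.fu_eq, h.fu_eq, dua_apply, dua_apply, mul_inv_rev, mul_smul, inv_smul_smul]

theorem fu_zero {x : V} (hx : x ∉ MulAction.orbit Y z) : fu Y z φ x = 0 := by
  rw [fu, dif_neg]
  rintro ⟨g, hg⟩
  exact hx ⟨g, hg⟩

end Hyp

/-- the geometry of the points -/
structure Geo (Y V : Type*) [Group Y] [AddCommGroup V] [Module (ZMod 2) V] [DistribMulAction Y V]
    (T : Sylow 2 Y) (U : Subgroup Y) (z : V) (Om : Set V) (f : V → Du V) : Prop where
  faith : Faith Y V
  nt : NT Y V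
  nf : ∀ A : Subgroup Y, Nat.card A = 4 → (∀ a ∈ A, a * a = 1) → Nat.card V ≠ 4 * Nat.card (fixS V A)
  le : (T : Subgroup Y) ≤ U
  ne : U ≠ ⊤
  max : ∀ X : Subgroup Y, (T : Subgroup Y) ≤ X → X ≤ U ∨ X = ⊤
  z_fix : ∀ t ∈ T, t • z = z
  z_uniq : ∀ v : V, (∀ t ∈ T, t • v = v) → v = 0 ∨ v = z
  zO : z ∈ Om
  trans : ∀ x ∈ Om, ∃ g : Y, g • z = x
  smul : ∀ (g : Y), ∀ x ∈ Om, g • x ∈ Om
  span : ∀ W : Submodule (ZMod 2) V, (∀ x ∈ Om, x ∈ W) → W = ⊤
  pnt : ∀ x ∈ Om, Pnt Y x (f x)
  conj : ∀ (g : Y), ∀ x ∈ Om, ∀ v, f (g • x) (g • v) = f x v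
  zero : ∀ x ∉ Om, f x = 0

theorem Hyp.geo [Finite Y] [Finite V] {T : Sylow 2 Y} {U : Subgroup Y} {z : V} {φ : Du V} {B : Subgroup Y}
    (h : Hyp Y V T U z φ B) : Geo Y V T U z (MulAction.orbit Y z) (fu Y z φ) where
  faith := h.faith
  nt := h.nt
  nf := h.nf
  le := h.le
  ne := h.ne
  max := h.max
  z_fix := h.z_fix
  z_uniq := h.z_uniq
  zO := MulAction.mem_orbit_self z
  trans x hx := hx
  smul g x hx := by
    obtain ⟨k, rfl⟩ := hx
    exact ⟨g * k, mul_smul g k z⟩
  span W hW := by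
    rw [eq_top_iff, ← h.span, cen, Submodule.span_le]
    rintro _ ⟨g, rfl⟩
    exact hW _ ⟨g, rfl⟩
  pnt x hx := h.pnt hx
  conj g x hx v := h.fu_conj hx g v
  zero x hx := Hyp.fu_zero hx

namespace Geo

variable {T : Sylow 2 Y} {U : Subgroup Y} {z : V} {Om : Set V} {f : V → Du V}

theorem free (h : Geo Y V T U z Om f) {x : V} (hx : x ∈ Om) {b : Y} (hb : b ∈ KK Y x (f x)) {v : V}
    (hv : f x v = 1) (he : b • v = v) : b = 1 := (h.pnt x hx).free h.faith h.nt hb hv he

theorem hit [Finite Y] [Finite V] (h : Geo Y V T U z Om f) {x : V} (hx : x ∈ Om) {v u : V} (hv : f x v = 1)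
    (hu : f x u = 1) : ∃ b ∈ KK Y x (f x), ∃ c : ZMod 2, u = b • v + c • x :=
  (h.pnt x hx).hit h.faith h.nt hv hu

theorem move [Finite Y] [Finite V] (h : Geo Y V T U z Om f) {x : V} (hx : x ∈ Om) {e : V} (he : f x e = 0)
    (he0 : e ≠ 0) (hex : e ≠ x) : ∃ b ∈ KK Y x (f x), b • e = e + x :=
  (h.pnt x hx).move h.faith h.nt he he0 hex

theorem f_smul (h : Geo Y V T U z Om f) {x : V} (hx : x ∈ Om) (g : Y) : f (g • x) = dua g (f x) := by
  ext v
  rw [dua_apply, ← h.conj g x hx (g⁻¹ • v), smul_inv_smul]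

theorem conj_mem (h : Geo Y V T U z Om f) {x : V} (hx : x ∈ Om) {b : Y} (hb : b ∈ KK Y x (f x)) (g : Y) :
    g * b * g⁻¹ ∈ KK Y (g • x) (f (g • x)) := by
  rw [h.f_smul hx]
  exact conj_mem_KK hb g

/-- an element fixing `x` preserves the functional of `x` -/
theorem f_of_fix (h : Geo Y V T U z Om f) {x : V} (hx : x ∈ Om) {g : Y} (hg : g • x = x) (v : V) :
    f x (g • v) = f x v := by
  have h1 := h.conj g x hx v
  rwa [hg] at h1

/-- (3) symmetry -/
theorem symm0 [Finite Y] [Finite V] (h : Geo Y V T U z Om f) {x y : V} (hx : x ∈ Om) (hy : y ∈ Om)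
    (hxy : f x y = 0) : f y x = 0 := by
  refine eq_zero_of_ne fun h1 => ?_
  have hp := h.pnt x hx
  obtain ⟨v, hv⟩ := exists_one hp.nz
  obtain ⟨b, hb, c, h2⟩ := h.hit hx hv (u := v + y) (by rw [map_add, hv, hxy, add_zero])
  have h3 := eq_add_smul h2
  -- `b` fixes `y`
  have h4 : b • y = y := by
    have h5 : b • b • v = v := by rw [← mul_smul, hp.sq b hb, one_smul]
    rw [h3, smul_add, smul_add, h3, smul_zmod, hb.1] at h5
    have h6 : v + y + c • x + b • y + c • x = v + (y + b • y) := by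
      have h7 : v + y + c • x + b • y + c • x = v + (y + b • y) + (c • x + c • x) := by abel
      rw [h7, add_self, add_zero]
    rw [h6] at h5
    have h7 : y + b • y = 0 := add_eq_left.mp h5
    exact (eq_of_add h7).symm
  have hc : c = 0 := by
    have h5 := h.f_of_fix hy h4 v
    rw [h3, map_add, map_add, map_smul, (h.pnt y hy).self, h1, smul_eq_mul, mul_one, add_zero] at h5
    exact add_eq_left.mp h5
  rw [hc, zero_smul, add_zero] at h3
  have h6 : ∀ e, f x e = 0 → b • e = e := by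
    intro e he
    rcases hb.2.2 e he with h7 | h7
    · exact h7
    · exfalso
      have h8 := h.f_of_fix hy h4 e
      rw [h7, map_add, h1] at h8
      exact one_ne (add_eq_left.mp h8)
  refine h.nt b y (f x) ⟨(h.pnt y hy).ne, hp.nz, fun u => ?_⟩
  rcases zmod_cases (f x u) with h7 | h7
  · rw [h6 u h7, h7, zero_smul, add_zero]
  · have h8 : f x (u + v) = 0 := by rw [map_add, h7, hv, one_add_one]
    have h9 : u = v + (u + v) := by rw [add_comm v, add_add_self]
    have h10 : b • u = b • v + (u + v) := by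
      rw [← h6 _ h8, ← smul_add, ← h9]
    rw [h10, h3, h7, one_smul]
    have h11 : v + y + (u + v) = u + y + (v + v) := by abel
    rw [h11, add_self, add_zero]

theorem symm [Finite Y] [Finite V] (h : Geo Y V T U z Om f) {x y : V} (hx : x ∈ Om) (hy : y ∈ Om) :
    f x y = f y x := by
  rcases zmod_cases (f x y) with h1 | h1
  · rw [h1, h.symm0 hx hy h1]
  · rcases zmod_cases (f y x) with h2 | h2
    · rw [h.symm0 hy hx h2] at h1
      exact absurd h1 zero_ne_one'
    · rw [h1, h2]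

/-- the third point of a line -/
theorem line [Finite Y] [Finite V] (h : Geo Y V T U z Om f) {x y : V} (hx : x ∈ Om) (hy : y ∈ Om)
    (hxy : f x y = 0) (hne : y ≠ x) : y + x ∈ Om := by
  obtain ⟨b, -, h1⟩ := h.move hx hxy (h.pnt y hy).ne hne
  rw [← h1]
  exact h.smul b y hy

/-- there is a point not in the hyperplane of `x` -/
theorem exists_far (h : Geo Y V T U z Om f) {x : V} (hx : x ∈ Om) : ∃ y ∈ Om, f x y = 1 := by
  by_contra hcon
  push Not at hcon
  have h1 := h.span (LinearMap.ker (f x)) fun y hy => eq_zero_of_ne (hcon y hy)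
  exact (h.pnt x hx).nz (LinearMap.ker_eq_top.mp h1)

end Geo

end Cfsg.Agent.Omega.NearFF
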