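import Cfsg.Agent.Omega.NearFF.Dat
import Cfsg.Agent.Omega.NearFF.Geo

/-!
# (BT), `|V/E| = 2`: the symplectic datum (hypotheses of THEOREM BT4, #14336; project OMEGA, leaf N1)

`β` is a `Y`-invariant nondegenerate symplectic form, `E_x = x^⊥`,
`KK Y x (β x) = R_x = {a ∈ Y_x : [x^⊥, a] ≤ ⟨x⟩}`, `|R_x| ≥ 4`, `C_V(R_x) ∩ Ω = {x}`.
-/

set_option autoImplicit false
set_option linter.unusedSectionVars false

namespace Cfsg.Agent.Omega.NearFF

open Subgroup Cfsg.Agent.Omega.Transv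

variable {Y : Type*} [Group Y] {V : Type*} [AddCommGroup V] [Module (ZMod 2) V] [DistribMulAction Y V]

theorem Fx.add {B : Subgroup Y} {v w : V} (hv : Fx B v) (hw : Fx B w) : Fx B (v + w) := by
  intro b hb
  rw [smul_add, hv b hb, hw b hb]

theorem Fx.zero (B : Subgroup Y) : Fx B (0 : V) := fun b _ => smul_zero b

theorem Fx.of_add {B : Subgroup Y} {v w : V} (h : Fx B (v + w)) (hw : Fx B w) : Fx B v := by
  have h1 := h.add hw
  rwa [add_add_self] at h1

theorem cm_def (b : Y) (v : V) : cm b v = b • v + v := rfl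

theorem cm_add (b : Y) (v w : V) : cm b (v + w) = cm b v + cm b w := by
  rw [cm, cm, cm, smul_add]
  abel

theorem smul_eq_add_cm (b : Y) (v : V) : b • v = v + cm b v := by
  rw [cm, add_comm (b • v) v, ← add_assoc, add_self, zero_add]

theorem cm_eq_zero {b : Y} {v : V} : cm b v = 0 ↔ b • v = v := by
  constructor
  · exact eq_of_add
  · intro h
    rw [cm, h, add_self]

theorem cm_one (v : V) : cm (1 : Y) v = 0 := by
  rw [cm, one_smul, add_self]

theorem cm_zero (b : Y) : cm b (0 : V) = 0 := by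
  rw [cm, smul_zero, add_zero]

theorem smul_cm {a b : Y} (h : a * b = b * a) (v : V) : a • cm b v = cm b (a • v) := by
  rw [cm, cm, smul_add, smul_smul, smul_smul, h]

/-- `[v, b, a] = [v, a, b]` if `a`, `b` commute -/
theorem cm_comm {a b : Y} (h : a * b = b * a) (v : V) : cm a (cm b v) = cm b (cm a v) := by
  rw [cm_def a, smul_cm h, ← cm_add]
  rfl

/-- `[v, a b] = [v, a] + [v, b] + [v, b, a]` -/
theorem cm_mul (a b : Y) (v : V) : cm (a * b) v = cm a v + cm b v + cm a (cm b v) := by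
  rw [cm_def (a * b), mul_smul, smul_eq_add_cm b v, smul_add, smul_eq_add_cm a v,
    smul_eq_add_cm a (cm b v)]
  have : v + cm a v + (cm b v + cm a (cm b v)) + v = cm a v + cm b v + cm a (cm b v) + (v + v) := by
    abel
  rw [this, add_self, add_zero]

theorem smul_cm_conj (g b : Y) (v : V) : g • cm b v = cm (g * b * g⁻¹) (g • v) := by
  rw [cm, cm, smul_add, mul_smul, mul_smul, inv_smul_smul]

theorem mem_KK_iff {φ : Du V} {x : V} {a : Y} : a ∈ KK Y x φ ↔
    a • x = x ∧ (∀ v : V, φ (a • v) = φ v) ∧ ∀ e : V, φ e = 0 → cm a e = 0 ∨ cm a e = x := by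
  rw [mem_KK]
  refine and_congr_right fun _ => and_congr_right fun _ => forall_congr' fun e =>
    forall_congr' fun _ => or_congr cm_eq_zero.symm ?_
  rw [cm]
  constructor
  · intro h
    rw [h, add_comm e x, add_add_self]
  · intro h
    rw [← h, ← add_assoc, add_comm e, add_add_self]

/-- **The symplectic datum** (hypotheses of THEOREM BT4). -/
structure Sp (T : Sylow 2 Y) (M : Subgroup Y) (z : V) (β : V →ₗ[ZMod 2] Du V) : Prop where
  faith : Faith Y V
  le : (T : Subgroup Y) ≤ M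
  ne : M ≠ ⊤
  max : ∀ X : Subgroup Y, (T : Subgroup Y) ≤ X → X ≤ M ∨ X = ⊤
  z_ne : z ≠ 0
  z_fix : Fx (T : Subgroup Y) z
  fixT : ∀ v : V, Fx (T : Subgroup Y) v → v = 0 ∨ v = z
  span : Submodule.span (ZMod 2) (Set.range fun g : Y => g • z) = ⊤
  /-- no offender -/
  noff : ∀ A : Subgroup Y, A ≠ ⊥ → (∀ a ∈ A, ∀ b ∈ A, a * b = b * a) → (∀ a ∈ A, a * a = 1) →
    Nat.card A * Nat.card {v : V // Fx A v} < Nat.card V
  symm : ∀ v w : V, β v w = β w v
  alt : ∀ v : V, β v v = 0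
  nondeg : ∀ v : V, β v = 0 → v = 0
  inv : ∀ (g : Y) (v w : V), β (g • v) (g • w) = β v w
  four : ∀ x ∈ MulAction.orbit Y z, 4 ≤ Nat.card (KK Y x (β x))
  only : ∀ x ∈ MulAction.orbit Y z, ∀ y ∈ MulAction.orbit Y z, Fx (KK Y x (β x)) y → y = x

end Cfsg.Agent.Omega.NearFF
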