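import Cfsg.Agent.Omega.NearFF.Three

/-!
# (BT), `|V/E| = 2`: the KEY LEMMA of helper620 (#16277) (project OMEGA, leaf N1)

`β(b, a) = [v, b, a]` (`v ∉ E_z`).  `A ⊆ B` is good if for all `b ∈ B` either `β(b, A) = 0` or
`β(B, A) ≤ ⟨β(b, A)⟩`.

* `Dat.symm_of_good` : (C4), a good `A ≠ 1` ⟹ `f` is symmetric;
* `Dat.symm_of_two` : KEY LEMMA, `|[E, b]| = 2` for some `b ∈ B ∈ BB z` ⟹ `f` is symmetric.
-/

set_option autoImplicit false
set_option linter.unusedSectionVars false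

namespace Cfsg.Agent.Omega.NearFF

open Subgroup Cfsg.Agent.Omega.Transv

variable {Y : Type*} [Group Y] {V : Type*} [AddCommGroup V] [Module (ZMod 2) V] [DistribMulAction Y V]

/-- `A ⊆ B` is good -/
structure Good (φ : Du V) (B : Subgroup Y) (A : Set Y) : Prop where
  sub : ∀ a ∈ A, a ∈ B
  good : ∀ v : V, φ v = 1 → ∀ b ∈ B, (∀ a ∈ A, cm a (cm b v) = 0) ∨
    ∀ a ∈ A, ∀ b' ∈ B, cm a (cm b' v) ∈ Submodule.span (ZMod 2) {w : V | ∃ a' ∈ A, w = cm a' (cm b v)}

theorem smul_cm_inv (g b : Y) (v : V) : cm (g * b * g⁻¹) v = g • cm b (g⁻¹ • v) := by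
  rw [smul_cm_conj, smul_inv_smul]

theorem Good.conj {φ : Du V} {B : Subgroup Y} {A : Set Y} (h : Good φ B A) {g : Y}
    (hg : ∀ v : V, φ (g • v) = φ v) :
    Good φ (B.map (MulAut.conj g).toMonoidHom) ((fun a => g * a * g⁻¹) '' A) where
  sub := by
    rintro _ ⟨a, ha, rfl⟩
    exact ⟨a, h.sub a ha, rfl⟩
  good := by
    intro v hv b hb
    obtain ⟨b0, hb0, hbb⟩ := hb
    obtain rfl : g * b0 * g⁻¹ = b := hbb
    have hv' : φ (g⁻¹ • v) = 1 := by rw [← hg, smul_inv_smul, hv]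
    have key : ∀ a c : Y, cm (g * a * g⁻¹) (cm (g * c * g⁻¹) v) = g • cm a (cm c (g⁻¹ • v)) := by
      intro a c
      rw [smul_cm_inv g c, ← smul_cm_conj]
    rcases h.good _ hv' b0 hb0 with h1 | h1
    · left
      rintro _ ⟨a, ha, rfl⟩
      change cm (g * a * g⁻¹) (cm (g * b0 * g⁻¹) v) = 0
      rw [key, h1 a ha, smul_zero]
    · right
      rintro _ ⟨a, ha, rfl⟩ b' hb'
      obtain ⟨b1, hb1, hbb'⟩ := hb'
      obtain rfl : g * b1 * g⁻¹ = b' := hbb'
      change cm (g * a * g⁻¹) (cm (g * b1 * g⁻¹) v) ∈ _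
      rw [key]
      have h2 : Submodule.span (ZMod 2) {w : V | ∃ a' ∈ A, w = cm a' (cm b0 (g⁻¹ • v))} ≤
          (Submodule.span (ZMod 2) {w : V | ∃ a' ∈ (fun a => g * a * g⁻¹) '' A,
            w = cm a' (cm (g * b0 * g⁻¹) v)}).comap (lin g) := by
        rw [Submodule.span_le]
        rintro _ ⟨a', ha', rfl⟩
        refine Submodule.subset_span ⟨g * a' * g⁻¹, ⟨a', ha', rfl⟩, ?_⟩
        change g • cm a' (cm b0 (g⁻¹ • v)) = _
        rw [key]
      exact h2 (h1 a ha b1 hb1)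

/-- `f_y` vanishes on `β(B, A)` -/
theorem NB.good {φ : Du V} {B : Subgroup Y} (h : NB φ B) {A : Set Y} (hA : Good φ B A) {ψ : Du V}
    {y : V} (hy : φ y = 0) (hψ : ∀ c : Y, c • y = y → ∀ v : V, ψ (c • v) = ψ v) {v : V} (hv : φ v = 1)
    {a b : Y} (ha : a ∈ A) (hb : b ∈ B) : ψ (cm a (cm b v)) = 0 := by
  have key : ∀ c : Y, c • y = y → ∀ v : V, ψ (cm c v) = 0 := by
    intro c hc v
    rw [cm, map_add, hψ c hc, add_self]
  obtain ⟨c, hc, hd⟩ := h.surj v y hv hy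
  have h1 : y = cm c v + (cm c v + y) := by
    rw [← add_assoc, add_self, zero_add]
  have hcy : c • y = y := by
    conv_lhs => rw [h1, smul_add, h.smul_cm_self hc, hd c hc]
    exact h1.symm
  rcases hA.good v hv c hc with h2 | h2
  · -- `A` fixes `y`
    have h3 : a • y = y := by
      rw [← cm_eq_zero, h1, cm_add, h2 a ha, cm_eq_zero.2 (hd a (hA.sub a ha)), add_zero]
    exact key a h3 _
  · have h3 : Submodule.span (ZMod 2) {w : V | ∃ a' ∈ A, w = cm a' (cm c v)} ≤ LinearMap.ker ψ := by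
      rw [Submodule.span_le]
      rintro _ ⟨a', ha', rfl⟩
      change ψ (cm a' (cm c v)) = 0
      rw [cm_comm (h.comm a' (hA.sub a' ha') c hc)]
      exact key c hcy _
    exact h3 (h2 a ha b hb)

namespace Dat

variable {T : Sylow 2 Y} {M : Subgroup Y} {z : V} {f : V → Du V} {Q : V → Subgroup Y}
  {BB : V → Set (Subgroup Y)} (h : Dat T M z f Q BB)
include h

/-- a `T`-invariant subspace `≠ 0` contains `z` -/
theorem z_mem [Finite Y] [Finite V] {W : Submodule (ZMod 2) V} (hW : ∀ t ∈ T, ∀ w ∈ W, t • w ∈ W) {w : V}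
    (hw : w ∈ W) (hw0 : w ≠ 0) : z ∈ W := by
  let : DistribMulAction T W :=
    { smul := fun t w => ⟨(t : Y) • (w : V), hW t t.2 w w.2⟩
      one_smul := fun w => Subtype.ext (one_smul Y (w : V))
      mul_smul := fun s t w => Subtype.ext (mul_smul (s : Y) (t : Y) (w : V))
      smul_zero := fun t => Subtype.ext (smul_zero (t : Y))
      smul_add := fun t v w => Subtype.ext (smul_add (t : Y) (v : V) (w : V)) }
  have h1 : (⟨w, hw⟩ : W) ≠ 0 := fun h2 => hw0 (congrArg Subtype.val h2)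
  obtain ⟨w0, hw1, hT⟩ := exists_fixed (Q := T) T.isPGroup' h1
  have h2 : (w0 : V) ≠ 0 := fun h3 => hw1 (Subtype.ext h3)
  have h3 := (h.fixT (w0 : V) fun t ht => congrArg Subtype.val (hT ⟨t, ht⟩)).resolve_left h2
  rw [← h3]
  exact w0.2

/-- **(C4)** of #16277 -/
theorem symm_of_good [Finite Y] [Finite V] {B : Subgroup Y} (hB : B ∈ BB z) {A : Set Y}
    (hA : Good (f z) B A) {a : Y} (ha : a ∈ A) (ha1 : a ≠ 1) {x y : V}
    (hx : x ∈ MulAction.orbit Y z) (hy : y ∈ MulAction.orbit Y z) : f x y = f y x := by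
  refine h.symm_of_z (fun y hy hzy => ?_) hx hy
  have hz := MulAction.mem_orbit_self (M := Y) z
  let W : Submodule (ZMod 2) V := Submodule.span (ZMod 2) {w : V | ∃ B ∈ BB z, ∃ A : Set Y,
    Good (f z) B A ∧ ∃ a ∈ A, ∃ b ∈ B, ∃ v : V, f z v = 1 ∧ w = cm a (cm b v)}
  have hW : ∀ t ∈ T, ∀ w ∈ W, t • w ∈ W := by
    intro t ht w hw
    have htz : t • z = z := h.z_fix t ht
    have h1 : W ≤ W.comap (lin t) := by
      rw [Submodule.span_le]
      rintro _ ⟨B, hB, A, hA, a, ha, b, hb, v, hv, rfl⟩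
      have h2 := h.bb_smul t z hz B hB
      rw [htz] at h2
      refine Submodule.subset_span ⟨_, h2, _, hA.conj (g := t) fun v => h.f_fix hz htz v,
        t * a * t⁻¹, ⟨a, ha, rfl⟩, t * b * t⁻¹, ⟨b, hb, rfl⟩, t • v, ?_, ?_⟩
      · rw [h.f_fix hz htz, hv]
      · change t • cm a (cm b v) = _
        rw [smul_cm_conj, smul_cm_conj]
    exact h1 hw
  have hker : W ≤ LinearMap.ker (f y) := by
    rw [Submodule.span_le]
    rintro _ ⟨B, hB, A, hA, a, ha, b, hb, v, hv, rfl⟩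
    exact (h.bb B hB).good hA hzy (fun c hc => h.f_fix hy hc) hv ha hb
  -- `β(a, B) ≠ 0`
  have hN := h.bb B hB
  obtain ⟨v, hv⟩ := exists_one h.f_ne
  obtain ⟨e, he, hae⟩ : ∃ e : V, f z e = 0 ∧ cm a e ≠ 0 := by
    by_contra hc
    push Not at hc
    exact ha1 (eq_one_of_hyper h.faith h.nt (φ := f z) hc)
  obtain ⟨b, hb, hd⟩ := hN.surj v e hv he
  have h2 : cm a (cm b v) ≠ 0 := by
    intro h0
    apply hae
    have h3 : e = cm b v + (cm b v + e) := by
      rw [← add_assoc, add_self, zero_add]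
    rw [h3, cm_add, h0, cm_eq_zero.2 (hd a (hA.sub a ha)), add_zero]
  exact hker (h.z_mem hW (Submodule.subset_span ⟨B, hB, A, hA, a, ha, b, hb, v, hv, rfl⟩) h2)

/-- **KEY LEMMA** of #16277: `|[E, b]| = 2` for some `1 ≠ b ∈ B` ⟹ `f` symmetric -/
theorem symm_of_two [Finite Y] [Finite V] {B : Subgroup Y} (hB : B ∈ BB z) {b : Y} (hb : b ∈ B)
    (hb1 : b ≠ 1) {w : V} (hw : ∀ e : V, f z e = 0 → cm b e = 0 ∨ cm b e = w) {x y : V}
    (hx : x ∈ MulAction.orbit Y z) (hy : y ∈ MulAction.orbit Y z) : f x y = f y x := by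
  refine h.symm_of_good hB (A := {b}) ⟨?_, ?_⟩ (Set.mem_singleton b) hb1 hx hy
  · rintro a rfl
    exact hb
  · intro v hv c hc
    have hcv : ∀ c ∈ B, cm b (cm c v) = 0 ∨ cm b (cm c v) = w := fun c hc =>
      hw _ ((h.bb B hB).cm_mem hc v)
    rcases hcv c hc with h1 | h1
    · left
      rintro a rfl
      exact h1
    · right
      rintro a rfl b' hb'
      rcases hcv b' hb' with h2 | h2
      · rw [h2]
        exact Submodule.zero_mem _
      · rw [h2]
        exact Submodule.subset_span ⟨a, Set.mem_singleton a, h1.symm⟩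

end Dat

end Cfsg.Agent.Omega.NearFF
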