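import Cfsg.Agent.Omega.NearFF.Form

/-!
# (BT), `|V/E| = 2`: the KEY LEMMA (helper620, #16277, with (C4)) on `NearFF.Dat` (duplicate of `Good.lean`, kept for `symm_all`)

`β(a, b) = [v, a, b]` for `a, b ∈ B ∈ BB z`.  A subgroup `A ≠ 1` of `B` is good (`Gd B A`) if every `b ∈ B` is
orthogonal to `A` or `β(A, B) ≤ [V, b]` (e.g. `β(b, A) = β(B, A)`).

* `symm_of_good` : a good `A` exists ⟹ `f` is symmetric;
* `symm_of_four` : `|[E_z, b]| ≤ 2` for some `1 ≠ b ∈ B ∈ BB z` ⟹ `f` is symmetric.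
-/

set_option autoImplicit false
set_option linter.unusedSectionVars false

namespace Cfsg.Agent.Omega.NearFF.KeyC4

open Subgroup MulAction Cfsg.Agent.Omega.Transv Cfsg.Agent.Omega.NearFF

variable {Y : Type*} [Group Y] {V : Type*} [AddCommGroup V] [Module (ZMod 2) V] [DistribMulAction Y V]
  {T : Sylow 2 Y} {M : Subgroup Y} {z : V} {f : V → Du V} {Q : V → Subgroup Y} {BB : V → Set (Subgroup Y)}

/-- `A ≤ B` is good: each `b ∈ B` is orthogonal to `A` or `β(A, B) ≤ [V, b]`. -/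
structure Gd (V : Type*) [AddCommGroup V] [Module (ZMod 2) V] [DistribMulAction Y V] (B A : Subgroup Y) :
    Prop where
  le : A ≤ B
  ne : A ≠ ⊥
  good : ∀ b ∈ B, (∀ a ∈ A, ∀ v : V, cm a (cm b v) = 0) ∨
    ∀ a ∈ A, ∀ c ∈ B, ∀ v : V, ∃ u : V, cm c (cm a v) = cm b u

theorem Gd.conj {B A : Subgroup Y} (h : Gd V B A) (g : Y) :
    Gd V (B.map (MulAut.conj g).toMonoidHom) (A.map (MulAut.conj g).toMonoidHom) where
  le := map_mono h.le
  ne := by
    intro h1
    exact h.ne ((map_eq_bot_iff_of_injective _ (MulAut.conj g).injective).1 h1)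
  good := by
    rintro _ ⟨b, hb, rfl⟩
    have key : ∀ (a : Y) (v : V), cm ((MulAut.conj g).toMonoidHom a) v = g • cm a (g⁻¹ • v) := by
      intro a v
      rw [smul_cm_conj, smul_inv_smul]
      rfl
    rcases h.good b hb with h1 | h1
    · left
      rintro _ ⟨a, ha, rfl⟩ v
      rw [key, key, inv_smul_smul, h1 a ha, smul_zero]
    · right
      rintro _ ⟨a, ha, rfl⟩ _ ⟨c, hc, rfl⟩ v
      obtain ⟨u, hu⟩ := h1 a ha c hc (g⁻¹ • v)
      refine ⟨g • u, ?_⟩
      rw [key, key, key, inv_smul_smul, inv_smul_smul, hu]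

/-- a nonzero `T`-invariant submodule contains `z` -/
theorem z_mem [Finite V] (h : Dat T M z f Q BB) {W : AddSubgroup V} (hW : ∀ t ∈ T, ∀ w ∈ W, t • w ∈ W)
    (hne : W ≠ ⊥) : z ∈ W := by
  classical
  let _ : MulAction T W :=
    { smul := fun t w => ⟨(t : Y) • (w : V), hW t t.2 w w.2⟩
      one_smul := fun w => Subtype.ext (one_smul Y (w : V))
      mul_smul := fun s t w => Subtype.ext (mul_smul (s : Y) (t : Y) (w : V)) }
  have hcard : 2 ∣ Nat.card W := by
    obtain ⟨w, hw0⟩ := AddSubgroup.ne_bot_iff_exists_ne_zero.1 hne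
    have h2 : addOrderOf w = 2 := by
      refine addOrderOf_eq_prime ?_ hw0
      apply Subtype.ext
      change ((2 : ℕ) • w : W).1 = 0
      rw [two_nsmul]
      exact add_self (w : V)
    rw [← h2]
    exact addOrderOf_dvd_natCard w
  have hfix := T.2.card_modEq_card_fixedPoints W
  have h0 : (0 : W) ∈ fixedPoints T W := fun t => Subtype.ext (smul_zero (t : Y))
  have h1 : 2 ∣ Nat.card (fixedPoints T W) :=
    (Nat.modEq_zero_iff_dvd.1 (hfix.symm.trans (Nat.modEq_zero_iff_dvd.2 hcard)))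
  have h2 : 1 < Nat.card (fixedPoints T W) := by
    have h3 : 0 < Nat.card (fixedPoints T W) := Nat.card_pos_iff.2 ⟨⟨⟨0, h0⟩⟩, inferInstance⟩
    exact lt_of_lt_of_le one_lt_two (Nat.le_of_dvd h3 h1)
  have h6 : Nontrivial (fixedPoints T W) := Finite.one_lt_card_iff_nontrivial.1 h2
  obtain ⟨⟨⟨w, hw⟩, hwf⟩, hne1⟩ := exists_ne (⟨0, h0⟩ : fixedPoints T W)
  have h3 : Fx (T : Subgroup Y) w := fun t ht => congrArg Subtype.val (hwf ⟨t, ht⟩)
  rcases h.fixT w h3 with h4 | h4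
  · subst h4
    exact absurd rfl hne1
  · exact h4 ▸ hw

theorem f_inv (h : Dat T M z f Q BB) {y : V} (hy : y ∈ orbit Y z) {c : Y} (hc : c • y = y) (v : V) :
    f y (cm c v) = 0 := by
  have h1 := h.f_smul c y hy
  rw [hc] at h1
  have h2 : f y (c • v) = f y v := by
    conv_lhs => rw [h1]
    rw [dua_apply, inv_smul_smul]
  rw [cm, map_add, h2]
  rcases zmod_cases (f y v) with h3 | h3
  · rw [h3, add_zero]
  · rw [h3, one_add_one]

/-- (C4): `f_y(β(A, B)) = 0` for `A` good in `B ∈ BB z` -/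
theorem f_good (h : Dat T M z f Q BB) {B A : Subgroup Y} (hB : B ∈ BB z) (hA : Gd V B A) {y : V}
    (hy : y ∈ orbit Y z) (h0 : f z y = 0) {a c : Y} (ha : a ∈ A) (hc : c ∈ B) (v : V) :
    f y (cm c (cm a v)) = 0 := by
  have nb := h.bb B hB
  obtain ⟨v0, hv0⟩ := exists_one h.f_ne
  obtain ⟨b, hb, h1⟩ := nb.surj v0 y hv0 h0
  have key : ∀ a ∈ B, cm a (cm b v0) = 0 → a • y = y := by
    intro a ha h2
    have h3 := h1 a ha
    rw [smul_add, cm_eq_zero.1 h2] at h3
    exact add_left_cancel h3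
  rcases hA.good b hb with h2 | h2
  · rw [cm_comm (nb.comm c hc a (hA.le ha))]
    exact f_inv h hy (key a (hA.le ha) (h2 a ha v0)) _
  · obtain ⟨u, hu⟩ := h2 a ha c hc v
    rw [hu]
    refine f_inv h hy (key b hb ?_) _
    have h3 := cm_mul b b v0
    rw [nb.sq b hb, cm_one, add_self, zero_add] at h3
    exact h3.symm

/-- **KEY LEMMA, general form (C4)**: a good `A` exists ⟹ `f` is symmetric. -/
theorem symm_of_good [Finite V] (h : Dat T M z f Q BB) {B A : Subgroup Y} (hB : B ∈ BB z)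
    (hA : Gd V B A) : ∀ y ∈ orbit Y z, f z y = 0 → f y z = 0 := by
  intro y hy h0
  let S : Set V := {w | ∃ B ∈ BB z, ∃ A : Subgroup Y, Gd V B A ∧ ∃ a ∈ A, ∃ c ∈ B, ∃ v : V, w = cm c (cm a v)}
  have hz : z ∈ AddSubgroup.closure S := by
    refine z_mem h (fun t ht w hw => ?_) ?_
    · have hS : ∀ w ∈ S, t • w ∈ S := by
        rintro _ ⟨B, hB, A, hA, a, ha, c, hc, v, rfl⟩
        refine ⟨_, ?_, _, hA.conj t, t * a * t⁻¹, ⟨a, ha, rfl⟩, t * c * t⁻¹, ⟨c, hc, rfl⟩, t • v, ?_⟩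
        · have h1 := h.bb_smul t z (mem_orbit_self z) B hB
          rwa [h.z_fix t ht] at h1
        · rw [smul_cm_conj, smul_cm_conj]
      refine AddSubgroup.closure_induction (p := fun w _ => t • w ∈ AddSubgroup.closure S) ?_ ?_ ?_ ?_ hw
      · exact fun w hw => AddSubgroup.subset_closure (hS w hw)
      · rw [smul_zero]; exact zero_mem _
      · intro u w _ _ hu hw
        rw [smul_add]
        exact add_mem hu hw
      · intro u _ hu
        rw [smul_neg]
        exact neg_mem hu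
    · intro hbot
      obtain ⟨a, ha1⟩ := Subgroup.ne_bot_iff_exists_ne_one.1 hA.ne
      obtain ⟨v0, hv0⟩ := exists_one h.f_ne
      refine ha1 (Subtype.ext ((h.bb B hB).inj v0 hv0 a (hA.le a.2) fun c hc => ?_))
      rw [← cm_eq_zero]
      have h1 : cm c (cm (a : Y) v0) ∈ AddSubgroup.closure S :=
        AddSubgroup.subset_closure ⟨B, hB, A, hA, a, a.2, c, hc, v0, rfl⟩
      rw [hbot] at h1
      exact AddSubgroup.mem_bot.1 h1
  refine AddSubgroup.closure_induction (p := fun w _ => f y w = 0) ?_ ?_ ?_ ?_ hz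
  · rintro _ ⟨B, hB, A, hA, a, ha, c, hc, v, rfl⟩
    exact f_good h hB hA hy h0 ha hc v
  · exact map_zero _
  · intro u w _ _ hu hw
    rw [map_add, hu, hw, add_zero]
  · intro u _ hu
    rw [map_neg, hu, neg_zero]

/-- `|[E_z, b]| ≤ 2` ⟹ `⟨b⟩` is good -/
theorem gd_of_four (h : Dat T M z f Q BB) {B : Subgroup Y} (hB : B ∈ BB z) {b : Y} (hb : b ∈ B)
    (hb1 : b ≠ 1) {w : V} (hw : ∀ e : V, f z e = 0 → cm b e = 0 ∨ cm b e = w) : Gd V B (zpowers b) where
  le := zpowers_le.2 hb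
  ne := by rwa [Ne, zpowers_eq_bot]
  good := by
    have nb := h.bb B hB
    have hz : ∀ a ∈ zpowers b, a = 1 ∨ a = b := by
      intro a ha
      rw [mem_zpowers_iff] at ha
      obtain ⟨k, rfl⟩ := ha
      have h2 : b ^ (2 : ℤ) = 1 := by
        rw [zpow_two]
        exact nb.sq b hb
      rcases Int.even_or_odd' k with ⟨m, hm | hm⟩
      · left
        rw [hm, zpow_mul, h2, one_zpow]
      · right
        rw [hm, zpow_add, zpow_mul, h2, one_zpow, one_mul, zpow_one]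
    have hE : ∀ c ∈ B, ∀ v : V, f z (cm c v) = 0 := by
      intro c hc v
      rw [cm, map_add, nb.inv c hc]
      rcases zmod_cases (f z v) with h3 | h3
      · rw [h3, add_zero]
      · rw [h3, one_add_one]
    intro c hc
    by_cases h1 : ∀ v : V, cm b (cm c v) = 0
    · left
      intro a ha v
      rcases hz a ha with rfl | rfl
      · exact cm_one _
      · exact h1 v
    · right
      push Not at h1
      obtain ⟨v1, h1⟩ := h1
      have h2 : cm b (cm c v1) = w := (hw _ (hE c hc v1)).resolve_left h1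
      intro a ha d hd v
      rcases hz a ha with rfl | rfl
      · exact ⟨0, by rw [cm_one, cm_zero, cm_zero]⟩
      · rw [cm_comm (nb.comm d hd a hb)]
        rcases hw _ (hE d hd v) with h3 | h3
        · exact ⟨0, by rw [h3, cm_zero]⟩
        · refine ⟨cm a v1, ?_⟩
          rw [h3, ← h2]
          exact cm_comm (nb.comm a hb c hc) v1

/-- **KEY LEMMA** (#16277): `|[E_z, b]| ≤ 2` for some `1 ≠ b ∈ B ∈ BB z` ⟹ `f` is symmetric. -/
theorem symm_of_four [Finite V] (h : Dat T M z f Q BB) {B : Subgroup Y} (hB : B ∈ BB z) {b : Y}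
    (hb : b ∈ B) (hb1 : b ≠ 1) {w : V} (hw : ∀ e : V, f z e = 0 → cm b e = 0 ∨ cm b e = w) :
    ∀ y ∈ orbit Y z, f z y = 0 → f y z = 0 :=
  symm_of_good h hB (gd_of_four h hB hb hb1 hw)

/-- symmetry at `z` is symmetry -/
theorem symm_all (h : Dat T M z f Q BB) (hs : ∀ y ∈ orbit Y z, f z y = 0 → f y z = 0) :
    ∀ x ∈ orbit Y z, ∀ y ∈ orbit Y z, f x y = 0 → f y x = 0 := by
  rintro _ ⟨g, rfl⟩ _ ⟨k, rfl⟩ h1
  change f (g • z) (k • z) = 0 at h1
  change f (k • z) (g • z) = 0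
  rw [h.f_smul g z (mem_orbit_self z), dua_apply, ← mul_smul] at h1
  have h2 := hs _ ⟨g⁻¹ * k, rfl⟩ h1
  change f ((g⁻¹ * k) • z) z = 0 at h2
  rw [h.f_smul _ z (mem_orbit_self z), dua_apply] at h2
  rw [h.f_smul _ z (mem_orbit_self z), dua_apply, ← mul_smul]
  have h3 : (g⁻¹ * k)⁻¹ = k⁻¹ * g := by group
  rwa [h3] at h2

end Cfsg.Agent.Omega.NearFF.KeyC4
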