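import Cfsg.Agent.Omega.NearFF.Symp

/-!
# THEOREM BT2 (helper318, bb 13091): a line through `z` is impossible
-/

set_option autoImplicit false
set_option linter.unusedSectionVars false

namespace Cfsg.Agent.Omega.NearFF

open Subgroup Transv
open scoped Pointwise

variable {Y : Type*} [Group Y] {V : Type*} [AddCommGroup V] [Module (ZMod 2) V] [DistribMulAction Y V]

/-- the points in the block of `z` -/
def Del (U : Subgroup Y) (z : V) : Set V := {u | ∃ g ∈ U, g • z = u}

namespace Geo

variable {T : Sylow 2 Y} {U : Subgroup Y} {z : V} {Om : Set V} {f : V → Du V}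

/-- `C_Y(z) ≤ U` -/
theorem stab_le (h : Geo Y V T U z Om f) {g : Y} (hg : g • z = z) : g ∈ U := by
  rcases h.max (MulAction.stabilizer Y z) (fun t ht => h.z_fix t ht) with h1 | h1
  · exact h1 hg
  · exfalso
    obtain ⟨y, hy, h2⟩ := h.exists_far h.zO
    obtain ⟨k, hk⟩ := h.trans y hy
    have h3 : k ∈ MulAction.stabilizer Y z := by
      rw [h1]
      exact mem_top k
    have h4 : k • z = z := h3
    rw [← hk, h4, (h.pnt z h.zO).self] at h2
    exact one_ne h2.symm

theorem z_del : z ∈ Del U z := ⟨1, one_mem _, one_smul _ _⟩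

theorem del_le (h : Geo Y V T U z Om f) {d : V} (hd : d ∈ Del U z) : d ∈ Om := by
  obtain ⟨g, -, rfl⟩ := hd
  exact h.smul g z h.zO

theorem del_smul {g : Y} (hg : g ∈ U) {d : V} (hd : d ∈ Del U z) : g • d ∈ Del U z := by
  obtain ⟨k, hk, rfl⟩ := hd
  exact ⟨g * k, mul_mem hg hk, mul_smul g k z⟩

/-- the block property -/
theorem block (h : Geo Y V T U z Om f) {d : V} (hd : d ∈ Del U z) {g : Y} (hg : g • d ∈ Del U z) : g ∈ U := by
  obtain ⟨k, hk, rfl⟩ := hd
  obtain ⟨l, hl, h1⟩ := hg
  have h2 : (l⁻¹ * g * k) • z = z := by rw [mul_smul, mul_smul, ← h1, inv_smul_smul]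
  have h3 := h.stab_le h2
  have h4 : g = l * (l⁻¹ * g * k) * k⁻¹ := by group
  rw [h4]
  exact mul_mem (mul_mem hl h3) (inv_mem hk)

theorem KK_le (h : Geo Y V T U z Om f) {d : V} (hd : d ∈ Del U z) {b : Y} (hb : b ∈ KK Y d (f d)) : b ∈ U :=
  h.block hd (by rwa [hb.1])

theorem del_add [Finite Y] [Finite V] (h : Geo Y V T U z Om f) {x y : V} (hx : x ∈ Del U z) (hy : y ∈ Del U z)
    (hxy : f x y = 0) (hne : y ≠ x) : y + x ∈ Del U z := by
  obtain ⟨b, hb, h1⟩ := h.move (h.del_le hx) hxy (h.pnt y (h.del_le hy)).ne hne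
  rw [← h1]
  exact del_smul (h.KK_le hx hb) hy

/-- (A1) -/
theorem line_del [Finite Y] [Finite V] (h : Geo Y V T U z Om f) {w : V} (hw : w ∈ Om) (hzw : f z w = 0)
    (hne : w ≠ z) (hT : ∀ t ∈ T, t • w = w ∨ t • w = w + z) : w ∈ Del U z := by
  have hz := h.pnt z h.zO
  have hwz : f w z = 0 := by rw [h.symm hw h.zO, hzw]
  have hN : ∀ g : Y, g • z = z → (g • w = w ∨ g • w = w + z) →
      g ∈ MulAction.stabilizer Y ({z, w, w + z} : Set V) := by
    intro g h1 h2
    rw [MulAction.mem_stabilizer_set' (Set.toFinite _)]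
    rintro u (rfl | rfl | rfl)
    · rw [h1]
      exact Or.inl rfl
    · rcases h2 with h2 | h2
      · rw [h2]
        exact Or.inr (Or.inl rfl)
      · rw [h2]
        exact Or.inr (Or.inr rfl)
    · rw [smul_add, h1]
      rcases h2 with h2 | h2
      · rw [h2]
        exact Or.inr (Or.inr rfl)
      · rw [h2, add_add_self]
        exact Or.inr (Or.inl rfl)
  have hNU : MulAction.stabilizer Y ({z, w, w + z} : Set V) ≤ U := by
    rcases h.max (MulAction.stabilizer Y ({z, w, w + z} : Set V)) (fun t ht => hN t (h.z_fix t ht) (hT t ht)) with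
      h1 | h1
    · exact h1
    · exfalso
      obtain ⟨y, hy, h2⟩ := h.exists_far h.zO
      obtain ⟨k, hk⟩ := h.trans y hy
      have h3 : k ∈ MulAction.stabilizer Y ({z, w, w + z} : Set V) := by
        rw [h1]
        exact mem_top k
      rw [MulAction.mem_stabilizer_set' (Set.toFinite _)] at h3
      have h4 : k • z ∈ ({z, w, w + z} : Set V) := h3 (Or.inl rfl)
      rw [hk] at h4
      rcases h4 with h4 | h4 | h4
      · rw [h4, hz.self] at h2
        exact one_ne h2.symm
      · rw [h4, hzw] at h2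
        exact one_ne h2.symm
      · rw [h4, map_add, hz.self, hzw, add_zero] at h2
        exact one_ne h2.symm
  obtain ⟨b, hb, h1⟩ := h.move hw hwz hz.ne (Ne.symm hne)
  have hbU : b ∈ U := by
    apply hNU
    rw [MulAction.mem_stabilizer_set' (Set.toFinite _)]
    rintro u (rfl | rfl | rfl)
    · rw [h1, add_comm]
      exact Or.inr (Or.inr rfl)
    · rw [hb.1]
      exact Or.inr (Or.inl rfl)
    · rw [smul_add, h1, hb.1, add_comm w (z + w), add_add_self]
      exact Or.inl rfl
  obtain ⟨c, hc, h2⟩ := h.move h.zO hzw (h.pnt w hw).ne hne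
  have h3 : w + z ∈ Del U z := ⟨b, hbU, by rw [h1, add_comm]⟩
  have h4 : w = c⁻¹ • (w + z) := by rw [← h2, inv_smul_smul]
  rw [h4]
  exact del_smul (inv_mem (h.KK_le z_del hc)) h3

/-- (A4) -/
theorem no_far [Finite Y] [Finite V] (h : Geo Y V T U z Om f) {w0 : V} (hw0 : w0 ∈ Om) (hzw : f z w0 = 0)
    (hne : w0 ≠ z) {y0 : V} (hy0 : y0 ∈ Del U z) (h1 : f z y0 = 1) : False := by
  have hz := h.pnt z h.zO
  have hyO := h.del_le hy0
  have h1' : f y0 z = 1 := by rw [h.symm hyO h.zO, h1]
  have hA : ∀ y' ∈ Om, f z y' = 0 → f y0 y' = 0 → y' ∈ Del U z := by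
    intro y' hy' h2 h3
    have hne' : y' ≠ y0 := fun h4 => by
      rw [h4, h1] at h2
      exact one_ne h2
    obtain ⟨b, hb, c, h4⟩ := h.hit h.zO h1 (u := y0 + y') (by rw [map_add, h1, h2, add_zero])
    rcases zmod_cases c with hc | hc
    · rw [hc, zero_smul, add_zero] at h4
      have h5 : y0 + y' ∈ Del U z := by
        rw [h4]
        exact del_smul (h.KK_le z_del hb) hy0
      have h6 := h.del_add hy0 h5 (by rw [map_add, (h.pnt y0 hyO).self, h3, add_zero])
        (fun h7 => (h.pnt y' hy').ne (add_eq_left.mp h7))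
      rwa [Fr.cancel_right] at h6
    · exfalso
      rw [hc, one_smul] at h4
      have h5 : y' + y0 ∈ Om := h.line hyO hy' h3 hne'
      have h6 : y' + y0 + z ∈ Om := by
        rw [add_comm y' y0, h4, add_add_self]
        exact h.smul b y0 hyO
      have h7 := h.nh h.zO h5 h6
      rw [map_add, h2, h1, zero_add] at h7
      exact one_ne h7
  have hB : ∀ y' ∈ Om, f z y' = 0 → y' ∈ Del U z := by
    intro y' hy' h2
    by_cases h3 : f y0 y' = 0
    · exact hA y' hy' h2 h3
    · by_cases h4 : y' = z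
      · rw [h4]
        exact z_del
      · have h5 : y' + z ∈ Del U z := hA _ (h.line h.zO hy' h2 h4) (by rw [map_add, h2, hz.self, add_zero])
          (by rw [map_add, eq_one_of_ne h3, h1', one_add_one])
        have h6 := h.del_add z_del h5 (by rw [map_add, h2, hz.self, add_zero])
          (fun h7 => (h.pnt y' hy').ne (add_eq_right.mp h7))
        rwa [add_add_self] at h6
  have hC : ∀ d ∈ Del U z, ∀ y' ∈ Om, f d y' = 0 → y' ∈ Del U z := by
    rintro d ⟨g, hg, rfl⟩ y' hy' h2
    have h3 := h.conj g z h.zO (g⁻¹ • y')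
    rw [smul_inv_smul, h2] at h3
    have h4 := hB _ (h.smul g⁻¹ y' hy') h3.symm
    have h5 := del_smul hg h4
    rwa [smul_inv_smul] at h5
  have hD : ∀ y ∈ Om, y ∈ Del U z := by
    intro y hy
    by_cases h2 : f z y = 0
    · exact hB y hy h2
    · have h3 : f y z = 1 := by rw [h.symm hy h.zO, eq_one_of_ne h2]
      by_cases h4 : f y w0 = 0
      · exact hC w0 (hB w0 hw0 hzw) y hy (by rw [h.symm hw0 hy, h4])
      · have h5 : w0 + z ∈ Om := h.line h.zO hw0 hzw hne
        refine hC _ (hB _ h5 (by rw [map_add, hzw, hz.self, add_zero])) y hy ?_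
        rw [h.symm h5 hy, map_add, eq_one_of_ne h4, h3, one_add_one]
  apply h.ne
  rw [eq_top_iff]
  intro g _
  exact h.block z_del (hD _ (h.smul g z h.zO))

end Geo

end Cfsg.Agent.Omega.NearFF
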