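import Cfsg.Agent.Omega.NearFF.LocFour

/-!
# (BT), `|V/E| = 2`: minimal pairs, the main theorem (helper817; project OMEGA, leaf N1)

* `Loc.four` : a minimal pair has a member `B` with `|[E_B, b]| ≤ 2` for some `1 ≠ b ∈ B`;
* `LFam.four` : the same for every family of near-offenders with (UP), without offenders.
-/

set_option autoImplicit false
set_option linter.unusedSectionVars false

namespace Cfsg.Agent.Omega.NearFF

open Subgroup Cfsg.Agent.Omega.Transv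

variable {G : Type*} [Group G] {V : Type*} [AddCommGroup V] [Module (ZMod 2) V] [DistribMulAction G V]

namespace Loc

variable {P : Subgroup G → Du V → Prop} (h : Loc P)
include h

/-- the group centralising `Vi P` and `V/Vi P` -/
def AA : Subgroup G where
  carrier := {g | (∀ w ∈ Vi P, g • w = w) ∧ ∀ v : V, cm g v ∈ Vi P}
  one_mem' := ⟨fun w _ => one_smul G w, fun v => by rw [cm_one]; exact zero_mem _⟩
  mul_mem' := by
    rintro a b ⟨ha1, ha2⟩ ⟨hb1, hb2⟩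
    refine ⟨fun w hw => by rw [mul_smul, hb1 w hw, ha1 w hw], fun v => ?_⟩
    rw [cm_mul]
    exact add_mem (add_mem (ha2 v) (hb2 v)) (ha2 _)
  inv_mem' := by
    rintro a ⟨ha1, ha2⟩
    refine ⟨fun w hw => by rw [inv_smul_eq_iff, ha1 w hw], fun v => ?_⟩
    have h1 : cm a⁻¹ v = a⁻¹ • cm a v := by
      rw [cm, cm, smul_add, inv_smul_smul, add_comm]
    rw [h1]
    exact h.smul_Vi (ha2 v) _

theorem mem_AA {g : G} : g ∈ h.AA ↔ (∀ w ∈ Vi P, g • w = w) ∧ ∀ v : V, cm g v ∈ Vi P := Iff.rfl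

theorem AA_comm {a b : G} (ha : a ∈ h.AA) (hb : b ∈ h.AA) : a * b = b * a := by
  refine h.faith.ext fun v => ?_
  rw [smul_eq_add_cm, smul_eq_add_cm, cm_mul, cm_mul, cm_eq_zero.2 (ha.1 _ (hb.2 v)),
    cm_eq_zero.2 (hb.1 _ (ha.2 v)), add_comm (cm a v)]

theorem AA_sq {a : G} (ha : a ∈ h.AA) : a * a = 1 := by
  refine h.faith.ext fun v => ?_
  rw [smul_eq_add_cm, cm_mul, cm_eq_zero.2 (ha.1 _ (ha.2 v)), add_self, zero_add, add_zero, one_smul]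

theorem AA_conj {a : G} (ha : a ∈ h.AA) (g : G) : g * a * g⁻¹ ∈ h.AA := by
  refine ⟨fun w hw => ?_, fun v => ?_⟩
  · rw [mul_smul, mul_smul, ha.1 _ (h.smul_Vi hw _), smul_inv_smul]
  · rw [smul_cm_inv]
    exact h.smul_Vi (ha.2 _) g

section Big

variable [Finite G] (hZ : ∀ B φ, P B φ → ∃ y, Fx B y ∧ y ∉ Vi P)
include hZ

/-- `B ∩ B^x = 1` -/
theorem inf_conj {B : Subgroup G} {φ : Du V} (hB : P B φ) {x : G} (hx : dua x φ ≠ φ) {c : G} (hc : c ∈ B)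
    (hc' : c ∈ B.map (MulAut.conj x).toMonoidHom) : c = 1 := by
  by_contra hc1
  have hB' := h.conj x B φ hB
  have nB := h.nb B φ hB
  have nB' := h.nb _ _ hB'
  obtain ⟨y, hy, hyV⟩ := hZ B φ hB
  have h1 : B ⊔ B.map (MulAut.conj x).toMonoidHom ≤ centralizer {c} := by
    refine sup_le (fun b hb => ?_) fun b hb => ?_
    · rw [mem_centralizer_singleton_iff]
      exact nB.comm b hb c hc
    · rw [mem_centralizer_singleton_iff]
      exact nB'.comm b hb c hc'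
  rw [h.gen B φ _ _ hB hB' hx.symm] at h1
  have h2 : ∀ g : G, g * c = c * g := fun g => mem_centralizer_singleton_iff.1 (h1 (mem_top g))
  apply hyV
  refine h.le_Vi ⟨B, hB⟩ (p := fun v => c • v = v) (fun g v hv => ?_) (fun v hv => nB.fix hc hc1 hv) (hy c hc)
  rw [smul_smul, ← h2 g, mul_smul, hv]

variable (hL : ∀ φ ∈ De P, ∀ α β : Du V, ∃ χ ∈ De P, χ ≠ φ ∧ χ ≠ α ∧ χ ≠ β)
include hL

/-- `|V : Vi P| ≤ 16` -/
theorem card_V_le [Finite V] : Nat.card V ≤ 16 * Nat.card (Vi P) := by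
  obtain ⟨B, φ, -, -, hB, -, -⟩ := h.two
  obtain ⟨b, hb, hbK⟩ := h.not_le_ke hB
  obtain ⟨ψ, hψ, hψφ⟩ := h.exists_other ⟨B, hB⟩
  obtain ⟨χ, hχ, hχφ, hχψ, hχb⟩ := hL φ ⟨B, hB⟩ ψ (dua b ψ)
  have h5 := h.five hZ hL hB hb hbK hψ hψφ hχ hχφ hχψ hχb
  let F : V →+ (ZMod 2 × ZMod 2) × (ZMod 2 × ZMod 2) :=
    ((ψ.prod (dua b ψ)).prod (χ.prod (dua b χ))).toAddMonoidHom
  have hF : ∀ v ∈ F.ker, v ∈ Vi P := by
    intro v hv
    have h0 : ((ψ v, dua b ψ v), (χ v, dua b χ v)) = ((0, 0), (0, 0)) := hv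
    simp only [Prod.mk.injEq] at h0
    obtain ⟨⟨e1, e2⟩, e3, e4⟩ := h0
    have h6 : ∀ θ ∈ De P, θ ≠ φ → θ v = 0 := by
      intro θ hθ hne
      rcases h5 θ hθ with rfl | rfl | rfl | rfl | rfl
      · exact absurd rfl hne
      · exact e1
      · exact e2
      · exact e3
      · exact e4
    have h7 : φ v = 0 := by
      refine eq_zero_of_ne fun h8 => hbK (h.ke_of_cm hB hb h8 fun θ hθ => ?_)
      rw [cm, map_add, smul_dua_inv]
      by_cases h9 : θ = φ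
      · rw [h9, (h.le_stab hB (inv_mem hb) : dua b⁻¹ φ = φ), add_self]
      · rw [h6 θ hθ h9, h6 _ (h.dua_mem hθ _) (h.dua_ne hB (inv_mem hb) h9), add_zero]
    intro θ hθ
    by_cases h9 : θ = φ
    · rw [h9, h7]
    · exact h6 θ hθ h9
  have h1 : Nat.card F.ker ≤ Nat.card (Vi P) :=
    Nat.card_le_card_of_injective (fun v : F.ker => (⟨v, hF v v.2⟩ : Vi P)) fun v w hvw =>
      Subtype.ext (congrArg (fun u : Vi P => (u : V)) hvw)
  have h2 : Nat.card F.range ≤ 16 := by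
    have h3 : Nat.card ((ZMod 2 × ZMod 2) × (ZMod 2 × ZMod 2)) = 16 := by
      rw [Nat.card_prod, Nat.card_prod, Nat.card_zmod]
    rw [← h3]
    exact Nat.card_le_card_of_injective (fun v : F.range => (v : (ZMod 2 × ZMod 2) × (ZMod 2 × ZMod 2)))
      Subtype.val_injective
  rw [← AddSubgroup.card_mul_index F.ker, AddSubgroup.index_ker, mul_comm]
  exact Nat.mul_le_mul h2 h1

variable (hN : ∀ B φ, P B φ → ∀ v, φ v = 1 → ∀ b ∈ B, (∀ c ∈ B, c ∈ Ke P → cm c (cm b v) = 0) → b ∈ Ke P)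
include hN

theorem exists_ke {B : Subgroup G} {φ : Du V} (hB : P B φ) : ∃ c ∈ B, c ∈ Ke P ∧ c ≠ 1 := by
  by_contra hc
  push Not at hc
  obtain ⟨b, hb, hbK⟩ := h.not_le_ke hB
  obtain ⟨v, hv⟩ := exists_one (h.nz B φ hB)
  refine hbK (hN B φ hB v hv b hb fun c hc' hcK => ?_)
  rw [hc c hc' hcK, cm_one]

theorem mem_AA_of_perp {B : Subgroup G} {φ : Du V} (hB : P B φ) {v : V} (hv : φ v = 1) {a : G} (ha : a ∈ B)
    (hperp : ∀ c ∈ B, c ∈ Ke P → cm c (cm a v) = 0) : a ∈ h.AA := by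
  have nB := h.nb B φ hB
  have haK := hN B φ hB v hv a ha hperp
  refine ⟨fun w hw => ?_, fun u χ hχ => h.cm_mem_of_stab (haK χ hχ) u⟩
  obtain ⟨b, hb, hd⟩ := nB.surj v w hv (hw φ ⟨B, hB⟩)
  have hbK : b ∈ Ke P := h.ke_of_mod hZ hL hB hb hv hd (by rw [← split_add]; exact hw)
  rw [← cm_eq_zero, split_add (cm b v) w, cm_add, cm_eq_zero.2 (hd a ha), add_zero,
    cm_comm (nB.comm a ha b hb)]
  exact hperp b hb hbK

/-- a member with three elements orthogonal to `B ∩ Ke P` -/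
theorem exists_member : ∃ B φ, P B φ ∧ ∃ b₁ ∈ B, ∃ b₂ ∈ B, b₁ ≠ 1 ∧ b₂ ≠ 1 ∧ b₁ ≠ b₂ ∧ b₁ ∈ h.AA ∧ b₂ ∈ h.AA := by
  obtain ⟨S, -, hS, hz⟩ := h.exists_S
  obtain ⟨B0, ψ1, -, -, hB0, -, -⟩ := h.two
  have hψ1 : ψ1 ∈ De P := ⟨B0, hB0⟩
  obtain ⟨ψ2, hψ2, n21⟩ := h.exists_other hψ1
  obtain ⟨ψ3, hψ3, n31, n32, -⟩ := hL ψ1 hψ1 ψ2 ψ2
  obtain ⟨ψ4, hψ4, n41, n42, n43⟩ := hL ψ1 hψ1 ψ2 ψ3
  obtain ⟨C1, hC1, z1, hSz1, hz1, hs1⟩ := hz ψ1 hψ1
  obtain ⟨C2, hC2, z2, hSz2, hz2, hs2⟩ := hz ψ2 hψ2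
  obtain ⟨C3, hC3⟩ := id hψ3
  obtain ⟨C4, hC4⟩ := id hψ4
  -- the final step
  have key : ∀ C φ, P C φ → ψ1 ≠ φ → ψ2 ≠ φ → ¬ Fx C (z1 + z2) →
      ∃ B φ, P B φ ∧ ∃ b₁ ∈ B, ∃ b₂ ∈ B, b₁ ≠ 1 ∧ b₂ ≠ 1 ∧ b₁ ≠ b₂ ∧ b₁ ∈ h.AA ∧ b₂ ∈ h.AA := by
    intro C φ hC hn1 hn2 hn
    obtain ⟨v, hv⟩ := exists_one (h.nz C φ hC)
    have hk := h.exists_ke hZ hL hN hC
    obtain ⟨b1, hb1, hb1', hd1, hp1⟩ := h.exists_perp hC (hS C φ hC) hk hSz1 (h.not_fx hC hC1 hn1 hz1 hs1) hv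
    obtain ⟨b2, hb2, hb2', hd2, hp2⟩ := h.exists_perp hC (hS C φ hC) hk hSz2 (h.not_fx hC hC2 hn2 hz2 hs2) hv
    refine ⟨C, φ, hC, b1, hb1, b2, hb2, hb1', hb2', ?_, h.mem_AA_of_perp hZ hL hN hC hv hb1 hp1,
      h.mem_AA_of_perp hZ hL hN hC hv hb2 hp2⟩
    rintro rfl
    apply hn
    have h1 := hd1.add hd2
    have h2 : cm b1 v + z1 + (cm b1 v + z2) = z1 + z2 + (cm b1 v + cm b1 v) := by abel
    rwa [h2, add_self, add_zero] at h1
  by_cases h3 : Fx C3 (z1 + z2)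
  · by_cases h4 : Fx C4 (z1 + z2)
    · exfalso
      have h5 := h.fix_top hC3 hC4 n43.symm h3 h4
      have h6 : Fx C1 (z2 + z1) := by
        intro c _
        rw [add_comm]
        exact h5 c
      exact h.not_fx hC1 hC2 n21 hz2 hs2 (h6.of_add hz1)
    · exact key C4 ψ4 hC4 n41.symm n42.symm h4
  · exact key C3 ψ3 hC3 n31.symm n32.symm h3

theorem card_AA : 16 ≤ Nat.card h.AA := by
  obtain ⟨B, φ, hB, b1, hb1, b2, hb2, hb1', hb2', hbb, h1, h2⟩ := h.exists_member hZ hL hN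
  obtain ⟨x, hx⟩ : ∃ x : G, dua x φ ≠ φ := by
    by_contra hc
    push Not at hc
    apply h.stab_ne ⟨B, hB⟩
    rw [eq_top_iff]
    exact fun g _ => hc g
  have nB := h.nb B φ hB
  have h4 : 4 ≤ Nat.card (B ⊓ h.AA : Subgroup G) := by
    classical
    have : Fintype (B ⊓ h.AA : Subgroup G) := Fintype.ofFinite _
    let c1 : (B ⊓ h.AA : Subgroup G) := ⟨b1, hb1, h1⟩
    let c2 : (B ⊓ h.AA : Subgroup G) := ⟨b2, hb2, h2⟩
    have e1 : c1 ≠ 1 := fun h0 => hb1' (congrArg Subtype.val h0)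
    have e2 : c2 ≠ 1 := fun h0 => hb2' (congrArg Subtype.val h0)
    have e3 : c1 ≠ c2 := fun h0 => hbb (congrArg Subtype.val h0)
    have e4 : c1 * c2 ≠ 1 := by
      intro h0
      apply hbb
      have h5 : b1 * b2 = 1 := congrArg Subtype.val h0
      rw [eq_inv_of_mul_eq_one_left h5, nB.inv_eq hb2]
    have e5 : c1 * c2 ≠ c1 := fun h0 => e2 (mul_eq_left.1 h0)
    have e6 : c1 * c2 ≠ c2 := fun h0 => e1 (mul_eq_right.1 h0)
    have h5 : ({1, c1, c2, c1 * c2} : Finset (B ⊓ h.AA : Subgroup G)).card = 4 := by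
      rw [Finset.card_insert_of_notMem, Finset.card_insert_of_notMem, Finset.card_insert_of_notMem,
        Finset.card_singleton]
      · simp [e6.symm]
      · simp [e3, e5.symm]
      · simp [e1.symm, e2.symm, e4.symm]
    rw [Nat.card_eq_fintype_card, ← h5]
    exact Finset.card_le_univ _
  let A2 : Subgroup G := (B ⊓ h.AA).map (MulAut.conj x).toMonoidHom
  have h5 : Nat.card A2 = Nat.card (B ⊓ h.AA : Subgroup G) :=
    Subgroup.card_map_of_injective (MulAut.conj x).injective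
  have hA2 : A2 ≤ h.AA := by
    rintro _ ⟨a, ha, rfl⟩
    exact h.AA_conj ha.2 x
  let F : (B ⊓ h.AA : Subgroup G) × A2 → h.AA := fun p => ⟨p.1 * p.2, mul_mem p.1.2.2 (hA2 p.2.2)⟩
  have hF : Function.Injective F := by
    rintro ⟨a, a'⟩ ⟨c, c'⟩ hac
    have e1 : (a : G) * a' = c * c' := congrArg Subtype.val hac
    have e2 : (c : G)⁻¹ * a = c' * (a' : G)⁻¹ := by
      rw [inv_mul_eq_iff_eq_mul, ← mul_assoc, ← e1, mul_inv_cancel_right]
    have e3 : (c : G)⁻¹ * a = 1 := by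
      refine h.inf_conj hZ hB hx (mul_mem (inv_mem c.2.1) a.2.1) ?_
      rw [e2]
      exact map_mono inf_le_left (mul_mem c'.2 (inv_mem a'.2))
    have e4 : (c : G) = a := inv_mul_eq_one.1 e3
    rw [e3] at e2
    have e5 : (c' : G) = a' := (mul_inv_eq_one.1 e2.symm)
    rw [Prod.mk.injEq]
    exact ⟨Subtype.ext e4.symm, Subtype.ext e5.symm⟩
  have h6 := Nat.card_le_card_of_injective F hF
  rw [Nat.card_prod, h5] at h6
  calc 16 = 4 * 4 := rfl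
    _ ≤ _ := Nat.mul_le_mul h4 h4
    _ ≤ _ := h6

theorem final [Finite V] : False := by
  have h1 := h.card_AA hZ hL hN
  have h2 := h.card_V_le hZ hL
  have h3 := h.noff h.AA (fun h0 => by
    rw [h0, Subgroup.card_bot] at h1
    omega) (fun a ha b hb => h.AA_comm ha hb) fun a ha => h.AA_sq ha
  have h4 : Nat.card (Vi P) ≤ Nat.card {v : V // Fx h.AA v} :=
    Nat.card_le_card_of_injective (fun w : Vi P => (⟨w, fun a ha => ha.1 w w.2⟩ : {v : V // Fx h.AA v}))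
      fun v w hvw => Subtype.ext (congrArg (fun u : {v : V // Fx h.AA v} => (u : V)) hvw)
  have h5 : 16 * Nat.card (Vi P) ≤ Nat.card h.AA * Nat.card {v : V // Fx h.AA v} := Nat.mul_le_mul h1 h4
  omega

end Big

/-- **minimal pairs**: `|[E_B, b]| ≤ 2` for some member `B` and `1 ≠ b ∈ B` -/
theorem four [Finite G] [Finite V] : Fo P := by
  by_cases hZ : ∀ B φ, P B φ → ∃ y, Fx B y ∧ y ∉ Vi P
  · by_cases hL : ∀ φ ∈ De P, ∀ α β : Du V, ∃ χ ∈ De P, χ ≠ φ ∧ χ ≠ α ∧ χ ≠ β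
    · by_contra hF
      refine h.final hZ hL fun B φ hB v hv b hb hp => ?_
      by_contra hbK
      exact hF (h.four_of_perp hZ hL hB hb hbK hv hp)
    · push Not at hL
      obtain ⟨φ, ⟨B, hB⟩, α, β, hL⟩ := hL
      refine h.four_of_small hB (α := α) (β := β) fun χ hχ => ?_
      by_cases h1 : χ = φ
      · exact Or.inl h1
      · by_cases h2 : χ = α
        · exact Or.inr (Or.inl h2)
        · exact Or.inr (Or.inr (hL χ hχ h1 h2))
  · push Not at hZ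
    obtain ⟨B, φ, hB, h0⟩ := hZ
    obtain ⟨α, β, hs⟩ := h.small_of_zero hB h0
    exact h.four_of_small hB hs

end Loc

end Cfsg.Agent.Omega.NearFF
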