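import Cfsg.Agent.Omega.NearFF.LocMin

/-!
# (BT), `|V/E| = 2`: minimal pairs, the end (helper817; project OMEGA, leaf N1)

* `Loc.four` : in a minimal pair some member `B` contains `b ≠ 1` with `|[E_B, b]| ≤ 2`.
-/

set_option autoImplicit false
set_option linter.unusedSectionVars false

namespace Cfsg.Agent.Omega.NearFF

open Subgroup Cfsg.Agent.Omega.Transv

variable {G : Type*} [Group G] {V : Type*} [AddCommGroup V] [Module (ZMod 2) V] [DistribMulAction G V]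

theorem split_add (u v : V) : v = u + (u + v) := by
  rw [← add_assoc, add_self, zero_add]

theorem dua_add (g : G) (φ ψ : Du V) : dua g (φ + ψ) = dua g φ + dua g ψ := rfl

/-- criterion for `|[E, b]| ≤ 2` -/
theorem NB.crit {φ : Du V} {B : Subgroup G} (h : NB φ B) {b : G} (hb : b ∈ B) {v : V} (hv : φ v = 1)
    {C : G → Prop} (h0 : ∀ c ∈ B, C c → cm b (cm c v) = 0)
    (hC : ∀ a ∈ B, ∀ a' ∈ B, ¬ C a → ¬ C a' → C (a * a')) :
    ∃ w : V, ∀ e : V, φ e = 0 → cm b e = 0 ∨ cm b e = w := by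
  by_cases h1 : ∀ a ∈ B, cm b (cm a v) = 0
  · refine ⟨0, fun e he => Or.inl ?_⟩
    obtain ⟨a, ha, hd⟩ := h.surj v e hv he
    rw [split_add (cm a v) e, cm_add, h1 a ha, cm_eq_zero.2 (hd b hb), add_zero]
  · push Not at h1
    obtain ⟨a0, ha0, h1⟩ := h1
    refine ⟨cm b (cm a0 v), fun e he => ?_⟩
    obtain ⟨a, ha, hd⟩ := h.surj v e hv he
    have h3 : cm b e = cm b (cm a v) := by
      conv_lhs => rw [split_add (cm a v) e, cm_add, cm_eq_zero.2 (hd b hb), add_zero]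
    rw [h3]
    by_cases hCa : C a
    · exact Or.inl (h0 a ha hCa)
    · right
      have hCa0 : ¬ C a0 := fun h4 => h1 (h0 a0 ha0 h4)
      have h4 := h0 _ (mul_mem ha ha0) (hC a ha a0 ha0 hCa hCa0)
      have h5 : cm b (cm a (cm a0 v)) = 0 := cm_eq_zero.2 (h.ed _ (h.cm_mem ha0 v) a ha b hb)
      rw [cm_mul, cm_add, cm_add, h5, add_zero] at h4
      exact eq_of_add h4

theorem NB.inv_eq {φ : Du V} {B : Subgroup G} (h : NB φ B) {b : G} (hb : b ∈ B) : b⁻¹ = b :=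
  inv_eq_of_mul_eq_one_left (h.sq b hb)

/-- `|[E_B, b]| ≤ 2` for some member `B` and `1 ≠ b ∈ B` -/
def Fo (P : Subgroup G → Du V → Prop) : Prop :=
  ∃ B φ, P B φ ∧ ∃ b ∈ B, b ≠ 1 ∧ ∃ w : V, ∀ e : V, φ e = 0 → cm b e = 0 ∨ cm b e = w

/-- `y` lies in the kernel of `ψ` only -/
def Yv (P : Subgroup G → Du V → Prop) (ψ : Du V) (y : V) : Prop := ψ y = 0 ∧ ∀ χ ∈ De P, χ ≠ ψ → χ y = 1

namespace Loc

variable {P : Subgroup G → Du V → Prop} (h : Loc P)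
include h

theorem exists_other {φ : Du V} (hφ : φ ∈ De P) : ∃ ψ ∈ De P, ψ ≠ φ := by
  by_contra hc
  push Not at hc
  apply h.stab_ne hφ
  rw [eq_top_iff]
  intro g _
  exact hc _ (h.dua_mem hφ g)

/-- a member fixes its functional and no other one -/
theorem eq_of_le {B : Subgroup G} {φ ψ : Du V} (hB : P B φ) (hψ : ψ ∈ De P) (hle : B ≤ stabF G ψ) : ψ = φ := by
  obtain ⟨C, hC⟩ := hψ
  exact h.up B φ C ψ hB hC hle

theorem dua_ne {B : Subgroup G} {φ ψ : Du V} (hB : P B φ) {b : G} (hb : b ∈ B) (hne : ψ ≠ φ) : dua b ψ ≠ φ := by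
  intro h0
  apply hne
  have h1 : dua b φ = φ := h.le_stab hB hb
  exact dua_inj (h0.trans h1.symm)

/-! ### three functionals -/

theorem small_of_zero [Finite G] {B : Subgroup G} {φ : Du V} (hB : P B φ) (h0 : ∀ v, Fx B v → v ∈ Vi P) :
    ∃ α β : Du V, ∀ χ ∈ De P, χ = φ ∨ χ = α ∨ χ = β := by
  obtain ⟨ψ, hψ, hne⟩ := h.exists_other ⟨B, hB⟩
  obtain ⟨g, rfl⟩ := h.trans ⟨B, hB⟩ hψ
  have key : ∀ (B : Subgroup G) (φ : Du V), P B φ → (∀ v, Fx B v → v ∈ Vi P) → ∀ ψ ∈ De P, ∀ b ∈ B,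
      dua b ψ = ψ ∨ dua b ψ = φ + ψ := by
    intro B φ hB h0 ψ hψ b hb
    have h1 := eq_of_hyper (φ := φ) (ψ := dua b ψ + ψ) fun e he => by
      change ψ (b⁻¹ • e) + ψ e = 0
      rw [← map_add]
      exact h0 _ ((h.nb B φ hB).ed e he _ (inv_mem hb)) ψ hψ
    rcases h1 with h1 | h1
    · exact Or.inl (eq_of_add h1)
    · right
      rw [← h1, add_add_self]
  have hC := h.conj g B φ hB
  have h0' : ∀ v, Fx (B.map (MulAut.conj g).toMonoidHom) v → v ∈ Vi P := by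
    intro v hv
    have h1 : g⁻¹ • v ∈ Vi P := by
      refine h0 _ fun b hb => ?_
      have h2 := hv _ ⟨b, hb, rfl⟩
      change (g * b * g⁻¹) • v = v at h2
      rw [mul_smul, mul_smul, ← eq_inv_smul_iff] at h2
      exact h2
    have h2 := h.smul_Vi h1 g
    rwa [smul_inv_smul] at h2
  refine ⟨dua g φ, φ + dua g φ, ?_⟩
  generalize dua g φ = ψ at *
  generalize B.map (MulAut.conj g).toMonoidHom = C at *
  let p : Du V → Prop := fun χ => χ = φ ∨ χ = ψ ∨ χ = φ + ψ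
  have hpB : ∀ b ∈ B, ∀ χ, p χ → p (dua b χ) := by
    intro b hb χ hχ
    have h1 : dua b φ = φ := h.le_stab hB hb
    rcases hχ with rfl | rfl | rfl
    · exact Or.inl h1
    · rcases key B φ hB h0 _ hψ b hb with h2 | h2
      · exact Or.inr (Or.inl h2)
      · exact Or.inr (Or.inr h2)
    · rw [dua_add, h1]
      rcases key B φ hB h0 _ hψ b hb with h2 | h2
      · rw [h2]
        exact Or.inr (Or.inr rfl)
      · rw [h2, ← add_assoc, add_self, zero_add]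
        exact Or.inr (Or.inl rfl)
  have hpC : ∀ c ∈ C, ∀ χ, p χ → p (dua c χ) := by
    intro b hb χ hχ
    have h1 : dua b ψ = ψ := h.le_stab hC hb
    rcases hχ with rfl | rfl | rfl
    · rcases key C ψ hC h0' _ ⟨B, hB⟩ b hb with h2 | h2
      · exact Or.inl h2
      · right; right
        rw [h2, add_comm]
    · exact Or.inr (Or.inl h1)
    · rw [dua_add, h1]
      rcases key C ψ hC h0' _ ⟨B, hB⟩ b hb with h2 | h2
      · rw [h2]
        exact Or.inr (Or.inr rfl)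
      · left
        rw [h2, add_comm ψ φ, add_add_self]
  let I : Subgroup G :=
    { carrier := {g | ∀ χ, p χ ↔ p (dua g χ)}
      one_mem' := fun w => by rw [dua_one]
      mul_mem' := by
        intro a b ha hb w
        rw [dua_mul, ← ha, ← hb]
      inv_mem' := by
        intro a ha w
        rw [ha (dua a⁻¹ w), ← dua_mul, mul_inv_cancel, dua_one] }
  have hI : I = ⊤ := by
    rw [eq_top_iff, ← h.gen B φ C ψ hB hC hne.symm, sup_le_iff]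
    constructor
    · intro b hb w
      refine ⟨hpB b hb w, fun h1 => ?_⟩
      have h2 := hpB b⁻¹ (inv_mem hb) _ h1
      rwa [dua_inv] at h2
    · intro b hb w
      refine ⟨hpC b hb w, fun h1 => ?_⟩
      have h2 := hpC b⁻¹ (inv_mem hb) _ h1
      rwa [dua_inv] at h2
  intro χ hχ
  obtain ⟨k, rfl⟩ := h.trans ⟨B, hB⟩ hχ
  have h1 : k ∈ I := hI ▸ mem_top k
  exact (h1 φ).1 (Or.inl rfl)

/-- an element of `B` outside the kernel swaps the two other functionals -/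
theorem swap {B : Subgroup G} {φ ψ ψ' : Du V} (hB : P B φ) (hψ : ψ ∈ De P) (hψ' : ψ' ∈ De P) (h1 : ψ ≠ φ)
    (h2 : ψ' ≠ φ) (h3 : ψ' ≠ ψ) (hs : ∀ χ ∈ De P, χ = φ ∨ χ = ψ ∨ χ = ψ') {a : G} (ha : a ∈ B)
    (haK : a ∉ Ke P) : dua a ψ = ψ' ∧ dua a ψ' = ψ := by
  have h4 := ((hs _ (h.dua_mem hψ a)).resolve_left (h.dua_ne hB ha h1))
  have h5 := ((hs _ (h.dua_mem hψ' a)).resolve_left (h.dua_ne hB ha h2))
  rcases h4 with h4 | h4
  · exfalso
    have h6 : dua a ψ' = ψ' := h5.resolve_left fun h6 => h3 (dua_inj (h6.trans h4.symm))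
    apply haK
    intro χ hχ
    rcases hs χ hχ with rfl | rfl | rfl
    · exact h.le_stab hB ha
    · exact h4
    · exact h6
  · exact ⟨h4, h5.resolve_right fun h6 => h3 (dua_inj (h6.trans h4.symm))⟩

theorem idx3 {B : Subgroup G} {φ α β : Du V} (hB : P B φ) (hs : ∀ χ ∈ De P, χ = φ ∨ χ = α ∨ χ = β) {a a' : G}
    (ha : a ∈ B) (ha' : a' ∈ B) (haK : a ∉ Ke P) (haK' : a' ∉ Ke P) : a * a' ∈ Ke P := by
  obtain ⟨ψ, hψ, hne⟩ : ∃ ψ ∈ De P, dua a ψ ≠ ψ := by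
    by_contra hc
    push Not at hc
    exact haK hc
  have h1 : ψ ≠ φ := by
    rintro rfl
    exact hne (h.le_stab hB ha)
  have h2 := h.dua_ne hB ha h1
  have hs' : ∀ χ ∈ De P, χ = φ ∨ χ = ψ ∨ χ = dua a ψ := by
    intro χ hχ
    rcases (hs ψ hψ).resolve_left h1 with e1 | e1 <;>
      rcases (hs _ (h.dua_mem hψ a)).resolve_left h2 with e2 | e2
    · exact absurd (e2.trans e1.symm) hne
    · rw [e2, e1]
      exact hs χ hχ
    · rw [e2, e1]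
      rcases hs χ hχ with e | e | e
      · exact Or.inl e
      · exact Or.inr (Or.inr e)
      · exact Or.inr (Or.inl e)
    · exact absurd (e2.trans e1.symm) hne
  obtain ⟨e1, e2⟩ := h.swap hB hψ (h.dua_mem hψ a) h1 h2 hne hs' ha haK
  obtain ⟨e3, e4⟩ := h.swap hB hψ (h.dua_mem hψ a) h1 h2 hne hs' ha' haK'
  intro χ hχ
  rcases hs' χ hχ with rfl | rfl | rfl
  · exact h.le_stab hB (mul_mem ha ha')
  · rw [dua_mul, e3, e2]
  · rw [dua_mul, e4]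

/-- a point of `ψ` is not centralised by `B` -/
theorem not_fx {B C : Subgroup G} {φ ψ : Du V} (hB : P B φ) (hC : P C ψ) (hne : ψ ≠ φ) {z : V} (hz : Fx C z)
    (hs : ∀ g : G, g • z = z → g ∈ stabF G ψ) : ¬ Fx B z := by
  intro h1
  apply h.stab_ne ⟨C, hC⟩
  rw [eq_top_iff]
  intro g _
  exact hs g (h.fix_top hB hC hne.symm h1 hz g)

theorem exists_perp {B S : Subgroup G} {φ : Du V} (hB : P B φ) (hS : B ⊓ Ke P ≤ S)
    (hc : ∃ c ∈ B, c ∈ Ke P ∧ c ≠ 1) {z v : V} (hz : Fx S z) (hzB : ¬ Fx B z) (hv : φ v = 1) :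
    ∃ b ∈ B, b ≠ 1 ∧ Fx B (cm b v + z) ∧ ∀ c ∈ B, c ∈ Ke P → cm c (cm b v) = 0 := by
  obtain ⟨c, hc, hcK, hc1⟩ := hc
  have nB := h.nb B φ hB
  have hφz : φ z = 0 := nB.fix hc hc1 (hz c (hS ⟨hc, hcK⟩))
  obtain ⟨b, hb, hd⟩ := nB.surj v z hv hφz
  refine ⟨b, hb, ?_, hd, ?_⟩
  · rintro rfl
    rw [cm_one, zero_add] at hd
    exact hzB hd
  · intro c hc hcK
    have h1 : cm b v = z + (cm b v + z) := by
      rw [add_comm (cm b v) z]
      exact split_add z _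
    rw [h1, cm_add, cm_eq_zero.2 (hz c (hS ⟨hc, hcK⟩)), cm_eq_zero.2 (hd c hc), add_zero]

theorem four_of_small [Finite G] {B : Subgroup G} {φ α β : Du V} (hB : P B φ)
    (hs : ∀ χ ∈ De P, χ = φ ∨ χ = α ∨ χ = β) : Fo P := by
  have nB := h.nb B φ hB
  obtain ⟨v, hv⟩ := exists_one (h.nz B φ hB)
  obtain ⟨b, hb, hb1, hperp⟩ : ∃ b ∈ B, b ≠ 1 ∧ ∀ c ∈ B, c ∈ Ke P → cm c (cm b v) = 0 := by
    by_cases hK : ∃ c ∈ B, c ∈ Ke P ∧ c ≠ 1
    · obtain ⟨S, -, hS, hz⟩ := h.exists_S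
      obtain ⟨ψ, hψ, hne⟩ := h.exists_other ⟨B, hB⟩
      obtain ⟨C, hC, z, hz1, hz2, hz3⟩ := hz ψ hψ
      obtain ⟨b, hb, hb1, -, hb3⟩ := h.exists_perp hB (hS B φ hB) hK hz1 (h.not_fx hB hC hne hz2 hz3) hv
      exact ⟨b, hb, hb1, hb3⟩
    · push Not at hK
      obtain ⟨b, hb1⟩ := Subgroup.ne_bot_iff_exists_ne_one.1 nB.ne
      refine ⟨b, b.2, fun h0 => hb1 (Subtype.ext h0), fun c hc hcK => ?_⟩
      rw [hK c hc hcK, cm_one]
  refine ⟨B, φ, hB, b, hb, hb1, nB.crit hb hv (C := fun c => c ∈ Ke P) (fun c hc hcK => ?_)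
    fun a ha a' ha' h1 h2 => h.idx3 hB hs ha ha' h1 h2⟩
  rw [cm_comm (nB.comm b hb c hc)]
  exact hperp c hc hcK

/-! ### more than three functionals -/

theorem exists_fy [Finite G] (hZ : ∀ B φ, P B φ → ∃ y, Fx B y ∧ y ∉ Vi P) {B : Subgroup G} {φ : Du V}
    (hB : P B φ) : ∃ y, Fx B y ∧ Yv P φ y := by
  obtain ⟨y, hy, hyV⟩ := hZ B φ hB
  refine ⟨y, hy, (h.nb B φ hB).fx_ker hy, fun χ hχ hne => ?_⟩
  obtain ⟨C, hC⟩ := hχ
  exact eq_one_of_ne fun h0 => hyV (h.trick hB hC hne.symm hy h0)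

/-- the values of the other functionals on a `B`-fixed vector outside `Vi P` -/
theorem eq_one_of_fx [Finite G] {B : Subgroup G} {φ : Du V} (hB : P B φ) {d : V} (hd : Fx B d)
    (hdV : d ∉ Vi P) {χ : Du V} (hχ : χ ∈ De P) (hne : χ ≠ φ) : χ d = 1 := by
  obtain ⟨C, hC⟩ := hχ
  exact eq_one_of_ne fun h0 => hdV (h.trick hB hC hne.symm hd h0)

theorem yv_smul {ψ : Du V} {y : V} (hy : Yv P ψ y) (g : G) : Yv P (dua g ψ) (g • y) := by
  refine ⟨by rw [dua_apply, inv_smul_smul, hy.1], fun χ hχ hne => ?_⟩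
  rw [smul_dua_inv]
  refine hy.2 _ (h.dua_mem hχ _) fun h0 => hne ?_
  rw [← h0, ← dua_mul, mul_inv_cancel, dua_one]

theorem ke_of_cm {B : Subgroup G} {φ : Du V} (hB : P B φ) {b : G} (hb : b ∈ B) {y : V} (hy : φ y = 1)
    (hbV : cm b y ∈ Vi P) : b ∈ Ke P := by
  have nB := h.nb B φ hB
  have h1 : ∀ u, φ u = 0 → cm b u ∈ Vi P := by
    intro u hu
    obtain ⟨c, hc, hd⟩ := nB.surj y u hy hu
    rw [split_add (cm c y) u, cm_add, cm_eq_zero.2 (hd b hb), add_zero, cm_comm (nB.comm b hb c hc)]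
    exact add_mem (h.smul_Vi hbV c) hbV
  have h2 : ∀ u, cm b u ∈ Vi P := by
    intro u
    rcases zmod_cases (φ u) with hu | hu
    · exact h1 u hu
    · rw [split_add y u, cm_add]
      exact add_mem hbV (h1 _ (by rw [map_add, hy, hu, one_add_one]))
  intro χ hχ
  ext u
  rw [dua_apply, nB.inv_eq hb]
  have h3 : χ (cm b u) = 0 := h2 u χ hχ
  rw [cm, map_add] at h3
  exact eq_of_add h3

theorem not_le_ke {B : Subgroup G} {φ : Du V} (hB : P B φ) : ∃ b ∈ B, b ∉ Ke P := by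
  by_contra hc
  push Not at hc
  obtain ⟨ψ, hψ, hne⟩ := h.exists_other ⟨B, hB⟩
  exact hne (h.eq_of_le hB hψ fun b hb => hc b hb ψ hψ)

section Big

variable [Finite G] (hZ : ∀ B φ, P B φ → ∃ y, Fx B y ∧ y ∉ Vi P)
include hZ

/-- (3a) -/
theorem ke_of_fix {B : Subgroup G} {φ ψ : Du V} (hB : P B φ) {b : G} (hb : b ∈ B) (hψ : ψ ∈ De P)
    (hne : ψ ≠ φ) (hbψ : dua b ψ = ψ) : b ∈ Ke P := by
  obtain ⟨C, hC⟩ := hψ
  obtain ⟨y, -, hy⟩ := h.exists_fy hZ hC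
  refine h.ke_of_cm hB hb (hy.2 φ ⟨B, hB⟩ hne.symm) fun χ hχ => ?_
  have hy' := h.yv_smul hy b
  rw [hbψ] at hy'
  rw [cm, map_add]
  by_cases h1 : χ = ψ
  · rw [h1, hy.1, hy'.1, add_zero]
  · rw [hy.2 χ hχ h1, hy'.2 χ hχ h1, one_add_one]

theorem ke_of_eq {B : Subgroup G} {φ ψ : Du V} (hB : P B φ) {a b : G} (ha : a ∈ B) (hb : b ∈ B)
    (hψ : ψ ∈ De P) (hne : ψ ≠ φ) (he : dua a ψ = dua b ψ) : a * b ∈ Ke P := by
  have nB := h.nb B φ hB
  have h1 : dua (b⁻¹ * a) ψ = ψ := by rw [dua_mul, he, dua_inv]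
  have h2 := h.ke_of_fix hZ hB (mul_mem (inv_mem hb) ha) hψ hne h1
  rwa [nB.inv_eq hb, nB.comm b hb a ha] at h2

variable (hL : ∀ φ ∈ De P, ∀ α β : Du V, ∃ χ ∈ De P, χ ≠ φ ∧ χ ≠ α ∧ χ ≠ β)
include hL

/-- (3b) -/
theorem ke_of_mod {B : Subgroup G} {φ : Du V} (hB : P B φ) {b : G} (hb : b ∈ B) {v d : V} (hv : φ v = 1)
    (hd : Fx B d) (hbd : cm b v + d ∈ Vi P) : b ∈ Ke P := by
  have nB := h.nb B φ hB
  obtain ⟨ψ, hψ, hne⟩ := h.exists_other ⟨B, hB⟩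
  obtain ⟨C, hC⟩ := hψ
  obtain ⟨y, -, hy⟩ := h.exists_fy hZ hC
  have hy1 : φ y = 1 := hy.2 φ ⟨B, hB⟩ hne.symm
  have hd' : Fx B (d + cm b (v + y)) := hd.add (nB.ed _ (by rw [map_add, hv, hy1, one_add_one]) b hb)
  have h1 : cm b y + (d + cm b (v + y)) ∈ Vi P := by
    have h2 : cm b y + (d + cm b (v + y)) = cm b v + d + (cm b y + cm b y) := by
      rw [cm_add]
      abel
    rw [h2, add_self, add_zero]
    exact hbd
  by_cases h2 : d + cm b (v + y) ∈ Vi P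
  · refine h.ke_of_cm hB hb hy1 ?_
    have h3 := add_mem h1 h2
    rwa [add_add_self] at h3
  · exfalso
    obtain ⟨χ, hχ, h3, h4, h5⟩ := hL φ ⟨B, hB⟩ ψ (dua b ψ)
    have h6 : χ (cm b y) = 0 := by
      rw [cm, map_add, (h.yv_smul hy b).2 χ hχ h5, hy.2 χ hχ h4, one_add_one]
    have h7 := h1 χ hχ
    rw [map_add, h6, zero_add, h.eq_one_of_fx hB hd' h2 hχ h3] at h7
    exact one_ne h7

/-- at most five functionals -/
theorem five {B : Subgroup G} {φ ψ χ : Du V} (hB : P B φ) {b : G} (hb : b ∈ B) (hbK : b ∉ Ke P)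
    (hψ : ψ ∈ De P) (hψφ : ψ ≠ φ) (hχ : χ ∈ De P) (hχφ : χ ≠ φ) (hχψ : χ ≠ ψ) (hχb : χ ≠ dua b ψ) :
    ∀ θ ∈ De P, θ = φ ∨ θ = ψ ∨ θ = dua b ψ ∨ θ = χ ∨ θ = dua b χ := by
  have nB := h.nb B φ hB
  obtain ⟨C, hC⟩ := id hψ
  obtain ⟨y, -, hy⟩ := h.exists_fy hZ hC
  obtain ⟨C', hC'⟩ := id hχ
  obtain ⟨x, -, hx⟩ := h.exists_fy hZ hC'
  have hb2 : dua b ψ ≠ ψ := fun h0 => hbK (h.ke_of_fix hZ hB hb hψ hψφ h0)
  have hb3 : ψ ≠ dua b χ := by
    intro h0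
    apply hχb
    rw [h0, ← dua_mul, nB.sq b hb, dua_one]
  have he : φ (y + x) = 0 := by
    rw [map_add, hy.2 φ ⟨B, hB⟩ hψφ.symm, hx.2 φ ⟨B, hB⟩ hχφ.symm, one_add_one]
  have hd : Fx B (cm b (y + x)) := nB.ed _ he b hb
  have hy' := h.yv_smul hy b
  have hx' := h.yv_smul hx b
  have hcm : ∀ θ : Du V, θ (cm b (y + x)) = θ (b • y) + θ y + (θ (b • x) + θ x) := by
    intro θ
    rw [cm_add, map_add, cm, cm, map_add, map_add]
  have hdV : cm b (y + x) ∉ Vi P := by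
    intro h0
    have h1 := h0 ψ hψ
    rw [hcm, hy.1, hy'.2 ψ hψ hb2.symm, hx.2 ψ hψ hχψ.symm, hx'.2 ψ hψ hb3, one_add_one, add_zero] at h1
    exact one_ne h1
  intro θ hθ
  by_contra hc
  push Not at hc
  obtain ⟨c1, c2, c3, c4, c5⟩ := hc
  have h1 := h.eq_one_of_fx hB hd hdV hθ c1
  rw [hcm, hy.2 θ hθ c2, hy'.2 θ hθ c3, hx.2 θ hθ c4, hx'.2 θ hθ c5, one_add_one, add_zero] at h1
  exact one_ne h1.symm

theorem four_of_perp {B : Subgroup G} {φ : Du V} (hB : P B φ) {b : G} (hb : b ∈ B) (hbK : b ∉ Ke P) {v : V}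
    (hv : φ v = 1) (hperp : ∀ c ∈ B, c ∈ Ke P → cm c (cm b v) = 0) : Fo P := by
  have nB := h.nb B φ hB
  have hb1 : b ≠ 1 := by
    rintro rfl
    exact hbK (one_mem _)
  have hbb : cm b (cm b v) = 0 := cm_eq_zero.2 (nB.smul_cm_self hb v)
  refine ⟨B, φ, hB, b, hb, hb1, nB.crit hb hv (C := fun c => c ∈ Ke P ∨ c * b ∈ Ke P) ?_ ?_⟩
  · intro c hc hcK
    rw [cm_comm (nB.comm b hb c hc)]
    rcases hcK with hcK | hcK
    · exact hperp c hc hcK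
    · have h1 := hperp _ (mul_mem hc hb) hcK
      rwa [cm_mul, hbb, cm_zero, add_zero, add_zero] at h1
  · intro a ha a' ha' h1 h2
    push Not at h1 h2
    obtain ⟨h1, h1'⟩ := h1
    obtain ⟨h2, h2'⟩ := h2
    obtain ⟨ψ, hψ, hne⟩ := h.exists_other ⟨B, hB⟩
    have key : ∀ c ∈ B, c ∉ Ke P → dua c ψ ≠ ψ := fun c hc hcK h0 => hcK (h.ke_of_fix hZ hB hc hψ hne h0)
    have key2 : ∀ c ∈ B, c * b ∉ Ke P → dua c ψ ≠ dua b ψ := fun c hc hcK h0 =>
      hcK (h.ke_of_eq hZ hB hc hb hψ hne h0)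
    have h5 := h.five hZ hL hB hb hbK hψ hne (h.dua_mem hψ a) (h.dua_ne hB ha hne) (key a ha h1)
      (key2 a ha h1') _ (h.dua_mem hψ a')
    rcases h5 with h5 | h5 | h5 | h5 | h5
    · exact absurd h5 (h.dua_ne hB ha' hne)
    · exact absurd h5 (key a' ha' h2)
    · exact absurd h5 (key2 a' ha' h2')
    · left
      have h6 := h.ke_of_eq hZ hB ha' ha hψ hne h5
      rwa [nB.comm a' ha' a ha] at h6
    · right
      rw [← dua_mul] at h5
      have h6 := h.ke_of_eq hZ hB ha' (mul_mem hb ha) hψ hne h5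
      have h7 : a' * (b * a) = a * a' * b := by
        rw [nB.comm b hb a ha, ← mul_assoc, nB.comm a' ha' a ha]
      rwa [h7] at h6

end Big

end Loc

end Cfsg.Agent.Omega.NearFF
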