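import Cfsg.Agent.Omega.NearFF.Up
import Cfsg.Agent.Lib.SylowNormalInf

/-!
# (BT), `|V/E| = 2`: minimal pairs (helper817; project OMEGA, leaf N1)

`G = ⟨B, C⟩` is generated by any two near-offenders with different functionals.
`De P` = the set of functionals, `Vi P` = the intersection of their kernels, `Ke P` = the kernel of `G` on `De P`.

* `Loc.trick` : `C_V(B) ∩ ker ψ ≤ Vi P` for `φ ≠ ψ`;
* `Loc.exists_S` : `O₂(G) ∩ Ke P` is a Sylow 2-subgroup of `Ke P`, and the points it centralises.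
-/

set_option autoImplicit false
set_option linter.unusedSectionVars false

namespace Cfsg.Agent.Omega.NearFF

open Subgroup Cfsg.Agent.Omega.Transv

variable {G : Type*} [Group G] {V : Type*} [AddCommGroup V] [Module (ZMod 2) V] [DistribMulAction G V]

theorem NB.fx_ker {φ : Du V} {B : Subgroup G} (h : NB φ B) {v : V} (hv : Fx B v) : φ v = 0 := by
  obtain ⟨b, hb1⟩ := Subgroup.ne_bot_iff_exists_ne_one.1 h.ne
  exact h.fix b.2 (fun h0 => hb1 (Subtype.ext h0)) (hv b b.2)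

/-- The datum of a minimal pair. -/
structure Loc (P : Subgroup G → Du V → Prop) : Prop where
  faith : Faith G V
  noff : ∀ A : Subgroup G, A ≠ ⊥ → (∀ a ∈ A, ∀ b ∈ A, a * b = b * a) → (∀ a ∈ A, a * a = 1) →
    Nat.card A * Nat.card {v : V // Fx A v} < Nat.card V
  nz : ∀ B φ, P B φ → φ ≠ 0
  nb : ∀ B φ, P B φ → NB φ B
  conj : ∀ (g : G) B φ, P B φ → P (B.map (MulAut.conj g).toMonoidHom) (dua g φ)
  up : ∀ B φ C ψ, P B φ → P C ψ → B ≤ stabF G ψ → ψ = φ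
  syl : ∀ B φ, P B φ → ∀ R : Subgroup G, IsPGroup 2 R → B ≤ R →
    ∃ x : V, Fx R x ∧ ∀ g : G, g • x = x → g ∈ stabF G φ
  two : ∃ B φ C ψ, P B φ ∧ P C ψ ∧ φ ≠ ψ
  gen : ∀ B φ C ψ, P B φ → P C ψ → φ ≠ ψ → B ⊔ C = ⊤

/-- the functionals -/
def De (P : Subgroup G → Du V → Prop) : Set (Du V) := {φ | ∃ B, P B φ}

/-- the intersection of their kernels -/
def Vi (P : Subgroup G → Du V → Prop) : Submodule (ZMod 2) V where
  carrier := {v | ∀ φ ∈ De P, φ v = 0}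
  zero_mem' := fun φ _ => map_zero φ
  add_mem' := by
    intro a b ha hb φ hφ
    rw [map_add, ha φ hφ, hb φ hφ, add_zero]
  smul_mem' := by
    intro c v hv φ hφ
    rw [map_smul, hv φ hφ, smul_zero]

theorem mem_Vi {P : Subgroup G → Du V → Prop} {v : V} : v ∈ Vi P ↔ ∀ φ ∈ De P, φ v = 0 := Iff.rfl

/-- the kernel of `G` on the functionals -/
def Ke (P : Subgroup G → Du V → Prop) : Subgroup G where
  carrier := {g | ∀ φ ∈ De P, dua g φ = φ}
  one_mem' := fun φ _ => dua_one φ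
  mul_mem' := by
    intro a b ha hb φ hφ
    rw [dua_mul, hb φ hφ, ha φ hφ]
  inv_mem' := by
    intro a ha φ hφ
    conv_lhs => rw [← ha φ hφ, dua_inv]

theorem mem_Ke {P : Subgroup G → Du V → Prop} {g : G} : g ∈ Ke P ↔ ∀ φ ∈ De P, dua g φ = φ := Iff.rfl

theorem smul_dua_inv (g : G) (φ : Du V) (v : V) : φ (g • v) = dua g⁻¹ φ v := by
  rw [dua_apply, inv_inv]

theorem dua_inv_eq {g : G} {φ ψ : Du V} (h : dua g φ = ψ) : dua g⁻¹ ψ = φ := by
  rw [← h, dua_inv]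

theorem dua_inj {g : G} {φ ψ : Du V} (h : dua g φ = dua g ψ) : φ = ψ := by
  have h1 := congrArg (dua g⁻¹) h
  rwa [dua_inv, dua_inv] at h1

namespace Loc

variable {P : Subgroup G → Du V → Prop} (h : Loc P)
include h

theorem dua_mem {φ : Du V} (hφ : φ ∈ De P) (g : G) : dua g φ ∈ De P := by
  obtain ⟨B, hB⟩ := hφ
  exact ⟨_, h.conj g B φ hB⟩

theorem le_stab {B : Subgroup G} {φ : Du V} (hB : P B φ) : B ≤ stabF G φ := by
  intro b hb
  rw [mem_stabF]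
  ext v
  rw [dua_apply, (h.nb B φ hB).inv _ (inv_mem hb)]

/-- (H) -/
theorem stab_of_le {B : Subgroup G} {φ : Du V} (hB : P B φ) {H : Subgroup G} (hBH : B ≤ H) (hH : H ≠ ⊤) :
    H ≤ stabF G φ := by
  intro g hg
  by_contra hne
  have h1 := h.gen B φ _ _ hB (h.conj g B φ hB) (fun h0 => hne (mem_stabF.2 h0.symm))
  apply hH
  rw [eq_top_iff, ← h1, sup_le_iff]
  refine ⟨hBH, ?_⟩
  rintro _ ⟨b, hb, rfl⟩
  exact H.mul_mem (H.mul_mem hg (hBH hb)) (H.inv_mem hg)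

theorem stab_ne {φ : Du V} (hφ : φ ∈ De P) : stabF G φ ≠ ⊤ := by
  intro h0
  obtain ⟨B, hB⟩ := hφ
  obtain ⟨B1, φ1, C1, ψ1, h1, h2, h3⟩ := h.two
  have e1 := h.up B1 φ1 B φ h1 hB (h0 ▸ le_top)
  have e2 := h.up C1 ψ1 B φ h2 hB (h0 ▸ le_top)
  exact h3 (e1.symm.trans e2)

theorem isP {B : Subgroup G} {φ : Du V} (hB : P B φ) : IsPGroup 2 B := by
  rintro ⟨b, hb⟩
  refine ⟨1, Subtype.ext ?_⟩
  change b ^ 2 ^ 1 = 1
  rw [pow_one, pow_two, (h.nb B φ hB).sq b hb]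

/-- a 2-group over a member fixes only its functional -/
theorem eq_dua [Finite G] {B C : Subgroup G} {φ ψ : Du V} (hB : P B φ) (hC : P C ψ) {g : G} {R : Subgroup G}
    (hR : IsPGroup 2 R) (hBR : B ≤ R) (hCR : ∀ c ∈ C, g⁻¹ * c * g ∈ R) : ψ = dua g φ := by
  obtain ⟨x, hx, hs⟩ := h.syl B φ hB R hR hBR
  refine (h.up C ψ _ _ hC (h.conj g B φ hB) ?_).symm
  intro c hc
  have h1 : g⁻¹ * c * g ∈ stabF G φ := hs _ (hx _ (hCR c hc))
  rw [mem_stabF] at h1 ⊢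
  rw [dua_mul, dua_mul] at h1
  have h2 := congrArg (dua g) h1
  rwa [← dua_mul, mul_inv_cancel, dua_one] at h2

/-- `G` is transitive on the functionals -/
theorem trans [Finite G] {φ ψ : Du V} (hφ : φ ∈ De P) (hψ : ψ ∈ De P) : ∃ g : G, ψ = dua g φ := by
  have : Fact (Nat.Prime 2) := ⟨Nat.prime_two⟩
  obtain ⟨B, hB⟩ := hφ
  obtain ⟨C, hC⟩ := hψ
  obtain ⟨R, hR⟩ := (h.isP hB).exists_le_sylow
  obtain ⟨R', hR'⟩ := (h.isP hC).exists_le_sylow
  obtain ⟨g, hg⟩ := MulAction.exists_smul_eq G R R'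
  refine ⟨g, h.eq_dua hB hC R.isPGroup' hR fun c hc => ?_⟩
  have h1 := hR' hc
  rw [← hg, Sylow.coe_subgroup_smul, Subgroup.mem_pointwise_smul_iff_inv_smul_mem] at h1
  rwa [← map_inv, MulAut.smul_def, MulAut.conj_apply, inv_inv] at h1

theorem smul_Vi {v : V} (hv : v ∈ Vi P) (g : G) : g • v ∈ Vi P := by
  intro φ hφ
  rw [smul_dua_inv]
  exact hv _ (h.dua_mem hφ _)

/-- a `G`-invariant subset of `ker φ` lies in `Vi P` -/
theorem le_Vi [Finite G] {φ : Du V} (hφ : φ ∈ De P) {p : V → Prop} (hp : ∀ (g : G) (v : V), p v → p (g • v))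
    (hk : ∀ v, p v → φ v = 0) {v : V} (hv : p v) : v ∈ Vi P := by
  intro ψ hψ
  obtain ⟨g, rfl⟩ := h.trans hφ hψ
  exact hk _ (hp _ _ hv)

theorem fix_top {B C : Subgroup G} {φ ψ : Du V} (hB : P B φ) (hC : P C ψ) (hne : φ ≠ ψ) {v : V}
    (h1 : Fx B v) (h2 : Fx C v) (g : G) : g • v = v := by
  have h3 : B ⊔ C ≤ MulAction.stabilizer G v := sup_le (fun b hb => h1 b hb) fun c hc => h2 c hc
  rw [h.gen B φ C ψ hB hC hne] at h3
  exact h3 (mem_top g)

theorem cm_mem_of_stab {ψ : Du V} {a : G} (ha : a ∈ stabF G ψ) (u : V) : ψ (cm a u) = 0 := by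
  rw [cm, map_add, stabF_apply ha, add_self]

/-- the half of the trick -/
theorem half {B C : Subgroup G} {φ ψ : Du V} (hB : P B φ) (hC : P C ψ) {x : V}
    (hx : φ x = 0) (hCx : Fx C x) {b : G} (hb : b ∈ B) : Fx B (cm b x) ∧ ψ (cm b x) = 0 := by
  have nB := h.nb B φ hB
  refine ⟨nB.ed x hx b hb, ?_⟩
  obtain ⟨v, hv⟩ := exists_one (h.nz B φ hB)
  obtain ⟨a, ha, hd⟩ := nB.surj v x hv hx
  have h1 : x = cm a v + (cm a v + x) := by
    rw [← add_assoc, add_self, zero_add]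
  have hax : a • x = x := by
    conv_lhs => rw [h1, smul_add, nB.smul_cm_self ha, hd a ha]
    exact h1.symm
  by_cases hs : MulAction.stabilizer G x = ⊤
  · have h2 : b • x = x := by
      have h3 : b ∈ MulAction.stabilizer G x := hs ▸ mem_top b
      exact h3
    rw [cm_eq_zero.2 h2, map_zero]
  · have h2 : MulAction.stabilizer G x ≤ stabF G ψ := h.stab_of_le hC (fun c hc => hCx c hc) hs
    have h3 : cm b x = cm a (cm b v) := by
      conv_lhs => rw [h1, cm_add, cm_eq_zero.2 (hd b hb), add_zero]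
      exact cm_comm (nB.comm b hb a ha) v
    rw [h3]
    exact h.cm_mem_of_stab (h2 hax) _

/-- **THE TRICK**: `C_V(B) ∩ ker ψ ≤ Vi P` -/
theorem trick [Finite G] {B C : Subgroup G} {φ ψ : Du V} (hB : P B φ) (hC : P C ψ) (hne : φ ≠ ψ) {x : V}
    (hx : Fx B x) (hψ : ψ x = 0) : x ∈ Vi P := by
  let p : V → Prop := fun w => ∃ s t, w = s + t ∧ (Fx B s ∧ ψ s = 0) ∧ (Fx C t ∧ φ t = 0)
  have hpB : ∀ b ∈ B, ∀ w, p w → p (b • w) := by
    rintro b hb _ ⟨s, t, rfl, ⟨hs1, hs2⟩, ht1, ht2⟩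
    obtain ⟨h1, h2⟩ := h.half hB hC ht2 ht1 hb
    refine ⟨s + cm b t, t, ?_, ⟨hs1.add h1, by rw [map_add, hs2, h2, add_zero]⟩, ht1, ht2⟩
    rw [smul_add, hs1 b hb, smul_eq_add_cm b t]
    abel
  have hpC : ∀ c ∈ C, ∀ w, p w → p (c • w) := by
    rintro c hc _ ⟨s, t, rfl, ⟨hs1, hs2⟩, ht1, ht2⟩
    obtain ⟨h1, h2⟩ := h.half hC hB hs2 hs1 hc
    refine ⟨s, t + cm c s, ?_, ⟨hs1, hs2⟩, ht1.add h1, by rw [map_add, ht2, h2, add_zero]⟩
    rw [smul_add, ht1 c hc, smul_eq_add_cm c s]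
    abel
  let I : Subgroup G :=
    { carrier := {g | ∀ w, p w ↔ p (g • w)}
      one_mem' := fun w => by rw [one_smul]
      mul_mem' := by
        intro a b ha hb w
        rw [mul_smul, ← ha, ← hb]
      inv_mem' := by
        intro a ha w
        rw [ha (a⁻¹ • w), smul_inv_smul] }
  have hI : I = ⊤ := by
    rw [eq_top_iff, ← h.gen B φ C ψ hB hC hne, sup_le_iff]
    constructor
    · intro b hb w
      refine ⟨hpB b hb w, fun h1 => ?_⟩
      have h2 := hpB b⁻¹ (inv_mem hb) _ h1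
      rwa [inv_smul_smul] at h2
    · intro b hb w
      refine ⟨hpC b hb w, fun h1 => ?_⟩
      have h2 := hpC b⁻¹ (inv_mem hb) _ h1
      rwa [inv_smul_smul] at h2
  refine h.le_Vi ⟨B, hB⟩ (p := p) (fun g v hv => ?_) ?_ (v := x) ⟨x, 0, (add_zero x).symm, ⟨hx, hψ⟩, Fx.zero C, map_zero φ⟩
  · have h1 : g ∈ I := hI ▸ mem_top g
    exact (h1 v).1 hv
  · rintro _ ⟨s, t, rfl, ⟨hs1, -⟩, -, ht2⟩
    rw [map_add, (h.nb B φ hB).fx_ker hs1, ht2, add_zero]

theorem Ke_normal : (Ke P).Normal := by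
  constructor
  intro k hk g φ hφ
  rw [dua_mul, dua_mul, hk _ (h.dua_mem hφ _), ← dua_mul, mul_inv_cancel, dua_one]

theorem Ke_le {φ : Du V} (hφ : φ ∈ De P) : Ke P ≤ stabF G φ := fun _ hk => hk φ hφ

/-- the normal Sylow subgroup of the kernel and its fixed points -/
theorem exists_S [Finite G] : ∃ S : Subgroup G, S.Normal ∧ (∀ B φ, P B φ → B ⊓ Ke P ≤ S) ∧
    ∀ ψ ∈ De P, ∃ C, P C ψ ∧ ∃ z : V, Fx S z ∧ Fx C z ∧ ∀ g : G, g • z = z → g ∈ stabF G ψ := by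
  have : Fact (Nat.Prime 2) := ⟨Nat.prime_two⟩
  obtain ⟨B0, φ0, -, -, hB0, -, -⟩ := h.two
  obtain ⟨R, hR⟩ := (h.isP hB0).exists_le_sylow
  obtain ⟨x, hx, hs⟩ := h.syl B0 φ0 hB0 R R.isPGroup' hR
  have hK := h.Ke_normal
  have hfr := Lib.SylowNormalInf.normalizer_inf_sup_eq_top R (Ke P)
  have hRn : (R : Subgroup G) ≤ normalizer (((R : Subgroup G) ⊓ Ke P : Subgroup G) : Set G) := by
    intro r hr
    rw [mem_normalizer_iff]
    intro y
    constructor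
    · intro h12
      obtain ⟨h1, h2⟩ := mem_inf.1 h12
      exact mem_inf.2 ⟨mul_mem (mul_mem hr h1) (inv_mem hr), hK.conj_mem y h2 r⟩
    · intro h12
      obtain ⟨h1, h2⟩ := mem_inf.1 h12
      have h3 := mul_mem (mul_mem (inv_mem hr) h1) hr
      have h4 := hK.conj_mem _ h2 r⁻¹
      have e1 : r⁻¹ * (r * y * r⁻¹) * r = y := by group
      have e2 : r⁻¹ * (r * y * r⁻¹) * r⁻¹⁻¹ = y := by group
      rw [e1] at h3
      rw [e2] at h4
      exact mem_inf.2 ⟨h3, h4⟩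
  have htop : normalizer (((R : Subgroup G) ⊓ Ke P : Subgroup G) : Set G) = ⊤ := by
    by_contra hne
    have h1 := h.stab_of_le hB0 (hR.trans hRn) hne
    apply h.stab_ne ⟨B0, hB0⟩
    rw [eq_top_iff, ← hfr]
    exact sup_le h1 (h.Ke_le ⟨B0, hB0⟩)
  have hSn : ((R : Subgroup G) ⊓ Ke P : Subgroup G).Normal := normalizer_eq_top_iff.1 htop
  refine ⟨(R : Subgroup G) ⊓ Ke P, hSn, ?_, ?_⟩
  · rintro B φ hB b ⟨hb, hbK⟩
    obtain ⟨R', hR'⟩ := (h.isP hB).exists_le_sylow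
    obtain ⟨g, hg⟩ := MulAction.exists_smul_eq G R R'
    have h1 := hR' hb
    rw [← hg, Sylow.coe_subgroup_smul, Subgroup.mem_pointwise_smul_iff_inv_smul_mem,
      ← map_inv, MulAut.smul_def, MulAut.conj_apply, inv_inv] at h1
    have h2 := hK.conj_mem b hbK g⁻¹
    rw [inv_inv] at h2
    have h3 := hSn.conj_mem _ ⟨h1, h2⟩ g
    have e1 : g * (g⁻¹ * b * g) * g⁻¹ = b := by group
    rwa [e1] at h3
  · intro ψ hψ
    obtain ⟨g, rfl⟩ := h.trans ⟨B0, hB0⟩ hψ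
    refine ⟨_, h.conj g B0 φ0 hB0, g • x, ?_, ?_, ?_⟩
    · intro s hs'
      have h1 := hSn.conj_mem s hs' g⁻¹
      rw [inv_inv] at h1
      have h2 := hx _ h1.1
      rw [mul_smul, mul_smul, inv_smul_eq_iff] at h2
      exact h2
    · rintro _ ⟨b, hb, rfl⟩
      change (g * b * g⁻¹) • g • x = g • x
      rw [mul_smul, mul_smul, inv_smul_smul, hx b (hR hb)]
    · intro k hk
      have h1 : (g⁻¹ * k * g) • x = x := by
        rw [mul_smul, mul_smul, hk, inv_smul_smul]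
      have h2 := hs _ h1
      rw [mem_stabF] at h2 ⊢
      rw [dua_mul, dua_mul] at h2
      have h3 := congrArg (dua g) h2
      rwa [← dua_mul, mul_inv_cancel, dua_one] at h3

end Loc

end Cfsg.Agent.Omega.NearFF
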