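import Cfsg.Agent.Omega.NearFF.Up

/-!
# (BT), `|V/E| = 2`: minimal pairs, the submodule (G) (project OMEGA, leaf N1)

Text: helper132 (bb OMEGA, 05:30Z).  `MP φ B L w`: `L = ⟨B, B^x⟩` for all `x ∈ L` moving `φ`, `w ∈ C_V(T_L)`.

* `MP.key` : (G), `[D_{B^x} ∩ E_φ, B] ≤ D_B ∩ E_{φ^x}`;
* `MP.case2` : `⟨w^L⟩ ≤ E_φ` unless `|[E, b]| = 2` for some `1 ≠ b ∈ B`.
-/

set_option autoImplicit false
set_option linter.unusedSectionVars false

namespace Cfsg.Agent.Omega.NearFF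

open Subgroup Cfsg.Agent.Omega.Transv

variable {Y : Type*} [Group Y] {V : Type*} [AddCommGroup V] [Module (ZMod 2) V] [DistribMulAction Y V]

/-- `|[E, b]| ≥ 4` for all `1 ≠ b ∈ B` -/
def Big (φ : Du V) (B : Subgroup Y) : Prop :=
  ∀ b ∈ B, b ≠ 1 → ∀ w : V, ∃ e : V, φ e = 0 ∧ cm b e ≠ 0 ∧ cm b e ≠ w

/-- A minimal pair: `L = ⟨B, B^x⟩` for all `x ∈ L` moving `φ`, and `w` is fixed by a Sylow 2-subgroup of `L`
containing `B`. -/
structure MP (φ : Du V) (B L : Subgroup Y) (w : V) : Prop where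
  faith : Faith Y V
  ne : φ ≠ 0
  nb : NB φ B
  le : B ≤ L
  ex : ∃ x ∈ L, dua x φ ≠ φ
  min : ∀ x ∈ L, dua x φ ≠ φ → ∀ H : Subgroup Y, B ≤ H → (∀ b ∈ B, x * b * x⁻¹ ∈ H) → L ≤ H
  fixw : Fx B w
  stab : ∀ l ∈ L, l • w = w → dua l φ = φ
  syl : ∀ x ∈ L, ∀ b ∈ B, dua b (dua x φ) = dua x φ →
    ∃ y ∈ L, dua y φ = dua x φ ∧ b • (y • w) = y • w
  core : ∀ b ∈ B, (∀ x ∈ L, dua b (dua x φ) = dua x φ) → ∀ x ∈ L, b • (x • w) = x • w
  noff : ∀ A : Subgroup Y, A ≠ ⊥ → (∀ a ∈ A, ∀ b ∈ A, a * b = b * a) → (∀ a ∈ A, a * a = 1) →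
    Nat.card A * Nat.card {v : V // Fx A v} < Nat.card V

namespace MP

variable {φ : Du V} {B L : Subgroup Y} {w : V} (h : MP φ B L w)
include h

theorem dua_B {b : Y} (hb : b ∈ B) : dua b φ = φ := by
  ext v
  rw [dua_apply, h.nb.inv _ (inv_mem hb)]

theorem inv_B {b : Y} (hb : b ∈ B) : b⁻¹ = b := inv_eq_of_mul_eq_one_left (h.nb.sq b hb)

/-- generation by `B^x` and an element `b` moving `φ^x` -/
theorem gen {x : Y} (hx : x ∈ L) {b : Y} (hb : b ∈ L) (hne : dua b (dua x φ) ≠ dua x φ) (H : Subgroup Y)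
    (h1 : ∀ c ∈ B, x * c * x⁻¹ ∈ H) (h2 : b ∈ H) : L ≤ H := by
  have h3 : dua (x⁻¹ * b * x) φ ≠ φ := by
    intro h0
    apply hne
    rw [dua_mul, dua_mul] at h0
    rw [← dua_mul, show b * x = x * (x⁻¹ * b * x) by group, dua_mul, dua_mul, dua_mul, h0]
  have h4 := h.min _ (mul_mem (mul_mem (inv_mem hx) hb) hx) h3 (H.comap (MulAut.conj x).toMonoidHom)
    (fun c hc => h1 c hc) (fun c hc => by
      change x * (x⁻¹ * b * x * c * (x⁻¹ * b * x)⁻¹) * x⁻¹ ∈ H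
      rw [show x * (x⁻¹ * b * x * c * (x⁻¹ * b * x)⁻¹) * x⁻¹ = b * (x * c * x⁻¹) * b⁻¹ by group]
      exact mul_mem (mul_mem h2 (h1 c hc)) (inv_mem h2))
  intro l hl
  have h5 : x * (x⁻¹ * l * x) * x⁻¹ ∈ H := h4 (mul_mem (mul_mem (inv_mem hx) hl) hx)
  rwa [show x * (x⁻¹ * l * x) * x⁻¹ = l by group] at h5

omit h in
theorem fx_conj {x : Y} {u : V} : Fx B (x⁻¹ • u) ↔ ∀ c ∈ B, (x * c * x⁻¹) • u = u := by
  refine forall₂_congr fun c _ => ?_
  rw [mul_smul, mul_smul]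
  constructor
  · intro h1
    rw [h1, smul_inv_smul]
  · intro h1
    rw [eq_inv_smul_iff, h1]

/-- a vector fixed by `B^x` and by an element moving `φ^x` is fixed by `L` -/
theorem fix_of {x : Y} (hx : x ∈ L) {u : V} (hu : Fx B (x⁻¹ • u)) {b : Y} (hb : b ∈ L) (hbu : b • u = u)
    (hne : dua b (dua x φ) ≠ dua x φ) : Fx L u := fun _ hl =>
  h.gen hx hb hne (MulAction.stabilizer Y u) (fun c hc => fx_conj.1 hu c hc) hbu hl

theorem fix_of2 {x : Y} (hx : x ∈ L) (hne : dua x φ ≠ φ) {u : V} (h1 : Fx B u) (h2 : Fx B (x⁻¹ • u)) :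
    Fx L u := fun _ hl =>
  h.min x hx hne (MulAction.stabilizer Y u) (fun c hc => h1 c hc) (fun c hc => fx_conj.1 h2 c hc) hl

omit h in
theorem fx_smul {l : Y} (hl : l ∈ L) {u : V} : Fx L (l • u) ↔ Fx L u := by
  constructor
  · intro h1 k hk
    have h2 := h1 (l * k * l⁻¹) (mul_mem (mul_mem hl hk) (inv_mem hl))
    rw [mul_smul, mul_smul, inv_smul_smul, smul_left_cancel_iff] at h2
    exact h2
  · intro h1 k hk
    rw [h1 l hl, h1 k hk]

theorem fix_of3 {x y : Y} (hx : x ∈ L) (hy : y ∈ L) (hne : dua x φ ≠ dua y φ) {u : V}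
    (h1 : Fx B (x⁻¹ • u)) (h2 : Fx B (y⁻¹ • u)) : Fx L u := by
  rw [← fx_smul (inv_mem hx)]
  refine h.fix_of2 (x := x⁻¹ * y) (mul_mem (inv_mem hx) hy) ?_ h1 ?_
  · intro h0
    apply hne
    rw [← h0, ← dua_mul, mul_inv_cancel_left]
    rw [h0]
  · rw [mul_inv_rev, inv_inv, mul_smul, smul_inv_smul]
    exact h2

theorem w_not : ¬ Fx L w := by
  intro h0
  obtain ⟨x, hx, hne⟩ := h.ex
  exact hne (h.stab x hx (h0 x hx))

/-- **(G)** -/
theorem key {x : Y} (hx : x ∈ L) {u : V} (hu : φ u = 0) (hf : Fx B (x⁻¹ • u)) {b : Y} (hb : b ∈ B) :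
    Fx B (cm b u) ∧ dua x φ (cm b u) = 0 := by
  refine ⟨h.nb.ed u hu b hb, ?_⟩
  by_cases hL : Fx L u
  · rw [cm_eq_zero.2 (hL b (h.le hb)), map_zero]
  · obtain ⟨c, hc, hcu, v, d, -, hd, h1⟩ := h.nb.exists_b h.ne hu
    have h2 : dua c (dua x φ) = dua x φ := by
      by_contra hne
      exact hL (h.fix_of hx hf (h.le hc) hcu hne)
    have h3 : cm b u = cm c (cm b v) := by
      rw [h1, cm_add, cm_eq_zero.2 (hd b hb), add_zero, cm_comm (h.nb.comm b hb c hc)]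
    rw [h3, cm_def, map_add]
    have h4 : dua x φ (c • cm b v) = dua x φ (cm b v) := stabF_apply (mem_stabF.2 h2) _
    rw [h4, add_self]

/-- invariance under `L` from invariance under `B` and `B^x` -/
theorem inv_of {x : Y} (hx : x ∈ L) (hne : dua x φ ≠ φ) (p : V → Prop)
    (h1 : ∀ b ∈ B, ∀ u, p u → p (b • u)) (h2 : ∀ b ∈ B, ∀ u, p u → p ((x * b * x⁻¹) • u)) :
    ∀ l ∈ L, ∀ u, p u → p (l • u) := by
  let H : Subgroup Y :=
    { carrier := {k | ∀ u, p (k • u) ↔ p u}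
      one_mem' := fun u => by rw [one_smul]
      mul_mem' := by
        intro a b ha hb u
        rw [mul_smul, ha, hb]
      inv_mem' := by
        intro a ha u
        rw [← ha, smul_inv_smul] }
  have hB : B ≤ H := by
    intro b hb u
    refine ⟨fun h3 => ?_, h1 b hb u⟩
    have h4 := h1 b hb _ h3
    rwa [smul_smul, h.nb.sq b hb, one_smul] at h4
  have hx' : ∀ b ∈ B, x * b * x⁻¹ ∈ H := by
    intro b hb u
    refine ⟨fun h3 => ?_, h2 b hb u⟩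
    have h4 := h2 b hb _ h3
    rwa [smul_smul, show x * b * x⁻¹ * (x * b * x⁻¹) = x * (b * b) * x⁻¹ by group, h.nb.sq b hb, mul_one,
      mul_inv_cancel, one_smul] at h4
  intro l hl u hu
  exact (h.min x hx hne H hB hx' hl u).2 hu

/-- **CASE 2** -/
theorem case2 (hbig : Big φ B) : ∀ l ∈ L, φ (l • w) = 0 := by
  by_contra hc
  push Not at hc
  obtain ⟨y₀, hy₀, hy₁⟩ := hc
  -- a
  have ha : ∀ x ∈ L, dua x φ ≠ φ → φ (x • w) = 1 := by
    intro x hx hne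
    refine eq_one_of_ne fun h0 => hy₁ ?_
    let p : V → Prop := fun u => ∃ g g' : V, u = g + g' ∧ (φ g = 0 ∧ Fx B (x⁻¹ • g)) ∧
      (Fx B g' ∧ dua x φ g' = 0)
    have hne' : dua x⁻¹ φ ≠ φ := by
      intro h1
      apply hne
      conv_lhs => rw [← h1, ← dua_mul, mul_inv_cancel, dua_one]
    have hp := h.inv_of hx hne p ?_ ?_
    · obtain ⟨g, g', h1, ⟨h2, -⟩, h3, -⟩ := hp (y₀ * x⁻¹) (mul_mem hy₀ (inv_mem hx)) (x • w)
        ⟨x • w, 0, (add_zero _).symm, ⟨h0, by rw [inv_smul_smul]; exact h.fixw⟩, Fx.zero B, map_zero _⟩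
      rw [mul_smul, inv_smul_smul] at h1
      rw [h1, map_add, h2, zero_add]
      obtain ⟨b, hb, hb1⟩ : ∃ b ∈ B, b ≠ 1 := by
        by_contra hc
        push Not at hc
        exact h.nb.ne ((eq_bot_iff_forall B).2 hc)
      exact h.nb.fix hb hb1 (h3 b hb)
    · rintro b hb _ ⟨g, g', rfl, ⟨h1, h2⟩, h3, h4⟩
      obtain ⟨h5, h6⟩ := h.key hx h1 h2 hb
      refine ⟨g, cm b g + g', ?_, ⟨h1, h2⟩, h5.add h3, by rw [map_add, h6, h4, add_zero]⟩
      rw [smul_add, h3 b hb, smul_eq_add_cm b g, add_assoc]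
    · rintro b hb _ ⟨g, g', rfl, ⟨h1, h2⟩, h3, h4⟩
      obtain ⟨h5, h6⟩ := h.key (inv_mem hx) (u := x⁻¹ • g') (b := b) h4
        (by rw [inv_inv, smul_inv_smul]; exact h3) hb
      have h7 : x⁻¹ • cm (x * b * x⁻¹) g' = cm b (x⁻¹ • g') := by
        rw [smul_cm_conj]
        congr 1
        group
      rw [← h7] at h5 h6
      refine ⟨cm (x * b * x⁻¹) g' + g, g', ?_, ⟨?_, ?_⟩, h3, h4⟩
      · rw [smul_add, fx_conj.1 h2 b hb, smul_eq_add_cm _ g']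
        abel
      · rw [map_add, h1, add_zero]
        rwa [dua_apply, inv_inv, smul_inv_smul] at h6
      · rw [smul_add]
        exact h5.add h2
  -- b
  have hb' : ∀ x ∈ L, dua x φ ≠ φ → ∀ b ∈ B, b ≠ 1 → dua b (dua x φ) ≠ dua x φ := by
    intro x hx hne b hb hb1 h0
    obtain ⟨y, hy, h1, h2⟩ := h.syl x hx b hb h0
    have h3 := h.nb.fix hb hb1 h2
    rw [ha y hy (by rw [h1]; exact hne)] at h3
    exact one_ne h3
  obtain ⟨x, hx, hne⟩ := h.ex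
  have hw0 : φ w = 0 := by
    obtain ⟨b, hb, hb1⟩ : ∃ b ∈ B, b ≠ 1 := by
      by_contra hc
      push Not at hc
      exact h.nb.ne ((eq_bot_iff_forall B).2 hc)
    exact h.nb.fix hb hb1 (h.fixw b hb)
  have h1 : ∀ b ∈ B, b ≠ 1 → dua x φ (cm b (x • w)) = 1 := by
    intro b hb hb1
    rw [cm_def, map_add, dua_apply, dua_apply, inv_smul_smul, hw0, add_zero, smul_smul, smul_smul]
    refine ha _ (mul_mem (mul_mem (inv_mem hx) (h.le hb)) hx) fun h0 => hb' x hx hne b hb hb1 ?_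
    rw [dua_mul, dua_mul] at h0
    have h2 : dua x (dua x⁻¹ (dua b (dua x φ))) = dua x φ := by rw [h0]
    rwa [← dua_mul, mul_inv_cancel, dua_one] at h2
  have h2 : ∀ a ∈ B, ∀ b ∈ B, a ≠ 1 → b ≠ 1 → a * b ≠ 1 → dua x φ (cm a (cm b (x • w))) = 1 := by
    intro a ha' b hb ha1 hb1 hab
    have h3 := h1 _ (mul_mem ha' hb) hab
    rw [cm_mul, map_add, map_add, h1 a ha' ha1, h1 b hb hb1, one_add_one, zero_add] at h3
    exact h3
  obtain ⟨a, ha', ha1⟩ : ∃ a ∈ B, a ≠ 1 := by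
    by_contra hc
    push Not at hc
    exact h.nb.ne ((eq_bot_iff_forall B).2 hc)
  have hv : φ (x • w) = 1 := ha x hx hne
  obtain ⟨e₁, he₁, h3, -⟩ := hbig a ha' ha1 0
  obtain ⟨e₂, he₂, h4, h5⟩ := hbig a ha' ha1 (cm a e₁)
  obtain ⟨b₁, hb₁, hd₁⟩ := h.nb.surj _ e₁ hv he₁
  obtain ⟨b₂, hb₂, hd₂⟩ := h.nb.surj _ e₂ hv he₂
  have e1 : cm a e₁ = cm a (cm b₁ (x • w)) := by
    have h6 := cm_eq_zero.2 (hd₁ a ha')
    rw [cm_add] at h6
    exact (eq_of_add h6).symm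
  have e2 : cm a e₂ = cm a (cm b₂ (x • w)) := by
    have h6 := cm_eq_zero.2 (hd₂ a ha')
    rw [cm_add] at h6
    exact (eq_of_add h6).symm
  have e3 : cm a (cm (b₁ * b₂) (x • w)) = cm a e₁ + cm a e₂ := by
    rw [cm_mul, cm_add, cm_add, e1, e2,
      cm_eq_zero.2 (h.nb.ed _ (h.nb.cm_mem hb₂ _) b₁ hb₁ a ha'), add_zero]
  have key : ∀ c ∈ B, cm a (cm c (x • w)) ≠ 0 → dua x φ (cm a (cm c (x • w))) = 1 := by
    intro c hc hn
    refine h2 a ha' c hc ha1 ?_ ?_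
    · rintro rfl
      exact hn (by rw [cm_one, cm_zero])
    · intro h0
      have h6 : a = c := by rw [eq_inv_of_mul_eq_one_left h0, h.inv_B hc]
      subst h6
      exact hn (cm_eq_zero.2 (h.nb.smul_cm_self ha' _))
  have k1 := key b₁ hb₁ (by rwa [← e1])
  have k2 := key b₂ hb₂ (by rwa [← e2])
  have k3 := key (b₁ * b₂) (mul_mem hb₁ hb₂) (by
    rw [e3]
    intro h0
    exact h5 (eq_of_add h0).symm)
  rw [e3, e1, e2, map_add, k1, k2, one_add_one] at k3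
  exact one_ne k3.symm

end MP

end Cfsg.Agent.Omega.NearFF
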