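import Cfsg.Agent.Omega.NearFF.LocEnd
import Cfsg.Agent.Omega.NearFF.SymEnd

/-!
# (BT), `|V/E| = 2`: the end (helper817; project OMEGA, leaf N1)

* `LFam.four` : every family of near-offenders with (UP) and without offenders has a member `B` with
  `|[E_B, b]| ≤ 2` for some `1 ≠ b ∈ B`;
* `Dat.exists_two` : the same on `Dat` for some `B ∈ BB z`;
* `Dat.plus`, `Dat.card_five` : (+) and `|Ω| = 5`, without any further hypothesis.
-/

set_option autoImplicit false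
set_option linter.unusedSectionVars false

namespace Cfsg.Agent.Omega.NearFF

open Subgroup Cfsg.Agent.Omega.Transv

variable {Y : Type*} [Group Y] {V : Type*} [AddCommGroup V] [Module (ZMod 2) V] [DistribMulAction Y V]

/-- A family of near-offenders. -/
structure LFam (P : Subgroup Y → Du V → Prop) : Prop where
  faith : Faith Y V
  noff : ∀ A : Subgroup Y, A ≠ ⊥ → (∀ a ∈ A, ∀ b ∈ A, a * b = b * a) → (∀ a ∈ A, a * a = 1) →
    Nat.card A * Nat.card {v : V // Fx A v} < Nat.card V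
  nz : ∀ B φ, P B φ → φ ≠ 0
  nb : ∀ B φ, P B φ → NB φ B
  conj : ∀ (g : Y) B φ, P B φ → P (B.map (MulAut.conj g).toMonoidHom) (dua g φ)
  up : ∀ B φ C ψ, P B φ → P C ψ → B ≤ stabF Y ψ → ψ = φ
  syl : ∀ B φ, P B φ → ∀ R : Subgroup Y, IsPGroup 2 R → B ≤ R →
    ∃ x : V, Fx R x ∧ ∀ g : Y, g • x = x → g ∈ stabF Y φ
  two : ∃ B φ C ψ, P B φ ∧ P C ψ ∧ φ ≠ ψ

theorem NB.of_map {φ : Du V} {L : Subgroup Y} {B : Subgroup L} (h : NB φ (B.map L.subtype)) : NB φ B := by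
  have hm : ∀ b ∈ B, (b : Y) ∈ B.map L.subtype := fun b hb => ⟨b, hb, rfl⟩
  have hfx : ∀ v : V, Fx (B.map L.subtype) v ↔ Fx B v := by
    intro v
    constructor
    · intro h1 b hb
      exact h1 b (hm b hb)
    · rintro h1 _ ⟨b, hb, rfl⟩
      exact h1 b hb
  refine ⟨fun a ha b hb => Subtype.ext (h.comm a (hm a ha) b (hm b hb)),
    fun b hb => Subtype.ext (h.sq b (hm b hb)), ?_, fun b hb => h.inv b (hm b hb),
    fun e he b hb => (hfx _).1 (h.ed e he b (hm b hb)),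
    fun v hv b hb hd => Subtype.ext (h.inj v hv b (hm b hb) ((hfx _).2 hd)), ?_⟩
  · rintro rfl
    exact h.ne (map_bot _)
  · intro v e hv he
    obtain ⟨_, ⟨b, hb, rfl⟩, hd⟩ := h.surj v e hv he
    exact ⟨b, hb, (hfx _).1 hd⟩

theorem NB.conj {φ : Du V} {B : Subgroup Y} (h : NB φ B) (g : Y) :
    NB (dua g φ) (B.map (MulAut.conj g).toMonoidHom) := by
  have hfx : ∀ v : V, Fx (B.map (MulAut.conj g).toMonoidHom) v ↔ Fx B (g⁻¹ • v) := by
    intro v
    constructor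
    · intro h1 b hb
      have h2 := h1 _ ⟨b, hb, rfl⟩
      change (g * b * g⁻¹) • v = v at h2
      rw [mul_smul, mul_smul, ← eq_inv_smul_iff] at h2
      exact h2
    · rintro h1 _ ⟨b, hb, rfl⟩
      change (g * b * g⁻¹) • v = v
      rw [mul_smul, mul_smul, h1 b hb, smul_inv_smul]
  have hcm : ∀ (b : Y) (v : V), g⁻¹ • cm (g * b * g⁻¹) v = cm b (g⁻¹ • v) := by
    intro b v
    rw [smul_cm_inv, inv_smul_smul]
  refine ⟨?_, ?_, ?_, ?_, ?_, ?_, ?_⟩
  · rintro _ ⟨a, ha, rfl⟩ _ ⟨b, hb, rfl⟩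
    rw [← map_mul, ← map_mul, h.comm a ha b hb]
  · rintro _ ⟨b, hb, rfl⟩
    rw [← map_mul, h.sq b hb, map_one]
  · intro h1
    exact h.ne ((map_eq_bot_iff_of_injective _ (MulAut.conj g).injective).1 h1)
  · rintro _ ⟨b, hb, rfl⟩ v
    change φ (g⁻¹ • (g * b * g⁻¹) • v) = φ (g⁻¹ • v)
    rw [mul_smul, mul_smul, inv_smul_smul, h.inv b hb]
  · rintro e he _ ⟨b, hb, rfl⟩
    rw [hfx]
    change Fx B (g⁻¹ • cm (g * b * g⁻¹) e)
    rw [hcm]
    exact h.ed _ he b hb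
  · rintro v hv _ ⟨b, hb, rfl⟩ hd
    rw [hfx] at hd
    change Fx B (g⁻¹ • cm (g * b * g⁻¹) v) at hd
    rw [hcm] at hd
    rw [h.inj _ hv b hb hd, map_one]
  · intro v e hv he
    obtain ⟨b, hb, hd⟩ := h.surj (g⁻¹ • v) (g⁻¹ • e) hv he
    refine ⟨_, ⟨b, hb, rfl⟩, ?_⟩
    rw [hfx]
    change Fx B (g⁻¹ • (cm (g * b * g⁻¹) v + e))
    rw [smul_add, hcm]
    exact hd

namespace LFam

variable {P : Subgroup Y → Du V → Prop} (h : LFam P)
include h

/-- minimal pairs exist -/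
theorem exists_loc [Finite Y] : ∃ L : Subgroup Y, Loc (G := L) fun B φ => P (B.map L.subtype) φ := by
  let Q : Set (Subgroup Y) := {L | ∃ B φ C ψ, P B φ ∧ P C ψ ∧ B ≤ L ∧ C ≤ L ∧ φ ≠ ψ}
  have hQ : Q.Nonempty := by
    obtain ⟨B, φ, C, ψ, h1, h2, h3⟩ := h.two
    exact ⟨⊤, B, φ, C, ψ, h1, h2, le_top, le_top, h3⟩
  obtain ⟨L, ⟨B0, φ0, C0, ψ0, hB0, hC0, hBL0, hCL0, hne0⟩, hmin⟩ :=
    (InvImage.wf (fun L : Subgroup Y => Nat.card L) Nat.lt_wfRel.wf).has_min Q hQ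
  have hmap : ∀ B : Subgroup Y, B ≤ L → (B.subgroupOf L).map L.subtype = B := by
    intro B hB
    rw [subgroupOf_map_subtype, inf_eq_left.2 hB]
  refine ⟨L, ⟨fun g hg => Subtype.ext (h.faith g hg), ?_, fun B φ hB => h.nz _ φ hB,
    fun B φ hB => (h.nb _ φ hB).of_map, ?_, ?_, ?_, ?_, ?_⟩⟩
  · intro A hA hc hs
    have h1 := h.noff (A.map L.subtype)
      (fun h0 => hA ((map_eq_bot_iff_of_injective _ L.subtype_injective).1 h0))
      (by
        rintro _ ⟨a, ha, rfl⟩ _ ⟨b, hb, rfl⟩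
        rw [← map_mul, ← map_mul, hc a ha b hb])
      (by
        rintro _ ⟨a, ha, rfl⟩
        rw [← map_mul, hs a ha, map_one])
    rw [Subgroup.card_map_of_injective L.subtype_injective] at h1
    have h2 : Nat.card {v : V // Fx (A.map L.subtype) v} = Nat.card {v : V // Fx A v} := by
      refine Nat.card_congr (Equiv.subtypeEquivRight fun v => ?_)
      constructor
      · intro h1 b hb
        exact h1 b ⟨b, hb, rfl⟩
      · rintro h1 _ ⟨b, hb, rfl⟩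
        exact h1 b hb
    rwa [h2] at h1
  · intro g B φ hB
    have h1 := h.conj (g : Y) _ φ hB
    have h2 : (B.map L.subtype).map (MulAut.conj (g : Y)).toMonoidHom =
        (B.map (MulAut.conj g).toMonoidHom).map L.subtype := by
      rw [Subgroup.map_map, Subgroup.map_map]
      rfl
    rw [h2] at h1
    exact h1
  · intro B φ C ψ hB hC hle
    refine h.up _ φ _ ψ hB hC ?_
    rintro _ ⟨b, hb, rfl⟩
    exact hle hb
  · intro B φ hB R hR hBR
    obtain ⟨x, hx, hs⟩ := h.syl _ φ hB (R.map L.subtype) (hR.map _) (map_mono hBR)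
    exact ⟨x, fun r hr => hx r ⟨r, hr, rfl⟩, fun g hg => hs g hg⟩
  · refine ⟨B0.subgroupOf L, φ0, C0.subgroupOf L, ψ0, ?_, ?_, hne0⟩
    · rwa [hmap B0 hBL0]
    · rwa [hmap C0 hCL0]
  · intro B φ C ψ hB hC hne
    have h1 : (B ⊔ C).map L.subtype ∈ Q :=
      ⟨_, φ, _, ψ, hB, hC, map_mono le_sup_left, map_mono le_sup_right, hne⟩
    have h2 : ¬ Nat.card ((B ⊔ C).map L.subtype) < Nat.card L := hmin _ h1
    rw [Subgroup.card_map_of_injective L.subtype_injective, not_lt] at h2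
    exact Subgroup.eq_top_of_le_card _ h2

/-- **MAIN THEOREM**: `|[E_B, b]| ≤ 2` for some member `B` and `1 ≠ b ∈ B`. -/
theorem four [Finite Y] [Finite V] : Fo P := by
  obtain ⟨L, hL⟩ := h.exists_loc
  obtain ⟨B, φ, hB, b, hb, hb1, w, hw⟩ := hL.four
  exact ⟨_, φ, hB, (b : Y), ⟨b, hb, rfl⟩, fun h0 => hb1 (Subtype.ext h0), w, hw⟩

end LFam

namespace Dat

variable {T : Sylow 2 Y} {M : Subgroup Y} {z : V} {f : V → Du V} {Q : V → Subgroup Y}
  {BB : V → Set (Subgroup Y)} (h : Dat T M z f Q BB)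
include h

theorem lfam [Finite Y] : LFam fun (B : Subgroup Y) (φ : Du V) => ∃ g : Y, φ = f (g • z) ∧ B ∈ BB (g • z) where
  faith := h.faith
  noff := h.noff
  nz := by
    rintro B _ ⟨g, rfl, hB⟩ h0
    apply h.f_ne
    rw [h.f_orbit] at h0
    have h1 := congrArg (dua g⁻¹) h0
    rw [dua_inv] at h1
    rw [h1]
    rfl
  nb := by
    rintro B _ ⟨g, rfl, hB⟩
    have h1 := h.bb_smul g⁻¹ _ ⟨g, rfl⟩ B hB
    change B.map (MulAut.conj g⁻¹).toMonoidHom ∈ BB (g⁻¹ • g • z) at h1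
    rw [inv_smul_smul] at h1
    have h2 := (h.bb _ h1).conj g
    rw [← h.f_orbit, Subgroup.map_map] at h2
    have h3 : ((MulAut.conj g).toMonoidHom.comp (MulAut.conj g⁻¹).toMonoidHom) = MonoidHom.id Y := by
      ext y
      change g * (g⁻¹ * y * g⁻¹⁻¹) * g⁻¹ = y
      group
    rwa [h3, Subgroup.map_id] at h2
  conj := by
    rintro k B _ ⟨g, rfl, hB⟩
    refine ⟨k * g, by rw [mul_smul, h.f_smul k _ ⟨g, rfl⟩], ?_⟩
    rw [mul_smul]
    exact h.bb_smul k _ ⟨g, rfl⟩ B hB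
  up := by
    rintro B _ C _ ⟨g, rfl, hB⟩ ⟨k, rfl, hC⟩ hle
    exact h.bb_fix hB hle
  syl := by
    have : Fact (Nat.Prime 2) := ⟨Nat.prime_two⟩
    rintro B _ ⟨g, rfl, hB⟩ R hR hBR
    obtain ⟨R', hR'⟩ := hR.exists_le_sylow
    obtain ⟨k, hk⟩ := MulAction.exists_smul_eq Y T R'
    have hx : Fx R (k • z) := by
      intro r hr
      have h1 := hR' hr
      rw [← hk, Sylow.coe_subgroup_smul, Subgroup.mem_pointwise_smul_iff_inv_smul_mem,
        ← map_inv, MulAut.smul_def, MulAut.conj_apply, inv_inv] at h1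
      have h2 := h.z_fix _ h1
      rw [mul_smul, mul_smul, inv_smul_eq_iff] at h2
      exact h2
    have h2 : ∀ y : Y, y • k • z = k • z → y ∈ stabF Y (f (k • z)) := by
      intro y hy
      rw [mem_stabF, ← h.f_smul y _ ⟨k, rfl⟩]
      exact congrArg f hy
    refine ⟨k • z, hx, ?_⟩
    rw [← h.bb_fix hB (g := k) fun b hb => h2 b (hx b (hBR hb))]
    exact h2
  two := by
    obtain ⟨B, hB⟩ := h.bb_ne
    obtain ⟨g, hg⟩ : ∃ g : Y, f z (g • z) ≠ 0 := by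
      by_contra hc
      push Not at hc
      apply h.f_ne
      refine LinearMap.ext fun v => ?_
      refine h.induct (p := fun v => f z v = 0) (map_zero _) ?_ ?_ v
      · rintro _ ⟨g, rfl⟩
        exact hc g
      · intro a b ha hb
        rw [map_add, ha, hb, add_zero]
    refine ⟨B, f z, _, f (g • z), ⟨1, by rw [one_smul], by rw [one_smul]; exact hB⟩,
      ⟨g, rfl, h.bb_smul g z (MulAction.mem_orbit_self z) B hB⟩, fun h0 => hg ?_⟩
    rw [h0, h.f_orbit, dua_apply, inv_smul_smul, h.f_self]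

/-- **`|[E_z, b]| ≤ 2` for some `B ∈ BB z` and `1 ≠ b ∈ B`** -/
theorem exists_two [Finite Y] [Finite V] :
    ∃ B ∈ BB z, ∃ b ∈ B, b ≠ 1 ∧ ∃ w : V, ∀ e : V, f z e = 0 → cm b e = 0 ∨ cm b e = w := by
  obtain ⟨B, _, ⟨g, rfl, hB⟩, b, hb, hb1, w, hw⟩ := h.lfam.four
  have h1 := h.bb_smul g⁻¹ _ ⟨g, rfl⟩ B hB
  change B.map (MulAut.conj g⁻¹).toMonoidHom ∈ BB (g⁻¹ • g • z) at h1
  rw [inv_smul_smul] at h1
  refine ⟨_, h1, _, ⟨b, hb, rfl⟩, ?_, g⁻¹ • w, fun e he => ?_⟩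
  · intro h0
    exact hb1 ((MulAut.conj g⁻¹).injective (h0.trans (map_one _).symm))
  · change cm (g⁻¹ * b * g⁻¹⁻¹) e = 0 ∨ cm (g⁻¹ * b * g⁻¹⁻¹) e = g⁻¹ • w
    rw [smul_cm_inv, inv_inv]
    have h2 : f (g • z) (g • e) = 0 := by
      rw [h.f_orbit, dua_apply, inv_smul_smul, he]
    rcases hw _ h2 with h3 | h3
    · left
      rw [h3, smul_zero]
    · right
      rw [h3]

/-- **(+)** -/
theorem plus [Finite Y] [Finite V] : ∀ g : Y, f z (g • z) = 0 → g ∈ M := by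
  obtain ⟨B, hB, b, hb, hb1, w, hw⟩ := h.exists_two
  exact h.plus_of_two hB hb hb1 hw

/-- **(BT), `|V/E| = 2`: `|Ω| = 5`** -/
theorem card_five [Finite Y] [Finite V] : Nat.card (MulAction.orbit Y z) = 5 := h.five_of_plus h.plus

end Dat

end Cfsg.Agent.Omega.NearFF
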