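import Mathlib

/-!
# (BT), `|V/E| = 2`: the statement (+) finishes (helper575 #13987 (1)-(3), referee helper417 #14203)

`Y` acts on the elementary abelian 2-group `V`, `Om = z^Y` generates `V`, `E x` (`x ∈ Om`) is a `Y`-invariant family
of subgroups of index at most 2, `x ∈ E x`, `r x y` is the relation "`M_x = M_y`" on `Om`, `B ≤ Y_z`.

* `Hyp` : the hypotheses, `plus` is (+) : `y ∈ E x → r x y`;
* `main` : `|V| = 16`, `Om` consists of five vectors with product 1.
-/

set_option autoImplicit false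

namespace Cfsg.Agent.Omega.NearFF.Plus

open Subgroup

variable {Y V : Type*} [Group Y] [CommGroup V] [MulDistribMulAction Y V]

/-- `Om` -/
abbrev Om (Y : Type*) {V : Type*} [Group Y] [CommGroup V] [MulDistribMulAction Y V] (z : V) : Set V :=
  MulAction.orbit Y z

/-- fixed points of `B` -/
def fx (B : Subgroup Y) : Subgroup V where
  carrier := {v | ∀ b ∈ B, b • v = v}
  one_mem' := fun b _ => smul_one b
  mul_mem' := fun {u v} hu hv b hb => by rw [smul_mul', hu b hb, hv b hb]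
  inv_mem' := fun {u} hu b hb => by rw [smul_inv', hu b hb]

theorem mem_fx {B : Subgroup Y} {v : V} : v ∈ fx B ↔ ∀ b ∈ B, b • v = v := Iff.rfl

/-- The hypotheses of #13987, (+) = `plus`. -/
structure Hyp (z : V) (E : V → Subgroup V) (r : V → V → Prop) (B : Subgroup Y) : Prop where
  sq : ∀ v : V, v * v = 1
  gen : closure (Om Y z) = ⊤
  E_smul : ∀ g : Y, ∀ x ∈ Om Y z, ∀ v, g • v ∈ E (g • x) ↔ v ∈ E x
  E_self : ∀ x ∈ Om Y z, x ∈ E x
  E_two : ∀ x ∈ Om Y z, ∀ u v, u ∉ E x → v ∉ E x → u * v ∈ E x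
  refl : ∀ x ∈ Om Y z, r x x
  symm : ∀ x ∈ Om Y z, ∀ y ∈ Om Y z, r x y → r y x
  trans : ∀ x ∈ Om Y z, ∀ y ∈ Om Y z, ∀ w ∈ Om Y z, r x y → r y w → r x w
  inv : ∀ g : Y, ∀ x ∈ Om Y z, ∀ y ∈ Om Y z, r x y → r (g • x) (g • y)
  ne : ∃ x ∈ Om Y z, ¬ r z x
  fix_z : ∀ b ∈ B, b • z = z
  four : 4 ≤ Nat.card B
  free : ∀ a ∈ B, a ≠ 1 → ∀ v : V, a • v = v → v ∈ E z
  fixed : ∀ a ∈ B, ∀ x ∈ Om Y z, r (a • x) x → ∃ y ∈ Om Y z, r y x ∧ a • y = y
  idx : (fx B : Subgroup V).index ≤ 2 * Nat.card B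
  core : ∀ v : V, (∀ g : Y, g • v ∈ fx B) → v = 1
  plus : ∀ x ∈ Om Y z, ∀ y ∈ Om Y z, y ∈ E x → r x y

/-- The count. -/
theorem count [Finite V] {B : Type*} [Finite B] {U : Type*} [CommGroup U] [Finite U] (Φ : V →* (B → U))
    (hs : Function.Surjective Φ) {C : Subgroup V} (hC : ∀ v ∈ C, ∀ b b', Φ v b = Φ v b')
    (hB : 4 ≤ Nat.card B) (hU : 2 ≤ Nat.card U) (hi : C.index ≤ 2 * Nat.card B) :
    Nat.card B = 4 ∧ Nat.card U = 2 ∧ Φ.ker ≤ C := by
  classical
  let K : Subgroup (B → U) :=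
    { carrier := {f | ∀ b b', f b = f b'}
      one_mem' := fun _ _ => rfl
      mul_mem' := fun {f g} hf hg b b' => by rw [Pi.mul_apply, Pi.mul_apply, hf b b', hg b b']
      inv_mem' := fun {f} hf b b' => by rw [Pi.inv_apply, Pi.inv_apply, hf b b'] }
  have hne : Nonempty B := by
    by_contra h
    rw [not_nonempty_iff] at h
    rw [Nat.card_of_isEmpty] at hB
    omega
  obtain ⟨b₀⟩ := hne
  have hK : Nat.card K = Nat.card U := by
    refine Nat.card_congr ⟨fun f => f.1 b₀, fun u => ⟨fun _ => u, fun _ _ => rfl⟩, ?_, fun u => rfl⟩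
    rintro ⟨f, hf⟩
    exact Subtype.ext (funext fun b => hf b₀ b)
  have hKi : Nat.card U * K.index = Nat.card U ^ Nat.card B := by
    rw [← hK, Subgroup.card_mul_index, Nat.card_fun, hK]
  have hCK : C ≤ K.comap Φ := fun v hv => hC v hv
  have hidx : (K.comap Φ).index = K.index := Subgroup.index_comap_of_surjective K hs
  have hle : K.index ≤ C.index := by
    rw [← hidx]
    exact Nat.le_of_dvd (Nat.pos_of_ne_zero C.index_ne_zero_of_finite) (Subgroup.index_dvd_of_le hCK)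
  obtain ⟨n, hn⟩ : ∃ n, Nat.card B = n + 1 := ⟨Nat.card B - 1, by omega⟩
  have hKi' : K.index = Nat.card U ^ n := by
    rw [hn, pow_succ'] at hKi
    exact Nat.eq_of_mul_eq_mul_left (by omega) hKi
  have h1 : Nat.card U ^ n ≤ 2 * (n + 1) := by
    rw [← hKi', ← hn]
    exact hle.trans hi
  have h2 : 2 ^ n ≤ 2 * (n + 1) := (Nat.pow_le_pow_left hU n).trans h1
  have h3 : n = 3 := by
    have h4 : n < 4 := by
      by_contra h5
      push Not at h5
      have h6 : ∀ m, 4 ≤ m → 2 * (m + 1) < 2 ^ m := by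
        intro m hm
        induction m, hm using Nat.le_induction with
        | base => norm_num
        | succ m hm ih => rw [pow_succ]; omega
      exact absurd h2 (not_le.2 (h6 n h5))
    omega
  subst h3
  have h5 : Nat.card U = 2 := by
    have h6 : Nat.card U < 3 := by
      by_contra h7
      push Not at h7
      have := Nat.pow_le_pow_left h7 3
      omega
    omega
  refine ⟨hn, h5, ?_⟩
  have h6 : C = K.comap Φ := by
    refine Subgroup.eq_of_le_of_card_ge hCK ?_
    have h7 : C.index ≤ (K.comap Φ).index := by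
      rw [hidx, hKi', h5]
      calc C.index ≤ 2 * Nat.card B := hi
        _ = 2 ^ 3 := by rw [hn]; norm_num
    have h8 := C.card_mul_index
    have h9 := (K.comap Φ).card_mul_index
    have h10 : 0 < (K.comap Φ).index := Nat.pos_of_ne_zero (Subgroup.index_ne_zero_of_finite)
    have h11 : Nat.card (K.comap Φ) * (K.comap Φ).index ≤ Nat.card C * (K.comap Φ).index := by
      rw [h9, ← h8]
      exact Nat.mul_le_mul_left _ h7
    exact Nat.le_of_mul_le_mul_right h11 h10
  rw [h6]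
  intro v hv
  rw [MonoidHom.mem_ker] at hv
  rw [mem_comap, hv]
  exact K.one_mem

/-- surjectivity onto a function space -/
theorem surj_of {B : Type*} [Finite B] [DecidableEq B] {U : Type*} [CommGroup U] (Φ : V →* (B → U))
    (h : ∀ b u, ∃ v, Φ v = Pi.mulSingle b u) : Function.Surjective Φ := by
  classical
  haveI := Fintype.ofFinite B
  intro f
  choose w hw using fun b => h b (f b)
  refine ⟨∏ b, w b, ?_⟩
  rw [map_prod]
  simp only [hw]
  exact Finset.univ_prod_mulSingle f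

theorem smul_mem_Om {z x : V} (g : Y) (hx : x ∈ Om Y z) : g • x ∈ Om Y z := by
  obtain ⟨h, rfl⟩ := hx
  exact ⟨g * h, mul_smul g h z⟩

theorem z_mem_Om (z : V) : z ∈ Om Y z := MulAction.mem_orbit_self z

/-- `W_x`, generated by the vectors of the other points -/
def W (Y : Type*) [Group Y] [MulDistribMulAction Y V] (z : V) (r : V → V → Prop) (x : V) : Subgroup V :=
  closure {y | y ∈ Om Y z ∧ ¬ r x y}

namespace Hyp

variable {z : V} {E : V → Subgroup V} {r : V → V → Prop} {B : Subgroup Y}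
variable (h : Hyp z E r B)
include h

theorem inv' (g : Y) {x y : V} (hx : x ∈ Om Y z) (hy : y ∈ Om Y z) (hr : r (g • x) (g • y)) : r x y := by
  have := h.inv g⁻¹ _ (smul_mem_Om g hx) _ (smul_mem_Om g hy) hr
  rwa [inv_smul_smul, inv_smul_smul] at this

/-- (1): `B` acts freely on the points `≠ M_z` -/
theorem not_r {a : Y} (ha : a ∈ B) (ha1 : a ≠ 1) {x : V} (hx : x ∈ Om Y z) (hzx : ¬ r z x) : ¬ r (a • x) x := by
  intro h1
  obtain ⟨y, hy, h2, h3⟩ := h.fixed a ha x hx h1
  exact hzx (h.trans z (z_mem_Om z) y hy x hx (h.plus z (z_mem_Om z) y hy (h.free a ha ha1 y h3)) h2)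

theorem not_r_smul {b : Y} (hb : b ∈ B) {x : V} (hx : x ∈ Om Y z) (hzx : ¬ r z x) : ¬ r z (b • x) := by
  intro h1
  apply hzx
  refine h.inv' b (z_mem_Om z) hx ?_
  rwa [h.fix_z b hb]

theorem r_smul {b b' : Y} (hb : b ∈ B) (hb' : b' ∈ B) {x : V} (hx : x ∈ Om Y z) (hzx : ¬ r z x)
    (h1 : r (b • x) (b' • x)) : b = b' := by
  by_contra hne
  refine h.not_r (a := b'⁻¹ * b) (mul_mem (inv_mem hb') hb) ?_ hx hzx ?_
  · intro h2
    exact hne (inv_mul_eq_one.1 h2).symm
  · have h3 := h.inv b'⁻¹ _ (smul_mem_Om b hx) _ (smul_mem_Om b' hx) h1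
    rwa [inv_smul_smul, ← mul_smul] at h3

theorem inv_eq (v : V) : v⁻¹ = v := inv_eq_of_mul_eq_one_left (h.sq v)

theorem z_mem_fx : z ∈ fx (V := V) B := h.fix_z

/-- the vectors of the points `≠ M_z` are not fixed by `B` -/
theorem not_mem_fx {x : V} (hx : x ∈ Om Y z) (hzx : ¬ r z x) : x ∉ fx (V := V) B := by
  intro h1
  obtain ⟨b, hb⟩ : ∃ b : B, b ≠ 1 := by
    by_contra hcon
    push Not at hcon
    have : Nat.card B ≤ 1 := by
      haveI : Subsingleton B := ⟨fun a b => by rw [hcon a, hcon b]⟩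
      exact Finite.card_le_one_iff_subsingleton.2 inferInstance
    have := h.four
    omega
  refine h.not_r b.2 (fun h2 => hb (Subtype.ext h2)) hx hzx ?_
  rw [h1 b b.2]
  exact h.refl x hx

/-- an invariant subgroup in `C_V(B)` is trivial -/
theorem eq_bot {K : Subgroup V} (hK : ∀ g : Y, ∀ v ∈ K, g • v ∈ K) (hKB : K ≤ fx B) : K = ⊥ := by
  rw [eq_bot_iff]
  intro v hv
  rw [mem_bot]
  exact h.core v fun g => hKB (hK g v hv)

theorem smul_W (g : Y) {x : V} (hx : x ∈ Om Y z) {v : V} (hv : v ∈ W Y z r x) : g • v ∈ W Y z r (g • x) := by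
  have h1 : W Y z r x ≤ (W Y z r (g • x)).comap (MulDistribMulAction.toMonoidHom V g) := by
    refine (closure_le _).2 ?_
    rintro y ⟨hy, hxy⟩
    refine subset_closure ⟨smul_mem_Om g hy, fun h2 => hxy (h.inv' g hx hy h2)⟩
  exact h1 hv

theorem smul_W_iff (g : Y) {x : V} (hx : x ∈ Om Y z) {v : V} : g • v ∈ W Y z r (g • x) ↔ v ∈ W Y z r x := by
  refine ⟨fun h1 => ?_, h.smul_W g hx⟩
  have := h.smul_W g⁻¹ (smul_mem_Om g hx) h1
  rwa [inv_smul_smul, inv_smul_smul] at this

theorem W_congr {x y : V} (hx : x ∈ Om Y z) (hy : y ∈ Om Y z) (hr : r x y) : W Y z r x = W Y z r y := by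
  unfold W
  congr 1
  ext w
  constructor
  · rintro ⟨hw, h1⟩
    exact ⟨hw, fun h2 => h1 (h.trans x hx y hy w hw hr h2)⟩
  · rintro ⟨hw, h1⟩
    exact ⟨hw, fun h2 => h1 (h.trans y hy x hx w hw (h.symm x hx y hy hr) h2)⟩

/-! ### Case A: `W_x = V` -/

open Classical in
/-- the linear form `f_x` -/
noncomputable def chi {x : V} (hx : x ∈ Om Y z) : V →* ℤˣ :=
  { toFun := fun v => if v ∈ E x then 1 else -1
    map_one' := by rw [if_pos (one_mem _)]
    map_mul' := fun u v => by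
      by_cases hu : u ∈ E x
      · by_cases hv : v ∈ E x
        · rw [if_pos hu, if_pos hv, if_pos (mul_mem hu hv), one_mul]
        · rw [if_pos hu, if_neg hv, if_neg, one_mul]
          exact fun h1 => hv (by simpa using mul_mem (inv_mem hu) h1)
      · by_cases hv : v ∈ E x
        · rw [if_neg hu, if_pos hv, if_neg, mul_one]
          exact fun h1 => hu (by simpa using mul_mem h1 (inv_mem hv))
        · rw [if_neg hu, if_neg hv, if_pos (h.E_two x hx u v hu hv)]
          norm_num }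

theorem chi_pos {x : V} (hx : x ∈ Om Y z) {v : V} (hv : v ∈ E x) : h.chi hx v = 1 := if_pos hv

theorem chi_neg {x : V} (hx : x ∈ Om Y z) {v : V} (hv : v ∉ E x) : h.chi hx v = -1 := if_neg hv

theorem chi_eq_one {x : V} (hx : x ∈ Om Y z) {v : V} : h.chi hx v = 1 ↔ v ∈ E x := by
  constructor
  · intro h1
    by_contra h2
    rw [h.chi_neg hx h2] at h1
    exact absurd h1 (by decide)
  · exact h.chi_pos hx

/-- the map `V → F_2^B`, `v ↦ (f_{bx}(v))_b` -/
noncomputable def phi {x : V} (hx : x ∈ Om Y z) : V →* (B → ℤˣ) :=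
  MonoidHom.pi fun b : B => h.chi (smul_mem_Om (b : Y) hx)

theorem phi_apply {x : V} (hx : x ∈ Om Y z) (v : V) (b : B) :
    h.phi hx v b = h.chi (smul_mem_Om (b : Y) hx) v := rfl

theorem phi_neg {x : V} (hx : x ∈ Om Y z) {v : V} (hv : v ∈ Om Y z) {b : B} (hr : ¬ r ((b : Y) • x) v) :
    h.phi hx v b = -1 :=
  h.chi_neg (smul_mem_Om (b : Y) hx) fun h1 => hr (h.plus _ (smul_mem_Om _ hx) v hv h1)

theorem phi_pos {x : V} (hx : x ∈ Om Y z) (b : B) : h.phi hx ((b : Y) • x) b = 1 :=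
  h.chi_pos (smul_mem_Om (b : Y) hx) (h.E_self _ (smul_mem_Om _ hx))

theorem not_r_z {x : V} (hx : x ∈ Om Y z) (hzx : ¬ r z x) (b : B) : ¬ r ((b : Y) • x) z := fun h1 =>
  h.not_r_smul b.2 hx hzx (h.symm _ (smul_mem_Om _ hx) _ (z_mem_Om z) h1)

variable [Finite V] [Finite Y]

/-- **Case A, the count.** -/
theorem caseA_count {x : V} (hx : x ∈ Om Y z) (hzx : ¬ r z x) :
    Function.Surjective (h.phi hx) ∧ Nat.card B = 4 ∧ (h.phi hx).ker ≤ fx B := by
  classical
  have hs : Function.Surjective (h.phi hx) := by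
    refine surj_of _ fun b u => ?_
    rcases Int.units_eq_one_or u with rfl | rfl
    · exact ⟨1, by rw [map_one, Pi.mulSingle_one]⟩
    · refine ⟨z * ((b : Y) • x), funext fun b' => ?_⟩
      rw [map_mul, Pi.mul_apply, h.phi_neg hx (z_mem_Om z) (h.not_r_z hx hzx b')]
      by_cases hb : b' = b
      · subst hb
        rw [h.phi_pos hx b', Pi.mulSingle_eq_same]; norm_num
      · rw [Pi.mulSingle_eq_of_ne hb, h.phi_neg hx (smul_mem_Om _ hx)]
        · norm_num
        · exact fun h1 => hb (Subtype.ext (h.r_smul b'.2 b.2 hx hzx h1))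
  have hC : ∀ v ∈ fx (V := V) B, ∀ b b', h.phi hx v b = h.phi hx v b' := by
    intro v hv b b'
    have key : ∀ b : B, h.phi hx v b = h.chi hx v := by
      intro b
      by_cases hvx : v ∈ E x
      · rw [h.chi_pos hx hvx, h.phi_apply, h.chi_pos]
        have := (h.E_smul b x hx v).2 hvx
        rwa [hv b b.2] at this
      · rw [h.chi_neg hx hvx, h.phi_apply, h.chi_neg]
        intro h2
        apply hvx
        have h4 := h.E_smul b x hx v
        rw [hv b b.2] at h4
        exact h4.1 h2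
    rw [key b, key b']
  obtain ⟨h1, -, h3⟩ := count (h.phi hx) hs (C := fx B) hC h.four (by simp) h.idx
  exact ⟨hs, h1, h3⟩

/-- every point `≠ M_z` is in the `B`-orbit of `M_x` -/
theorem caseA_orbit {x : V} (hx : x ∈ Om Y z) (hzx : ¬ r z x) {w : V} (hw : w ∈ Om Y z) (hzw : ¬ r z w) :
    ∃ b : B, r ((b : Y) • x) w := by
  by_contra hcon
  push Not at hcon
  obtain ⟨-, -, h3⟩ := h.caseA_count hx hzx
  have h1 : z * w ∈ (h.phi hx).ker := by
    rw [MonoidHom.mem_ker]
    funext b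
    rw [map_mul, Pi.mul_apply, h.phi_neg hx (z_mem_Om z) (h.not_r_z hx hzx b), h.phi_neg hx hw (hcon b)]
    norm_num
  have h2 := (fx B).mul_mem ((fx B).inv_mem h.z_mem_fx) (h3 h1)
  rw [inv_mul_cancel_left] at h2
  exact h.not_mem_fx hw hzw h2

omit [Finite V] [Finite Y] in
theorem caseA_congr (hA : ∀ x ∈ Om Y z, W Y z r x = ⊤) {x y : V} (hx : x ∈ Om Y z) (hy : y ∈ Om Y z)
    (hr : r x y) : h.chi hx = h.chi hy := by
  refine MonoidHom.eq_of_eqOn_dense (hA x hx) ?_
  rintro w ⟨hw, hxw⟩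
  rw [h.chi_neg hx fun h1 => hxw (h.plus x hx w hw h1), h.chi_neg hy fun h1 => hxw
    (h.trans x hx y hy w hw hr (h.plus y hy w hw h1))]

omit [Finite V] [Finite Y] in
theorem caseA_self (hA : ∀ x ∈ Om Y z, W Y z r x = ⊤) {x y : V} (hx : x ∈ Om Y z) (hy : y ∈ Om Y z)
    (hr : r x y) : h.chi hx y = 1 := by
  rw [h.caseA_congr hA hx hy hr]
  exact h.chi_pos hy (h.E_self y hy)

/-- parity -/
theorem caseA_parity [Fintype B] (hA : ∀ x ∈ Om Y z, W Y z r x = ⊤) {x : V} (hx : x ∈ Om Y z)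
    (hzx : ¬ r z x) : h.chi (z_mem_Om z) = ∏ b : B, h.chi (smul_mem_Om (b : Y) hx) := by
  classical
  obtain ⟨-, h2, -⟩ := h.caseA_count hx hzx
  rw [Nat.card_eq_fintype_card] at h2
  refine MonoidHom.eq_of_eqOn_dense h.gen ?_
  intro y hy
  rw [MonoidHom.finset_prod_apply]
  by_cases hzy : r z y
  · rw [h.caseA_self hA (z_mem_Om z) hy hzy]
    rw [Finset.prod_congr rfl fun (b : B) _ => h.chi_neg (smul_mem_Om (b : Y) hx) (v := y) fun h1 =>
      h.not_r_z hx hzx b (h.trans _ (smul_mem_Om _ hx) y hy z (z_mem_Om z)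
        (h.plus _ (smul_mem_Om _ hx) y hy h1) (h.symm z (z_mem_Om z) y hy hzy))]
    rw [Finset.prod_const, Finset.card_univ, h2]
    norm_num
  · rw [h.chi_neg (z_mem_Om z) fun h1 => hzy (h.plus z (z_mem_Om z) y hy h1)]
    obtain ⟨b₀, hb₀⟩ := h.caseA_orbit hx hzx hy hzy
    have key : ∀ b : B, h.chi (smul_mem_Om (b : Y) hx) y = (-1) * (if b = b₀ then -1 else 1) := by
      intro b
      by_cases hb : b = b₀
      · subst hb
        rw [if_pos rfl, h.caseA_self hA (smul_mem_Om (b : Y) hx) hy hb₀]; norm_num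
      · rw [if_neg hb, h.chi_neg, mul_one]
        intro h1
        have h3 := h.plus _ (smul_mem_Om (b : Y) hx) y hy h1
        exact hb (Subtype.ext (h.r_smul b.2 b₀.2 hx hzx (h.trans _ (smul_mem_Om _ hx) y hy _ (smul_mem_Om _ hx) h3
          (h.symm _ (smul_mem_Om _ hx) y hy hb₀))))
    rw [Finset.prod_congr rfl fun b _ => key b, Finset.prod_mul_distrib, Finset.prod_const, Finset.card_univ, h2,
      Finset.prod_ite_eq' Finset.univ b₀ (fun _ => (-1 : ℤˣ)), if_pos (Finset.mem_univ _)]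
    norm_num

theorem caseA_inj (hA : ∀ x ∈ Om Y z, W Y z r x = ⊤) {x : V} (hx : x ∈ Om Y z) (hzx : ¬ r z x) :
    Function.Injective (h.phi hx) := by
  classical
  haveI := Fintype.ofFinite B
  obtain ⟨-, -, h3⟩ := h.caseA_count hx hzx
  -- the kernel of all `f_x`
  let K : Subgroup V := ⨅ x : Om Y z, E x
  have hK : ∀ v, v ∈ K ↔ ∀ x ∈ Om Y z, v ∈ E x := fun v => by
    simp only [K, mem_iInf, Subtype.forall]
  have h4 : K ≤ (h.phi hx).ker := by
    intro v hv
    rw [MonoidHom.mem_ker]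
    funext b
    exact h.chi_pos (smul_mem_Om (b : Y) hx) ((hK v).1 hv _ (smul_mem_Om _ hx))
  have h5 : K = ⊥ := by
    refine h.eq_bot (fun g v hv => (hK _).2 fun y hy => ?_) (h4.trans h3)
    have h6 := (h.E_smul g _ (smul_mem_Om g⁻¹ hy) v).2 ((hK v).1 hv _ (smul_mem_Om g⁻¹ hy))
    rwa [smul_inv_smul] at h6
  rw [← MonoidHom.ker_eq_bot_iff, eq_bot_iff, ← h5]
  intro v hv
  rw [MonoidHom.mem_ker] at hv
  have hb : ∀ b : B, h.chi (smul_mem_Om (b : Y) hx) v = 1 := fun b => congrFun hv b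
  have hz : h.chi (z_mem_Om z) v = 1 := by
    rw [h.caseA_parity hA hx hzx, MonoidHom.finset_prod_apply]
    exact Finset.prod_eq_one fun b _ => hb b
  refine (hK v).2 fun y hy => ?_
  rw [← h.chi_eq_one hy]
  by_cases hzy : r z y
  · rw [← h.caseA_congr hA (z_mem_Om z) hy hzy, hz]
  · obtain ⟨b, hb'⟩ := h.caseA_orbit hx hzx hy hzy
    rw [← h.caseA_congr hA (smul_mem_Om (b : Y) hx) hy hb', hb]

/-- one vector for each point -/
theorem caseA_eq (hA : ∀ x ∈ Om Y z, W Y z r x = ⊤) {y y' : V} (hy : y ∈ Om Y z) (hy' : y' ∈ Om Y z)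
    (hr : r y y') : y = y' := by
  obtain ⟨x, hx, hzx⟩ := h.ne
  apply h.caseA_inj hA hx hzx
  funext b
  by_cases hb : r ((b : Y) • x) y
  · have hb' := h.trans _ (smul_mem_Om (b : Y) hx) y hy y' hy' hb hr
    rw [h.phi_apply, h.phi_apply, h.caseA_self hA _ hy hb, h.caseA_self hA _ hy' hb']
  · rw [h.phi_neg hx hy hb, h.phi_neg hx hy' fun hb' => hb (h.trans _ (smul_mem_Om (b : Y) hx) y' hy' y hy hb'
      (h.symm y hy y' hy' hr))]

theorem caseA_prod [Fintype B] (hA : ∀ x ∈ Om Y z, W Y z r x = ⊤) {x : V} (hx : x ∈ Om Y z) (hzx : ¬ r z x) :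
    z * ∏ b : B, (b : Y) • x = 1 := by
  classical
  obtain ⟨-, h2, -⟩ := h.caseA_count hx hzx
  rw [Nat.card_eq_fintype_card] at h2
  apply h.caseA_inj hA hx hzx
  rw [map_one]
  funext b'
  rw [map_mul, Pi.mul_apply, h.phi_neg hx (z_mem_Om z) (h.not_r_z hx hzx b'), map_prod, Finset.prod_apply]
  have key : ∀ b : B, h.phi hx ((b : Y) • x) b' = (-1) * (if b = b' then -1 else 1) := by
    intro b
    by_cases hb : b = b'
    · subst hb
      rw [if_pos rfl, h.phi_pos hx b]; norm_num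
    · rw [if_neg hb, h.phi_neg hx (smul_mem_Om (b : Y) hx), mul_one]
      exact fun h1 => hb (Subtype.ext (h.r_smul b'.2 b.2 hx hzx h1)).symm
  rw [Finset.prod_congr rfl fun b _ => key b, Finset.prod_mul_distrib, Finset.prod_const, Finset.card_univ, h2,
    Finset.prod_ite_eq' Finset.univ b' (fun _ => (-1 : ℤˣ)), if_pos (Finset.mem_univ _), Pi.one_apply]
  norm_num

theorem caseA_card (hA : ∀ x ∈ Om Y z, W Y z r x = ⊤) : Nat.card V = 16 := by
  obtain ⟨x, hx, hzx⟩ := h.ne
  obtain ⟨h1, h2, -⟩ := h.caseA_count hx hzx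
  rw [Nat.card_congr (Equiv.ofBijective _ ⟨h.caseA_inj hA hx hzx, h1⟩), Nat.card_fun, h2]
  simp

/-! ### Case B: `W_x ≠ V` -/

/-- the map `V → (V/W_x)^B` -/
def psi (_ : Hyp z E r B) (x : V) : V →* (B → V ⧸ W Y z r x) :=
  MonoidHom.pi fun b : B => (QuotientGroup.mk' (W Y z r x)).comp (MulDistribMulAction.toMonoidHom V (b⁻¹ : Y))

omit [Finite V] [Finite Y] in
theorem psi_apply (x v : V) (b : B) : h.psi x v b = QuotientGroup.mk' (W Y z r x) ((b : Y)⁻¹ • v) := rfl

omit [Finite V] [Finite Y] in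
theorem psi_one {x v : V} {b : B} (hv : (b : Y)⁻¹ • v ∈ W Y z r x) : h.psi x v b = 1 := by
  rw [psi_apply, QuotientGroup.mk'_apply, QuotientGroup.eq_one_iff]
  exact hv

theorem caseB_count {x : V} (hx : x ∈ Om Y z) (hzx : ¬ r z x) (hW : W Y z r x ≠ ⊤) :
    Nat.card B = 4 ∧ Nat.card (V ⧸ W Y z r x) = 2 ∧ (h.psi x).ker ≤ fx B := by
  classical
  have hs : Function.Surjective (h.psi x) := by
    refine surj_of _ fun b u => ?_
    obtain ⟨v, rfl⟩ := QuotientGroup.mk'_surjective _ u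
    -- the subgroup of good `v`
    let K : Subgroup V := ((h.psi x).range.comap (MonoidHom.mulSingle (fun _ : B => V ⧸ W Y z r x) b)).comap
      (QuotientGroup.mk' (W Y z r x))
    have hK : K = ⊤ := by
      rw [eq_top_iff, ← h.gen]
      refine (closure_le _).2 fun y hy => ?_
      by_cases hxy : r x y
      · refine ⟨(b : Y) • y, funext fun b' => ?_⟩
        rw [MonoidHom.mulSingle_apply, h.psi_apply]
        by_cases hb : b' = b
        · subst hb
          rw [inv_smul_smul, Pi.mulSingle_eq_same]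
        · rw [Pi.mulSingle_eq_of_ne hb, ← h.psi_apply]
          refine h.psi_one (subset_closure ⟨smul_mem_Om _ (smul_mem_Om _ hy), fun h1 => ?_⟩)
          have hzy : ¬ r z y := fun h2 => hzx (h.trans z (z_mem_Om z) y hy x hx h2 (h.symm x hx y hy hxy))
          have h2 := h.symm _ (smul_mem_Om _ (smul_mem_Om _ hy)) _ hy
            (h.symm y hy _ (smul_mem_Om _ (smul_mem_Om _ hy))
              (h.trans y hy x hx _ (smul_mem_Om _ (smul_mem_Om _ hy)) (h.symm x hx y hy hxy) h1)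
              |> fun h3 => h3)
          rw [← mul_smul] at h2
          have h3 := h.symm y hy _ (smul_mem_Om _ hy) h2
          refine h.not_r (mul_mem (inv_mem b'.2) b.2) ?_ hy hzy h3
          intro h4
          exact hb (Subtype.ext (inv_mul_eq_one.1 h4))
      · have h1 : QuotientGroup.mk' (W Y z r x) y = 1 := by
          rw [QuotientGroup.mk'_apply, QuotientGroup.eq_one_iff]
          exact subset_closure ⟨hy, hxy⟩
        change MonoidHom.mulSingle _ b (QuotientGroup.mk' (W Y z r x) y) ∈ (h.psi x).range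
        rw [h1, map_one]
        exact one_mem _
    have hv : v ∈ K := hK ▸ mem_top v
    exact hv
  have hU : 2 ≤ Nat.card (V ⧸ W Y z r x) := by
    by_contra h1
    apply hW
    rw [← Subgroup.index_eq_one, Subgroup.index]
    have : 0 < Nat.card (V ⧸ W Y z r x) := Nat.card_pos
    omega
  have hC : ∀ v ∈ fx (V := V) B, ∀ b b', h.psi x v b = h.psi x v b' := by
    intro v hv b b'
    rw [h.psi_apply, h.psi_apply, hv _ (inv_mem b.2), hv _ (inv_mem b'.2)]
  exact count (h.psi x) hs (C := fx B) hC h.four hU h.idx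

omit [Finite V] [Finite Y] in
theorem W_top {x y : V} (hx : x ∈ Om Y z) (hy : y ∈ Om Y z) (hW : W Y z r x = ⊤) : W Y z r y = ⊤ := by
  obtain ⟨a, rfl⟩ := hx
  obtain ⟨c, rfl⟩ := hy
  rw [eq_top_iff]
  intro v _
  have h1 : (c * a⁻¹) • (a • z) = c • z := by rw [← mul_smul, inv_mul_cancel_right]
  have h2 := h.smul_W (c * a⁻¹) (x := a • z) ⟨a, rfl⟩ (v := (c * a⁻¹)⁻¹ • v) (hW ▸ mem_top _)
  rwa [smul_inv_smul, h1] at h2

/-- **Case B is impossible.** -/
theorem caseB_false {x : V} (hx : x ∈ Om Y z) (hzx : ¬ r z x) (hW : W Y z r x ≠ ⊤) : False := by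
  classical
  obtain ⟨-, h2, h3⟩ := h.caseB_count hx hzx hW
  -- index 2
  have two : ∀ y ∈ Om Y z, ∀ u v, u ∉ W Y z r y → v ∉ W Y z r y → u * v ∈ W Y z r y := by
    intro y hy u v hu hv
    obtain ⟨a, rfl⟩ := hx
    obtain ⟨c, rfl⟩ := hy
    have h1 : (c * a⁻¹) • (a • z) = c • z := by rw [← mul_smul, inv_mul_cancel_right]
    have h4 : ∀ t : V, t ∈ W Y z r (c • z) ↔ (c * a⁻¹)⁻¹ • t ∈ W Y z r (a • z) := by
      intro t
      have := h.smul_W_iff (c * a⁻¹) (x := a • z) ⟨a, rfl⟩ (v := (c * a⁻¹)⁻¹ • t)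
      rwa [smul_inv_smul, h1] at this
    rw [h4] at hu hv ⊢
    rw [smul_mul', Subgroup.mul_mem_iff_of_index_two h2]
    exact ⟨fun h5 => absurd h5 hu, fun h5 => absurd h5 hv⟩
  let K : Subgroup V := ⨅ x : Om Y z, W Y z r x
  have hK : ∀ v, v ∈ K ↔ ∀ x ∈ Om Y z, v ∈ W Y z r x := fun v => by
    simp only [K, mem_iInf, Subtype.forall]
  have h4 : K ≤ (h.psi x).ker := by
    intro v hv
    rw [MonoidHom.mem_ker]
    funext b
    refine h.psi_one ?_
    rw [← h.smul_W_iff (b : Y) hx, smul_inv_smul]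
    exact (hK v).1 hv _ (smul_mem_Om _ hx)
  have h5 : K = ⊥ := by
    refine h.eq_bot (fun g v hv => (hK _).2 fun y hy => ?_) (h4.trans h3)
    have h6 := h.smul_W g (smul_mem_Om g⁻¹ hy) ((hK v).1 hv _ (smul_mem_Om g⁻¹ hy))
    rwa [smul_inv_smul] at h6
  -- `x ∉ W_x`
  have hself : ∀ y ∈ Om Y z, y ∉ W Y z r y := by
    intro y hy h1
    have h6 : ∀ y' ∈ Om Y z, y' ∈ W Y z r y' := by
      intro y' hy'
      obtain ⟨a, rfl⟩ := hy
      obtain ⟨c, rfl⟩ := hy'
      have h7 : (c * a⁻¹) • (a • z) = c • z := by rw [← mul_smul, inv_mul_cancel_right]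
      have h8 := h.smul_W (c * a⁻¹) (x := a • z) ⟨a, rfl⟩ h1
      rwa [h7] at h8
    apply hW
    rw [eq_top_iff, ← h.gen]
    refine (closure_le _).2 fun y' hy' => ?_
    by_cases hr : r x y'
    · rw [h.W_congr hx hy' hr]
      exact h6 y' hy'
    · exact subset_closure ⟨hy', hr⟩
  have heq : ∀ y ∈ Om Y z, ∀ y' ∈ Om Y z, r y y' → y = y' := by
    intro y hy y' hy' hr
    have h6 : y * y' ∈ K := by
      refine (hK _).2 fun w hw => ?_
      by_cases hwy : r w y
      · refine two w hw y y' ?_ ?_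
        · rw [h.W_congr hw hy hwy]; exact hself y hy
        · rw [h.W_congr hw hy' (h.trans w hw y hy y' hy' hwy hr)]; exact hself y' hy'
      · refine mul_mem (subset_closure ⟨hy, hwy⟩) (subset_closure ⟨hy', fun h7 => hwy ?_⟩)
        exact h.trans w hw y' hy' y hy h7 (h.symm y hy y' hy' hr)
    rw [h5, mem_bot] at h6
    rw [← h.inv_eq y']
    exact mul_eq_one_iff_eq_inv.1 h6
  -- the product of all vectors of `Om`
  have hfin : (Om Y z).Finite := Set.toFinite _
  set O : Finset V := hfin.toFinset with hO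
  have hmem : ∀ v, v ∈ O ↔ v ∈ Om Y z := fun v => hfin.mem_toFinset
  have hs : ∀ g : Y, g • (∏ v ∈ O, v) = ∏ v ∈ O, v := by
    intro g
    rw [Finset.smul_prod']
    refine Finset.prod_bij' (fun v _ => g • v) (fun v _ => g⁻¹ • v) ?_ ?_ ?_ ?_ ?_
    · intro v hv; exact (hmem _).2 (smul_mem_Om g ((hmem v).1 hv))
    · intro v hv; exact (hmem _).2 (smul_mem_Om g⁻¹ ((hmem v).1 hv))
    · intro v _; exact inv_smul_smul g v
    · intro v _; exact smul_inv_smul g v
    · intro v _; rfl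
  have hs1 : ∏ v ∈ O, v = 1 := h.core _ fun g => by
    rw [hs g]
    exact fun b _ => hs b
  have hzO : z ∈ O := (hmem z).2 (z_mem_Om z)
  rw [← Finset.mul_prod_erase O (fun v => v) hzO] at hs1
  have h7 : (∏ v ∈ O.erase z, v)⁻¹ ∈ W Y z r z := by
    refine inv_mem (prod_mem fun v hv => ?_)
    rw [Finset.mem_erase] at hv
    exact subset_closure ⟨(hmem v).1 hv.2, fun h6 => hv.1 (heq z (z_mem_Om z) v ((hmem v).1 hv.2) h6).symm⟩
  rw [← mul_eq_one_iff_eq_inv.1 hs1] at h7
  exact hself z (z_mem_Om z) h7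

theorem caseA : ∀ x ∈ Om Y z, W Y z r x = ⊤ := by
  obtain ⟨x, hx, hzx⟩ := h.ne
  by_cases hW : W Y z r x = ⊤
  · exact fun y hy => h.W_top hx hy hW
  · exact (h.caseB_false hx hzx hW).elim

/-- `|V| = 16` -/
theorem card_V : Nat.card V = 16 := h.caseA_card h.caseA

theorem card_B : Nat.card B = 4 := by
  obtain ⟨x, hx, hzx⟩ := h.ne
  exact (h.caseA_count hx hzx).2.1

/-- one vector for each point -/
theorem eq_of_r {y y' : V} (hy : y ∈ Om Y z) (hy' : y' ∈ Om Y z) (hr : r y y') : y = y' := h.caseA_eq h.caseA hy hy' hr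

/-- **(+) finishes**: `Om` consists of five vectors with product 1, the last four form a regular orbit of `B`. -/
theorem exists_five : ∃ w : Fin 5 → V, Function.Injective w ∧ w 0 = z ∧ Set.range w = Om Y z ∧
    w 0 * w 1 * w 2 * w 3 * w 4 = 1 ∧ closure (Set.range w) = ⊤ ∧
    (∀ b ∈ B, ∀ i, b • w i = w i → b = 1 ∨ i = 0) ∧ (∀ b ∈ B, b • w 0 = w 0) ∧
    ∀ i j, i ≠ 0 → j ≠ 0 → ∃ b ∈ B, b • w i = w j := by
  classical
  haveI := Fintype.ofFinite B
  obtain ⟨x, hx, hzx⟩ := h.ne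
  let e : Fin 4 ≃ B := (Finite.equivFinOfCardEq h.card_B).symm
  let w : Fin 5 → V := Fin.cons z fun i => (e i : Y) • x
  have hw0 : w 0 = z := rfl
  have hws : ∀ i : Fin 4, w i.succ = (e i : Y) • x := fun i => rfl
  have hwO : ∀ i, w i ∈ Om Y z := by
    intro i
    refine Fin.cases ?_ (fun i => ?_) i
    · exact z_mem_Om z
    · rw [hws]; exact smul_mem_Om _ hx
  have hne0 : ∀ i : Fin 4, ¬ r z (w i.succ) := fun i => by
    rw [hws]; exact h.not_r_smul (e i).2 hx hzx
  have hinj : Function.Injective w := by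
    intro i j hij
    induction i using Fin.cases with
    | zero =>
      induction j using Fin.cases with
      | zero => rfl
      | succ j =>
        exfalso
        rw [hw0] at hij
        exact hne0 j (hij ▸ h.refl z (z_mem_Om z))
    | succ i =>
      induction j using Fin.cases with
      | zero =>
        exfalso
        rw [hw0] at hij
        exact hne0 i (hij ▸ h.refl z (z_mem_Om z))
      | succ j =>
        rw [hws, hws] at hij
        have h1 := h.r_smul (e i).2 (e j).2 hx hzx (hij ▸ h.refl _ (smul_mem_Om _ hx))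
        rw [e.injective (Subtype.ext h1)]
  have hrange : Set.range w = Om Y z := by
    ext v
    constructor
    · rintro ⟨i, rfl⟩; exact hwO i
    · intro hv
      by_cases hzv : r z v
      · exact ⟨0, by rw [hw0]; exact h.eq_of_r (z_mem_Om z) hv hzv⟩
      · obtain ⟨b, hb⟩ := h.caseA_orbit hx hzx hv hzv
        refine ⟨(e.symm b).succ, ?_⟩
        rw [hws, e.apply_symm_apply]
        exact h.eq_of_r (smul_mem_Om _ hx) hv hb
  refine ⟨w, hinj, hw0, hrange, ?_, by rw [hrange]; exact h.gen, ?_, ?_, ?_⟩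
  · have h1 := h.caseA_prod h.caseA hx hzx
    rw [← e.prod_comp] at h1
    have h2 : ∏ i, w i = z * ∏ i, (e i : Y) • x := Fin.prod_univ_succ w
    rw [h1, Fin.prod_univ_five] at h2
    exact h2
  · intro b hb i hi
    by_cases hb1 : b = 1
    · exact Or.inl hb1
    · right
      induction i using Fin.cases with
      | zero => rfl
      | succ i =>
        exfalso
        refine h.not_r hb hb1 (hwO i.succ) (hne0 i) ?_
        rw [hi]
        exact h.refl _ (hwO _)
  · intro b hb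
    rw [hw0]
    exact h.fix_z b hb
  · intro i j hi hj
    obtain ⟨i, rfl⟩ := Fin.exists_succ_eq.2 hi
    obtain ⟨j, rfl⟩ := Fin.exists_succ_eq.2 hj
    refine ⟨e j * (e i : Y)⁻¹, mul_mem (e j).2 (inv_mem (e i).2), ?_⟩
    rw [hws, hws, mul_smul, inv_smul_smul]

end Hyp

/-! ### `A₅` -/

/-- the involutions with the only fixed point 0 -/
def Good (τ : Equiv.Perm (Fin 5)) : Prop := τ * τ = 1 ∧ τ 0 = 0 ∧ ∀ i, i ≠ 0 → τ i ≠ i

instance : DecidablePred Good := fun τ => by unfold Good; infer_instance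

theorem card_good : (Finset.univ.filter Good).card = 3 := by decide +kernel

/-- a transitive subgroup containing all involutions with the only fixed point 0 contains `A₅` -/
theorem alt_le {H : Subgroup (Equiv.Perm (Fin 5))} (htr : ∀ i, ∃ η ∈ H, η 0 = i) (hg : ∀ τ, Good τ → τ ∈ H) :
    alternatingGroup (Fin 5) ≤ H := by
  classical
  set τ₀ : Equiv.Perm (Fin 5) := Equiv.swap 1 2 * Equiv.swap 3 4 with hτ
  have hgood : Good τ₀ := by rw [hτ]; decide
  have hK : normalClosure {τ₀} ≤ H := by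
    refine (closure_le _).2 ?_
    intro κ hκ
    obtain ⟨σ, rfl⟩ : ∃ σ, σ * τ₀ * σ⁻¹ = κ := by
      rw [Group.mem_conjugatesOfSet_iff] at hκ
      obtain ⟨a, ha, hc⟩ := hκ
      rw [Set.mem_singleton_iff] at ha
      subst ha
      exact isConj_iff.1 hc
    obtain ⟨η, hη, h0⟩ := htr (σ 0)
    have h1 : Good (η⁻¹ * σ * τ₀ * (η⁻¹ * σ)⁻¹) := by
      have hc0 : (η⁻¹ * σ) 0 = 0 := by
        rw [Equiv.Perm.mul_apply, Equiv.Perm.inv_eq_iff_eq, h0]
      have hc0' : (η⁻¹ * σ)⁻¹ 0 = 0 := by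
        rw [Equiv.Perm.inv_eq_iff_eq, hc0]
      refine ⟨?_, ?_, fun i hi h2 => ?_⟩
      · calc η⁻¹ * σ * τ₀ * (η⁻¹ * σ)⁻¹ * (η⁻¹ * σ * τ₀ * (η⁻¹ * σ)⁻¹) = η⁻¹ * σ * (τ₀ * τ₀) * (η⁻¹ * σ)⁻¹ := by group
          _ = 1 := by rw [hgood.1]; group
      · rw [Equiv.Perm.mul_apply, hc0', Equiv.Perm.mul_apply, hgood.2.1, hc0]
      · rw [Equiv.Perm.mul_apply, Equiv.Perm.mul_apply (η⁻¹ * σ) τ₀] at h2
        have h3 : τ₀ ((η⁻¹ * σ)⁻¹ i) = (η⁻¹ * σ)⁻¹ i := by
          rw [Equiv.Perm.eq_inv_iff_eq]; exact h2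
        have h4 : (η⁻¹ * σ)⁻¹ i = 0 := by
          by_contra h5
          exact hgood.2.2 _ h5 h3
        apply hi
        rw [Equiv.Perm.inv_eq_iff_eq, hc0] at h4
        exact h4
    have h2 := H.mul_mem (H.mul_mem hη (hg _ h1)) (H.inv_mem hη)
    have h3 : η * (η⁻¹ * σ * τ₀ * (η⁻¹ * σ)⁻¹) * η⁻¹ = σ * τ₀ * σ⁻¹ := by group
    rwa [h3] at h2
  refine le_trans ?_ hK
  have hn : ((normalClosure {τ₀}).subgroupOf (alternatingGroup (Fin 5))).Normal := inferInstance
  have hτA : τ₀ ∈ alternatingGroup (Fin 5) := by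
    rw [hτ, Equiv.Perm.mem_alternatingGroup]
    decide
  haveI : IsSimpleGroup (alternatingGroup (Fin 5)) := alternatingGroup.isSimpleGroup_five
  rcases hn.eq_bot_or_eq_top with h1 | h1
  · exfalso
    have h2 : (⟨τ₀, hτA⟩ : alternatingGroup (Fin 5)) ∈ (normalClosure {τ₀}).subgroupOf (alternatingGroup (Fin 5)) := by
      rw [mem_subgroupOf]
      exact subset_normalClosure rfl
    rw [h1, mem_bot] at h2
    have h3 : τ₀ = 1 := congrArg Subtype.val h2
    have h4 := hgood.2.2 1 (by decide)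
    rw [h3] at h4
    exact h4 rfl
  · rw [subgroupOf_eq_top] at h1
    exact h1

namespace Hyp

variable {z : V} {E : V → Subgroup V} {r : V → V → Prop} {B : Subgroup Y}
variable (h : Hyp z E r B) [Finite V] [Finite Y]
include h

/-- **(+) finishes**: `V = O₄⁻(2)`, `Y` induces at least `A₅` on the five vectors of `Om`. -/
theorem main (h2 : ∀ b ∈ B, b * b = 1) : ∃ w : Fin 5 → V, Function.Injective w ∧ w 0 = z ∧ Set.range w = Om Y z ∧
    w 0 * w 1 * w 2 * w 3 * w 4 = 1 ∧ closure (Set.range w) = ⊤ ∧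
    (∀ g : Y, ∃ σ : Equiv.Perm (Fin 5), ∀ i, g • w i = w (σ i)) ∧
    ∀ σ ∈ alternatingGroup (Fin 5), ∃ g : Y, ∀ i, g • w i = w (σ i) := by
  classical
  obtain ⟨w, hinj, hw0, hrange, hprod, hgen, hfree, hfix, htr⟩ := h.exists_five
  have hperm : ∀ g : Y, ∃ σ : Equiv.Perm (Fin 5), ∀ i, g • w i = w (σ i) := by
    intro g
    have h1 : ∀ i, ∃ j, g • w i = w j := by
      intro i
      have h3 : g • w i ∈ Set.range w := by
        rw [hrange]
        exact smul_mem_Om g (hrange ▸ ⟨i, rfl⟩)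
      obtain ⟨j, hj⟩ := h3
      exact ⟨j, hj.symm⟩
    choose f hf using h1
    have hfi : Function.Injective f := by
      intro i j hij
      apply hinj
      apply MulAction.injective g
      change g • w i = g • w j
      rw [hf, hf, hij]
    exact ⟨Equiv.ofBijective f (Finite.injective_iff_bijective.1 hfi), hf⟩
  refine ⟨w, hinj, hw0, hrange, hprod, hgen, hperm, ?_⟩
  choose p hp using hperm
  have hpm : ∀ g g' : Y, p (g * g') = p g * p g' := by
    intro g g'
    ext i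
    congr 1
    apply hinj
    rw [← hp, mul_smul, hp g', hp g, Equiv.Perm.mul_apply]
  let ψ : Y →* Equiv.Perm (Fin 5) := MonoidHom.mk' p hpm
  have hle : alternatingGroup (Fin 5) ≤ ψ.range := by
    refine alt_le ?_ ?_
    · intro i
      have h1 : w i ∈ Om Y z := hrange ▸ ⟨i, rfl⟩
      obtain ⟨g, hg⟩ := h1
      refine ⟨ψ g, ⟨g, rfl⟩, hinj ?_⟩
      change w (p g 0) = w i
      rw [← hp, hw0]
      exact hg
    · -- the images of the elements `≠ 1` of `B`
      have hB : ∀ b ∈ B, b ≠ 1 → Good (p b) := by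
        intro b hb hb1
        refine ⟨?_, ?_, fun i hi h3 => ?_⟩
        · rw [← hpm, h2 b hb]
          ext i
          congr 1
          apply hinj
          rw [← hp, one_smul, Equiv.Perm.one_apply]
        · apply hinj
          rw [← hp, hfix b hb]
        · rcases hfree b hb i (by rw [hp, h3]) with h4 | h4
          · exact hb1 h4
          · exact hi h4
      haveI := Fintype.ofFinite B
      have hcB : Fintype.card B = 4 := by rw [← Nat.card_eq_fintype_card]; exact h.card_B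
      let S : Finset (Equiv.Perm (Fin 5)) := (Finset.univ.erase (1 : B)).image fun b : B => p (b : Y)
      have hS : S.card = 3 := by
        rw [Finset.card_image_of_injOn, Finset.card_erase_of_mem (Finset.mem_univ _), Finset.card_univ, hcB]
        intro b _ b' _ hbb
        have hbb' : p (b : Y) = p (b' : Y) := hbb
        have h3 : (b'⁻¹ * b : B) = 1 := by
          have h4 : ((b' : Y)⁻¹ * (b : Y)) • w 1 = w 1 := by
            rw [mul_smul, hp (b : Y), hbb', ← hp (b' : Y), inv_smul_smul]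
          rcases hfree _ (mul_mem (inv_mem b'.2) b.2) 1 h4 with h5 | h5
          · exact Subtype.ext h5
          · exact absurd h5 (by decide)
        exact (inv_mul_eq_one.1 h3).symm
      have hSG : S ⊆ Finset.univ.filter Good := by
        intro τ hτ
        obtain ⟨b, hb, rfl⟩ := Finset.mem_image.1 hτ
        rw [Finset.mem_filter]
        refine ⟨Finset.mem_univ _, hB b b.2 fun h3 => ?_⟩
        exact (Finset.mem_erase.1 hb).1 (Subtype.ext h3)
      have hSeq : S = Finset.univ.filter Good := Finset.eq_of_subset_of_card_le hSG (by rw [card_good, hS])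
      intro τ hτ
      have h3 : τ ∈ S := by rw [hSeq, Finset.mem_filter]; exact ⟨Finset.mem_univ _, hτ⟩
      obtain ⟨b, -, rfl⟩ := Finset.mem_image.1 h3
      exact ⟨b, rfl⟩
  intro σ hσ
  obtain ⟨g, hg⟩ := hle hσ
  refine ⟨g, fun i => ?_⟩
  rw [hp, ← hg]
  rfl

end Hyp

end Cfsg.Agent.Omega.NearFF.Plus
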