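import Cfsg.Agent.Omega.NearFF.Fix

/-!
# THEOREM BT2 (helper318, bb 13091): no line on `z`
-/

set_option autoImplicit false
set_option linter.unusedSectionVars false

namespace Cfsg.Agent.Omega.NearFF

open Subgroup Transv

variable {Y : Type*} [Group Y] {V : Type*} [AddCommGroup V] [Module (ZMod 2) V] [DistribMulAction Y V]

namespace Geo

variable {T : Sylow 2 Y} {U : Subgroup Y} {z : V} {Om : Set V} {f : V → Du V}

/-- coordinates in the case `|V| ≤ 16` -/
theorem coord [Finite Y] [Finite V] (h : Geo Y V T U z Om f) (hc : Nat.card V ≤ 16) {y0 w1 w2 : V} (hy0 : y0 ∈ Om)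
    (h1 : f z y0 = 1) (hw1 : w1 ∈ Om) (hw2 : w2 ∈ Om) (e1 : f z w1 = 0) (e2 : f z w2 = 0) (e3 : f y0 w1 = 0)
    (e4 : f y0 w2 = 0) (e5 : f w1 w2 = 1) (v : V) :
    v = f y0 v • z + f z v • y0 + f w2 v • w1 + f w1 v • w2 := by
  have s0 : f z z = 0 := (h.pnt z h.zO).self
  have s1 : f y0 y0 = 0 := (h.pnt y0 hy0).self
  have s2 : f w1 w1 = 0 := (h.pnt w1 hw1).self
  have s3 : f w2 w2 = 0 := (h.pnt w2 hw2).self
  have t1 : f y0 z = 1 := by rw [h.symm hy0 h.zO, h1]
  have t2 : f w1 z = 0 := by rw [h.symm hw1 h.zO, e1]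
  have t3 : f w2 z = 0 := by rw [h.symm hw2 h.zO, e2]
  have t4 : f w1 y0 = 0 := by rw [h.symm hw1 hy0, e3]
  have t5 : f w2 y0 = 0 := by rw [h.symm hw2 hy0, e4]
  have t6 : f w2 w1 = 1 := by rw [h.symm hw2 hw1, e5]
  let F : (ZMod 2 × ZMod 2) × (ZMod 2 × ZMod 2) → V := fun p =>
    p.1.1 • z + p.1.2 • y0 + p.2.1 • w1 + p.2.2 • w2
  have k1 : ∀ p, f y0 (F p) = p.1.1 := by
    rintro ⟨⟨a, b⟩, c, d⟩
    change f y0 (a • z + b • y0 + c • w1 + d • w2) = a
    simp only [map_add, map_smul, t1, s1, e3, e4, add_zero, smul_eq_mul, mul_one,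
      mul_zero]
  have k2 : ∀ p, f z (F p) = p.1.2 := by
    rintro ⟨⟨a, b⟩, c, d⟩
    change f z (a • z + b • y0 + c • w1 + d • w2) = b
    simp only [map_add, map_smul, s0, h1, e1, e2, add_zero, smul_eq_mul, mul_one,
      mul_zero, zero_add]
  have k3 : ∀ p, f w2 (F p) = p.2.1 := by
    rintro ⟨⟨a, b⟩, c, d⟩
    change f w2 (a • z + b • y0 + c • w1 + d • w2) = c
    simp only [map_add, map_smul, t3, t5, t6, s3, add_zero, smul_eq_mul, mul_one,
      mul_zero, zero_add]
  have k4 : ∀ p, f w1 (F p) = p.2.2 := by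
    rintro ⟨⟨a, b⟩, c, d⟩
    change f w1 (a • z + b • y0 + c • w1 + d • w2) = d
    simp only [map_add, map_smul, t2, t4, e5, s2, add_zero, smul_eq_mul, mul_one,
      mul_zero, zero_add]
  have hF : Function.Injective F := by
    intro p q hpq
    refine Prod.ext (Prod.ext ?_ ?_) (Prod.ext ?_ ?_)
    · rw [← k1, ← k1, hpq]
    · rw [← k2, ← k2, hpq]
    · rw [← k3, ← k3, hpq]
    · rw [← k4, ← k4, hpq]
  have hcard : Nat.card ((ZMod 2 × ZMod 2) × (ZMod 2 × ZMod 2)) = 16 := by
    rw [Nat.card_prod, Nat.card_prod, Nat.card_zmod]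
  have hle := Nat.card_le_card_of_injective F hF
  have hb := (Nat.bijective_iff_injective_and_card F).mpr ⟨hF, by omega⟩
  obtain ⟨p, hp⟩ := hb.2 v
  rw [← hp, k1, k2, k3, k4]

/-- (A6) -/
theorem fix_line [Finite Y] [Finite V] (h : Geo Y V T U z Om f) (hc : Nat.card V ≤ 16) {y0 w1 w2 : V} (hy0 : y0 ∈ Om)
    (h1 : f z y0 = 1) (hw1 : w1 ∈ Om) (hw2 : w2 ∈ Om) (e1 : f z w1 = 0) (e2 : f z w2 = 0) (e3 : f y0 w1 = 0)
    (e4 : f y0 w2 = 0) (e5 : f w1 w2 = 1) (t : Y) (ht : t • z = z) : t • w1 = w1 ∨ t • w1 = w1 + z := by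
  have hz := h.pnt z h.zO
  have hco := h.coord hc hy0 h1 hw1 hw2 e1 e2 e3 e4 e5
  have t1 : f y0 z = 1 := by rw [h.symm hy0 h.zO, h1]
  have t2 : f w1 z = 0 := by rw [h.symm hw1 h.zO, e1]
  have t3 : f w2 z = 0 := by rw [h.symm hw2 h.zO, e2]
  have hn : w1 + w2 ∉ Om := by
    intro h2
    have h3 := h.nh hw1 hw2 (by rwa [add_comm])
    rw [e5] at h3
    exact one_ne h3
  have n1 : w1 ≠ z := by
    intro h2
    rw [h2, e2] at e5
    exact one_ne e5.symm
  have n2 : w2 ≠ z := by
    intro h2
    rw [h2, t2] at e5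
    exact one_ne e5.symm
  -- the points of `E_z`
  have hE : ∀ u ∈ Om, f z u = 0 → u ≠ z → (u = w1 ∨ u = w1 + z) ∨ (u = w2 ∨ u = w2 + z) := by
    intro u hu h2 h3
    have h4 := hco u
    rw [h2, zero_smul, add_zero] at h4
    rcases zmod_cases (f w2 u) with c1 | c1
    · rcases zmod_cases (f w1 u) with c2 | c2
      · exfalso
        rw [c1, c2, zero_smul, zero_smul, add_zero, add_zero] at h4
        rcases zmod_cases (f y0 u) with c3 | c3
        · rw [c3, zero_smul] at h4
          exact (h.pnt u hu).ne h4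
        · rw [c3, one_smul] at h4
          exact h3 h4
      · right
        rw [c1, c2, zero_smul, one_smul, add_zero] at h4
        rcases zmod_cases (f y0 u) with c3 | c3
        · rw [c3, zero_smul, zero_add] at h4
          exact Or.inl h4
        · rw [c3, one_smul, add_comm] at h4
          exact Or.inr h4
    · rcases zmod_cases (f w1 u) with c2 | c2
      · left
        rw [c1, c2, zero_smul, one_smul, add_zero] at h4
        rcases zmod_cases (f y0 u) with c3 | c3
        · rw [c3, zero_smul, zero_add] at h4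
          exact Or.inl h4
        · rw [c3, one_smul, add_comm] at h4
          exact Or.inr h4
      · exfalso
        rw [c1, c2, one_smul, one_smul] at h4
        rcases zmod_cases (f y0 u) with c3 | c3
        · rw [c3, zero_smul, zero_add] at h4
          rw [h4] at hu
          exact hn hu
        · rw [c3, one_smul] at h4
          have h5 := h.line h.zO hu h2 h3
          have h6 : u + z = w1 + w2 := by
            rw [h4, add_assoc z w1 w2, Fr.cancel_right]
          rw [h6] at h5
          exact hn h5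
  have hT : ∀ w ∈ Om, f z w = 0 → w ≠ z →
      (t • w = w1 ∨ t • w = w1 + z) ∨ (t • w = w2 ∨ t • w = w2 + z) := by
    intro w hw h2 h3
    refine hE _ (h.smul t w hw) (by rw [h.f_of_fix h.zO ht, h2]) ?_
    intro h4
    apply h3
    rw [← inv_smul_smul t w, h4, inv_smul_eq_iff, ht]
  rcases hT w1 hw1 e1 n1 with h2 | h2
  · exact h2
  · exfalso
    -- then `t` swaps the two lines
    have h3 : t • w2 = w1 ∨ t • w2 = w1 + z := by
      rcases hT w2 hw2 e2 n2 with h3 | h3
      · exact h3
      · exfalso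
        have h4 : t • (w1 + w2) = 0 ∨ t • (w1 + w2) = z := by
          rw [smul_add]
          rcases h2 with h2 | h2 <;> rcases h3 with h3 | h3 <;> rw [h2, h3]
          · exact Or.inl (add_self _)
          · right
            rw [← add_assoc, add_self, zero_add]
          · right
            exact Fr.cancel_right _ _
          · exact Or.inl (add_self _)
        have h5 : w1 + w2 = 0 ∨ w1 + w2 = z := by
          rcases h4 with h4 | h4
          · left
            rw [← inv_smul_smul t (w1 + w2), h4, smul_zero]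
          · right
            rw [← inv_smul_smul t (w1 + w2), h4, inv_smul_eq_iff, ht]
        have h6 : f w1 (w1 + w2) = 1 := by rw [map_add, (h.pnt w1 hw1).self, e5, zero_add]
        rcases h5 with h5 | h5
        · rw [h5, map_zero] at h6
          exact one_ne h6.symm
        · rw [h5, t2] at h6
          exact one_ne h6.symm
    -- straighten `t` on `y0`
    have h4 : f z (t • y0) = 1 := by rw [h.f_of_fix h.zO ht, h1]
    obtain ⟨b, hb, c, h5⟩ := h.hit h.zO h1 h4
    have hc0 : c = 0 := by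
      refine eq_zero_of_ne fun hc1 => ?_
      have h6 : b • y0 = t • y0 + z := by rw [h5, hc1, one_smul, add_add_self]
      have h7 : t • y0 + z ∈ Om := by
        rw [← h6]
        exact h.smul b y0 hy0
      have h8 := h.nh h.zO (h.smul t y0 hy0) h7
      rw [h4] at h8
      exact one_ne h8
    rw [hc0, zero_smul, add_zero] at h5
    have hb' : b⁻¹ ∈ KK Y z (f z) := inv_mem hb
    have g0 : (b⁻¹ * t) • y0 = y0 := by rw [mul_smul, h5, inv_smul_smul]
    have gz : (b⁻¹ * t) • z = z := by rw [mul_smul, ht, hb'.1]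
    have swap : ∀ w w' : V, f z w' = 0 → f y0 w = 0 → f y0 w' = 0 → (t • w = w' ∨ t • w = w' + z) →
        (b⁻¹ * t) • w = w' := by
      intro w w' q1 q2 q3 q4
      have q5 : (b⁻¹ * t) • w = w' ∨ (b⁻¹ * t) • w = w' + z := by
        rw [mul_smul]
        rcases q4 with q4 | q4
        · rw [q4]
          exact hb'.2.2 w' q1
        · rw [q4, smul_add, hb'.1]
          rcases hb'.2.2 w' q1 with q6 | q6
          · rw [q6]
            exact Or.inr rfl
          · rw [q6, add_add_self]
            exact Or.inl rfl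
      refine q5.resolve_right fun q6 => ?_
      have q7 := h.f_of_fix hy0 g0 w
      rw [q6, map_add, q3, t1, q2, zero_add] at q7
      exact one_ne q7
    have g1 := swap w1 w2 e2 e3 e4 h2
    have g2 := swap w2 w1 e1 e4 e3 h3
    refine h.nt (b⁻¹ * t) (w1 + w2) (f w1 + f w2) ⟨?_, ?_, fun v => ?_⟩
    · intro h6
      have h7 : w1 = w2 := eq_of_add h6
      rw [h7, (h.pnt w2 hw2).self] at e5
      exact one_ne e5.symm
    · intro h6
      have h7 : (f w1 + f w2) w2 = 0 := by rw [h6]; rfl
      rw [LinearMap.add_apply, e5, (h.pnt w2 hw2).self, add_zero] at h7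
      exact one_ne h7
    · have h6 : (b⁻¹ * t) • v = f y0 v • z + f z v • y0 + f w2 v • w2 + f w1 v • w1 := by
        conv_lhs => rw [hco v]
        rw [smul_add, smul_add, smul_add, smul_zmod, smul_zmod, smul_zmod, smul_zmod, gz, g0, g1, g2]
      have h7 : f y0 v • z + f z v • y0 + f w2 v • w2 + f w1 v • w1 =
        f y0 v • z + f z v • y0 + f w2 v • w1 + f w1 v • w2 +
          (f w1 v • w1 + f w1 v • w2 + (f w2 v • w1 + f w2 v • w2)) := by
        have h8 : f y0 v • z + f z v • y0 + f w2 v • w1 + f w1 v • w2 +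
            (f w1 v • w1 + f w1 v • w2 + (f w2 v • w1 + f w2 v • w2)) =
          f y0 v • z + f z v • y0 + f w2 v • w2 + f w1 v • w1 + (f w2 v • w1 + f w2 v • w1) +
            (f w1 v • w2 + f w1 v • w2) := by abel
        rw [h8, add_self, add_self, add_zero, add_zero]
      rw [h6, h7, ← hco v, LinearMap.add_apply, add_smul, smul_add, smul_add]

/-- (6), (8): `z` is the only point of `E_z` -/
theorem only_z [Finite Y] [Finite V] (h : Geo Y V T U z Om f) : ∀ w ∈ Om, f z w = 0 → w = z := by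
  intro w0 hw0 hzw
  by_contra hne
  have hz := h.pnt z h.zO
  -- it is enough to find a line in the block and a contradiction when the block is singular
  have key : ∀ w ∈ Del U z, w ≠ z → (∀ d ∈ Del U z, f z d = 0) := by
    intro w _ _ d hd
    exact eq_zero_of_ne fun h1 => h.no_far hw0 hzw hne hd h1
  rcases Nat.lt_or_ge 4 (Nat.card (KK Y z (f z))) with h4 | h4
  · obtain ⟨w, hw, h1, h2, h3⟩ := h.exists_line h4 hw0 hzw hne
    have h5 := h.line_del hw h1 h2 h3
    have h6 := h.card_le (key w h5 h2) h5 h2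
    omega
  · have hc : Nat.card V ≤ 16 := by
      have h5 := hz.card
      omega
    obtain ⟨y0, hy0, h1⟩ := h.exists_far h.zO
    obtain ⟨w1, hw1, w2, hw2, e1, e2, e3, e4, e5⟩ := h.exists_pair hy0 h1 hw0 hzw hne
    have e6 : f w2 w1 = 1 := by rw [h.symm hw2 hw1, e5]
    have n1 : w1 ≠ z := by
      intro h2
      rw [h2, e2] at e5
      exact one_ne e5.symm
    have n2 : w2 ≠ z := by
      intro h2
      rw [h2, e1] at e6
      exact one_ne e6.symm
    have d1 := h.line_del hw1 e1 n1 fun t ht =>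
      h.fix_line hc hy0 h1 hw1 hw2 e1 e2 e3 e4 e5 t (h.z_fix t ht)
    have d2 := h.line_del hw2 e2 n2 fun t ht =>
      h.fix_line hc hy0 h1 hw2 hw1 e2 e1 e4 e3 e6 t (h.z_fix t ht)
    have h5 := key w1 d1 n1
    obtain ⟨g, hg, h6⟩ := d1
    have h7 := h.conj g z h.zO (g⁻¹ • w2)
    rw [smul_inv_smul, h6, e5, h5 _ (del_smul (inv_mem hg) d2)] at h7
    exact one_ne h7

end Geo

end Cfsg.Agent.Omega.NearFF
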