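import Mathlib

/-!
# (BT), `|V/E| = 2`, symmetric case: the exception (4) of #14522 (helper276)

`Y` acts on the `F₂`-space `V` and preserves the symplectic form `f`; `Ω = z^Y`; on every point there are exactly two
good lines (`s_l ∈ Y`), on `z` they are `⟨z, l1⟩` and `⟨z, l2⟩`, `f l1 l2 = 1`.  If `T` interchanges them there is a
contradiction (`Exc.false`).
-/

set_option autoImplicit false
set_option linter.unusedSectionVars false

namespace Cfsg.Agent.Omega.NearFF.SymExc

open MulAction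

variable {Y : Type*} [Group Y] {V : Type*} [AddCommGroup V] [Module (ZMod 2) V] [DistribMulAction Y V]

/-- `s_{x,w} t_x^c` -/
def S (f : V → V →+ ZMod 2) (x w : V) (c : ZMod 2) (v : V) : V := v + f v x • w + f v w • x + (c * f v x) • x

/-- `r` acts as `s_{x,w} t_x^c` -/
def Act (f : V → V →+ ZMod 2) (r : Y) (x w : V) (c : ZMod 2) : Prop := ∀ v, r • v = S f x w c v

/-- the line `⟨x, u⟩` is good: `s_{x,u} ∈ Y` -/
def Good (Y : Type*) [Group Y] [DistribMulAction Y V] (f : V → V →+ ZMod 2) (x u : V) : Prop :=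
  u ≠ 0 ∧ u ≠ x ∧ f x u = 0 ∧ ∃ r : Y, Act f r x u 0

/-- the hypotheses -/
structure Exc (f : V → V →+ ZMod 2) (T : Subgroup Y) (z l1 l2 : V) : Prop where
  symm : ∀ u v, f u v = f v u
  alt : ∀ v, f v v = 0
  inv : ∀ (g : Y) (u v : V), f (g • u) (g • v) = f u v
  nt : ∀ (g : Y) (x : V), x ≠ 0 → ¬ ∀ v, g • v = v + f v x • x
  T2 : IsPGroup 2 T
  Tz : ∀ t ∈ T, t • z = z
  TC : ∀ v, (∀ t ∈ T, t • v = v) → v = 0 ∨ v = z
  R : ∀ (r : Y) (w : V) (c : ZMod 2), f w z = 0 → Act f r z w c → r ∈ T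
  f12 : f l1 l2 = 1
  z1 : f z l1 = 0
  z2 : f z l2 = 0
  g1 : ∃ r : Y, Act f r z l1 0
  g2 : ∃ r : Y, Act f r z l2 0
  good : ∀ u, Good Y f z u → u = l1 ∨ u = l1 + z ∨ u = l2 ∨ u = l2 + z
  O1 : l1 ∈ orbit Y z
  O2 : l2 ∈ orbit Y z
  N12 : l1 + l2 ∉ orbit Y z
  N12z : l1 + l2 + z ∉ orbit Y z
  far : ∃ v ∈ orbit Y z, f z v = 1
  line : ∀ x ∈ orbit Y z, ∀ y ∈ orbit Y z, x ≠ y → f x y = 0 → x + y ∈ orbit Y z
  t0 : ∃ t ∈ T, t • l1 ≠ l1 ∧ t • l1 ≠ l1 + z

theorem two (v : V) : v + v = 0 := ZModModule.add_self v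

theorem zz (a : ZMod 2) : a = 0 ∨ a = 1 := by
  revert a; decide

theorem one_ne : (1 : ZMod 2) ≠ 0 := by decide

theorem oo : (1 : ZMod 2) + 1 = 0 := by decide

theorem orb {z x : V} (g : Y) (hx : x ∈ orbit Y z) : g • x ∈ orbit Y z := by
  obtain ⟨k, rfl⟩ := hx
  exact ⟨g * k, mul_smul g k z⟩

theorem z_ne {f : V → V →+ ZMod 2} {T : Subgroup Y} {z l1 l2 : V} (h : Exc f T z l1 l2) : z ≠ 0 := by
  rintro rfl
  obtain ⟨v, -, hv⟩ := h.far
  rw [h.symm, map_zero] at hv
  exact one_ne hv.symm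

namespace Exc

variable {f : V → V →+ ZMod 2} {T : Subgroup Y} {z l1 l2 : V} (h : Exc f T z l1 l2)
include h

theorem al (u v w : V) : f (u + v) w = f u w + f v w := by
  rw [h.symm, map_add, h.symm w u, h.symm w v]

theorem l1_ne : l1 ≠ 0 := by
  rintro rfl
  have := h.f12
  rw [h.symm, map_zero] at this
  exact one_ne this.symm

theorem l2_ne : l2 ≠ 0 := by
  rintro rfl
  have := h.f12
  rw [map_zero] at this
  exact one_ne this.symm

theorem l1_nz : l1 ≠ z := by
  rintro rfl
  have := h.f12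
  rw [h.z2] at this
  exact one_ne this.symm

theorem l2_nz : l2 ≠ z := by
  rintro rfl
  have := h.f12
  rw [h.symm, h.z1] at this
  exact one_ne this.symm

/-- goodness is `Y`-invariant -/
theorem good_smul {x u : V} (hu : Good Y f x u) (g : Y) : Good Y f (g • x) (g • u) := by
  obtain ⟨h1, h2, h3, r, hr⟩ := hu
  refine ⟨fun h0 => h1 ((smul_eq_zero_iff_eq g).1 h0), fun h0 => h2 (smul_left_cancel g h0), by rw [h.inv, h3],
    g * r * g⁻¹, fun v => ?_⟩
  have e := hr (g⁻¹ • v)
  have e1 : f (g⁻¹ • v) x = f v (g • x) := by rw [← h.inv g, smul_inv_smul]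
  have e2 : f (g⁻¹ • v) u = f v (g • u) := by rw [← h.inv g, smul_inv_smul]
  have sm : ∀ (a : ZMod 2) (w : V), g • (a • w) = a • (g • w) := by
    intro a w
    rcases zz a with rfl | rfl
    · rw [zero_smul, smul_zero, zero_smul]
    · rw [one_smul, one_smul]
  rw [mul_smul, mul_smul, e, S, S, e1, e2, smul_add, smul_add, smul_add, smul_inv_smul, sm, sm, sm]

theorem good_smul_iff {x u : V} (g : Y) : Good Y f (g • x) (g • u) ↔ Good Y f x u := by
  refine ⟨fun h0 => ?_, fun h0 => h.good_smul h0 g⟩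
  have := h.good_smul h0 g⁻¹
  rwa [inv_smul_smul, inv_smul_smul] at this

/-- goodness is symmetric -/
theorem good_symm {x u : V} (hx : x ≠ 0) (hu : Good Y f x u) : Good Y f u x := by
  obtain ⟨h1, h2, h3, r, hr⟩ := hu
  refine ⟨hx, h2.symm, by rw [h.symm, h3], r, fun v => ?_⟩
  rw [hr v, S, S, zero_mul, zero_mul, zero_smul, zero_smul, add_zero, add_zero, add_assoc, add_comm (f v x • u),
    ← add_assoc]

theorem good_add {x u : V} (hu : Good Y f x u) : Good Y f x (u + x) := by
  obtain ⟨h1, h2, h3, r, hr⟩ := hu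
  refine ⟨?_, ?_, by rw [map_add, h3, h.alt, add_zero], r, fun v => ?_⟩
  · intro h0
    apply h2
    rw [← add_zero u, ← two x, ← add_assoc, h0, zero_add]
  · intro h0
    apply h1
    rwa [add_eq_right] at h0
  · rw [hr v, S, S, smul_add, map_add, add_smul, zero_mul, zero_smul]
    have := two (f v x • x)
    rw [add_zero, add_zero]
    calc v + f v x • u + f v u • x = v + f v x • u + f v u • x + (f v x • x + f v x • x) := by rw [this, add_zero]
      _ = v + (f v x • u + f v x • x) + (f v u • x + f v x • x) := by abel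

theorem good1 : Good Y f z l1 := ⟨h.l1_ne, h.l1_nz, h.z1, h.g1⟩

theorem good2 : Good Y f z l2 := ⟨h.l2_ne, h.l2_nz, h.z2, h.g2⟩

theorem good_iff {u : V} : Good Y f z u ↔ u = l1 ∨ u = l1 + z ∨ u = l2 ∨ u = l2 + z := by
  refine ⟨h.good u, ?_⟩
  rintro (rfl | rfl | rfl | rfl)
  · exact h.good1
  · exact h.good_add h.good1
  · exact h.good2
  · exact h.good_add h.good2

/-- the two good lines on a point -/
theorem two_lines {x : V} (hx : x ∈ orbit Y z) : ∃ a b : V, f a b = 1 ∧ f x a = 0 ∧ f x b = 0 ∧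
    a ∈ orbit Y z ∧ b ∈ orbit Y z ∧
    ∀ u, Good Y f x u ↔ u = a ∨ u = a + x ∨ u = b ∨ u = b + x := by
  obtain ⟨g, rfl⟩ := hx
  change ∃ a b : V, f a b = 1 ∧ f (g • z) a = 0 ∧ f (g • z) b = 0 ∧ a ∈ orbit Y z ∧ b ∈ orbit Y z ∧
    ∀ u, Good Y f (g • z) u ↔ u = a ∨ u = a + g • z ∨ u = b ∨ u = b + g • z
  refine ⟨g • l1, g • l2, by rw [h.inv, h.f12], by rw [h.inv, h.z1], by rw [h.inv, h.z2],
    orb g h.O1, orb g h.O2, fun u => ?_⟩
  have e : u = g • (g⁻¹ • u) := (smul_inv_smul g u).symm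
  rw [e, h.good_smul_iff, h.good_iff]
  simp only [← smul_add, smul_left_cancel_iff]

/-- the second good line on `x` -/
theorem second {x y : V} (hx : x ∈ orbit Y z) (hy : Good Y f x y) : ∃ m : V, f y m = 1 ∧ f x m = 0 ∧
    m ∈ orbit Y z ∧ ∀ u, Good Y f x u ↔ u = y ∨ u = y + x ∨ u = m ∨ u = m + x := by
  obtain ⟨a, b, h1, h2, h3, ha, hb, h4⟩ := h.two_lines hx
  have key : ∀ c : V, c + x + x = c := fun c => by rw [add_assoc, two, add_zero]
  rcases (h4 y).1 hy with rfl | rfl | rfl | rfl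
  · exact ⟨b, h1, h3, hb, h4⟩
  · refine ⟨b, by rw [h.al, h1, h3, add_zero], h3, hb, fun u => ?_⟩
    rw [h4, key]
    tauto
  · refine ⟨a, by rw [h.symm, h1], h2, ha, fun u => ?_⟩
    rw [h4]
    tauto
  · refine ⟨a, by rw [h.al, h.symm, h1, h2, add_zero], h2, ha, fun u => ?_⟩
    rw [h4, key]
    tauto

theorem act0 {r : Y} {w : V} (hr : Act f r z w 0) (v : V) : r • v = v + f v z • w + f v w • z := by
  have := h
  rw [hr v, S, zero_mul, zero_smul, add_zero]

theorem exists_t : ∃ t ∈ T, t • l1 = l2 ∧ (t • l2 = l1 ∨ t • l2 = l1 + z) := by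
  obtain ⟨t, ht, h1, h2⟩ := h.t0
  have hg : ∀ t ∈ T, ∀ u, Good Y f z u → Good Y f z (t • u) := by
    intro t ht u hu
    have := h.good_smul hu t
    rwa [h.Tz t ht] at this
  have key : ∀ t ∈ T, t • l1 = l2 → (t • l2 = l1 ∨ t • l2 = l1 + z) := by
    intro t ht e
    have h3 : f l2 (t • l2) = 1 := by rw [← e, h.inv, e, h.f12]
    rcases h.good _ (hg t ht l2 h.good2) with e1 | e1 | e1 | e1
    · exact Or.inl e1
    · exact Or.inr e1
    · rw [e1, h.alt] at h3
      exact absurd h3.symm one_ne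
    · rw [e1, map_add, h.alt, h.symm, h.z2, add_zero] at h3
      exact absurd h3.symm one_ne
  rcases h.good _ (hg t ht l1 h.good1) with e1 | e1 | e1 | e1
  · exact absurd e1 h1
  · exact absurd e1 h2
  · exact ⟨t, ht, e1, key t ht e1⟩
  · obtain ⟨s, hs⟩ := h.g1
    have hsT : s ∈ T := h.R s l1 0 (by rw [h.symm, h.z1]) hs
    have e2 : (s * t) • l1 = l2 := by
      rw [mul_smul, e1, h.act0 hs, h.al, h.al, h.alt, h.z1, h.symm l2 l1, h.f12, h.symm l2 z, h.z2, add_zero,
        add_zero, zero_smul, add_zero, one_smul, add_assoc, two, add_zero]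
    exact ⟨s * t, mul_mem hsT ht, e2, key _ (mul_mem hsT ht) e2⟩

theorem swap : Exc f T z l2 l1 where
  symm := h.symm
  alt := h.alt
  inv := h.inv
  nt := h.nt
  T2 := h.T2
  Tz := h.Tz
  TC := h.TC
  R := h.R
  f12 := by rw [h.symm, h.f12]
  z1 := h.z2
  z2 := h.z1
  g1 := h.g2
  g2 := h.g1
  good u hu := by
    rcases h.good u hu with e | e | e | e
    · exact Or.inr (Or.inr (Or.inl e))
    · exact Or.inr (Or.inr (Or.inr e))
    · exact Or.inl e
    · exact Or.inr (Or.inl e)
  O1 := h.O2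
  O2 := h.O1
  N12 := by rw [add_comm]; exact h.N12
  N12z := by rw [add_comm l2 l1]; exact h.N12z
  far := h.far
  line := h.line
  t0 := by
    obtain ⟨t, ht, e1, e2⟩ := h.exists_t
    have h12 : l1 ≠ l2 := by
      rintro rfl
      have := h.f12
      rw [h.alt] at this
      exact one_ne this.symm
    have h12z : l1 ≠ l2 + z := by
      intro e
      have := h.f12
      rw [e, h.al, h.alt, h.z2, add_zero] at this
      exact one_ne this.symm
    refine ⟨t, ht, ?_, ?_⟩
    · rcases e2 with e2 | e2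
      · rw [e2]; exact h12
      · rw [e2]
        intro e
        apply h12z
        rw [← e, add_assoc, two, add_zero]
    · rcases e2 with e2 | e2
      · rw [e2]; exact h12z
      · rw [e2]
        intro e
        exact h12 (add_right_cancel e)

theorem exists_mu : ∃ m ∈ orbit Y z, f z m = 1 ∧ f l1 m = 0 ∧ f l2 m = 0 ∧
    ∀ u, Good Y f l1 u ↔ u = z ∨ u = z + l1 ∨ u = m ∨ u = m + l1 := by
  have h0 : z ≠ 0 := z_ne h
  obtain ⟨m, h1, h2, h3, h4⟩ := h.second h.O1 (h.good_symm h0 h.good1)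
  rcases zz (f l2 m) with h5 | h5
  · exact ⟨m, h3, h1, h2, h5, h4⟩
  · have hne : m ≠ l1 := by
      rintro rfl
      rw [h.z1] at h1
      exact one_ne h1.symm
    refine ⟨m + l1, h.line m h3 l1 h.O1 hne (by rw [h.symm, h2]), by rw [map_add, h1, h.z1, add_zero],
      by rw [map_add, h2, h.alt, add_zero], by rw [map_add, h5, h.symm, h.f12, oo], fun u => ?_⟩
    rw [h4, add_assoc m, two, add_zero]
    tauto

/-- `C_0` fixes the second good lines -/
theorem fix_mu {m : V} (h1 : f z m = 1) (h3 : f l2 m = 0)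
    (h4 : ∀ u, Good Y f l1 u ↔ u = z ∨ u = z + l1 ∨ u = m ∨ u = m + l1) {c : Y} (hc : c ∈ T) (c1 : c • l1 = l1)
    (c2 : c • l2 = l2) : c • m = m := by
  have hm : Good Y f l1 m := (h4 m).2 (Or.inr (Or.inr (Or.inl rfl)))
  have h5 := h.good_smul hm c
  rw [c1] at h5
  have h6 : f z (c • m) = 1 := by
    have := h.inv c z m
    rwa [h.Tz c hc, h1] at this
  have h7 : f l2 (c • m) = 0 := by
    have := h.inv c l2 m
    rwa [c2, h3] at this
  rcases (h4 _).1 h5 with e | e | e | e
  · rw [e, h.alt] at h6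
    exact absurd h6.symm one_ne
  · rw [e, map_add, h.alt, h.z1, add_zero] at h6
    exact absurd h6.symm one_ne
  · exact e
  · rw [e, map_add, h3, h.symm, h.f12, zero_add] at h7
    exact absurd h7 one_ne

/-- the group `C_0` -/
def C0 (T : Subgroup Y) (l1 l2 : V) : Subgroup Y :=
  T ⊓ (MulAction.stabilizer Y l1 ⊓ MulAction.stabilizer Y l2)

omit h in
omit [Module (ZMod 2) V] in
theorem mem_C0 {c : Y} : c ∈ C0 T l1 l2 ↔ c ∈ T ∧ c • l1 = l1 ∧ c • l2 = l2 := Iff.rfl

/-- the vectors of `F = C_{D_z}(C_0)` -/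
def InF (f : V → V →+ ZMod 2) (T : Subgroup Y) (z l1 l2 d : V) : Prop :=
  f z d = 0 ∧ f l1 d = 0 ∧ f l2 d = 0 ∧ ∀ c ∈ C0 T l1 l2, c • d = d

theorem T_l1 {t : Y} (ht : t ∈ T) {u : V} (hu : Good Y f z u) : Good Y f z (t • u) := by
  have := h.good_smul hu t
  rwa [h.Tz t ht] at this

/-- `T_1` centralises `F` -/
theorem fixed_T1 {d : V} (hd : InF f T z l1 l2 d) {t : Y} (ht : t ∈ T) (h1 : t • l1 = l1 ∨ t • l1 = l1 + z) :
    t • d = d := by
  obtain ⟨d1, d2, d3, d4⟩ := hd
  obtain ⟨s, hs⟩ := h.g1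
  obtain ⟨r, hr⟩ := h.g2
  have hsT : s ∈ T := h.R s l1 0 (by rw [h.symm, h.z1]) hs
  have hrT : r ∈ T := h.R r l2 0 (by rw [h.symm, h.z2]) hr
  have f21 : f l2 l1 = 1 := by rw [h.symm, h.f12]
  have f1z : f l1 z = 0 := by rw [h.symm, h.z1]
  have f2z : f l2 z = 0 := by rw [h.symm, h.z2]
  have sz : s • z = z := h.Tz s hsT
  have rz : r • z = z := h.Tz r hrT
  have s1 : s • l1 = l1 := by rw [h.act0 hs, f1z, h.alt, zero_smul, zero_smul, add_zero, add_zero]
  have s2 : s • l2 = l2 + z := by rw [h.act0 hs, f2z, f21, zero_smul, one_smul, add_zero]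
  have r1 : r • l1 = l1 + z := by rw [h.act0 hr, f1z, h.f12, zero_smul, one_smul, add_zero]
  have r2 : r • l2 = l2 := by rw [h.act0 hr, f2z, h.alt, zero_smul, zero_smul, add_zero, add_zero]
  have sd : s • d = d := by
    rw [h.act0 hs, h.symm d z, d1, h.symm d l1, d2, zero_smul, zero_smul, add_zero, add_zero]
  have rd : r • d = d := by
    rw [h.act0 hr, h.symm d z, d1, h.symm d l2, d3, zero_smul, zero_smul, add_zero, add_zero]
  have s2z : s • (l2 + z) = l2 := by rw [smul_add, s2, sz, add_assoc, two, add_zero]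
  have r1z : r • (l1 + z) = l1 := by rw [smul_add, r1, rz, add_assoc, two, add_zero]
  have h2 : t • l2 = l2 ∨ t • l2 = l2 + z := by
    have h3 : f l1 (t • l2) = 1 := by
      have := h.inv t l1 l2
      rw [h.f12] at this
      rcases h1 with e | e
      · rwa [e] at this
      · rw [e, h.al] at this
        have h5 : f z (t • l2) = 0 := by
          have := h.inv t z l2
          rwa [h.Tz t ht, h.z2] at this
        rwa [h5, add_zero] at this
    rcases h.good _ (h.T_l1 ht h.good2) with e1 | e1 | e1 | e1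
    · rw [e1, h.alt] at h3
      exact absurd h3.symm one_ne
    · rw [e1, map_add, h.alt, f1z, add_zero] at h3
      exact absurd h3.symm one_ne
    · exact Or.inl e1
    · exact Or.inr e1
  rcases h1 with e1 | e1 <;> rcases h2 with e2 | e2
  · exact d4 t ⟨ht, e1, e2⟩
  · have h6 := d4 (s * t) ⟨mul_mem hsT ht, by
      show (s * t) • l1 = l1
      rw [mul_smul, e1, s1], by
      show (s * t) • l2 = l2
      rw [mul_smul, e2, s2z]⟩
    rw [mul_smul] at h6
    exact smul_left_cancel s (h6.trans sd.symm)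
  · have h6 := d4 (r * t) ⟨mul_mem hrT ht, by
      show (r * t) • l1 = l1
      rw [mul_smul, e1, r1z], by
      show (r * t) • l2 = l2
      rw [mul_smul, e2, r2]⟩
    rw [mul_smul] at h6
    exact smul_left_cancel r (h6.trans rd.symm)
  · have h6 := d4 (s * (r * t)) ⟨mul_mem hsT (mul_mem hrT ht), by
      show (s * (r * t)) • l1 = l1
      rw [mul_smul, mul_smul, e1, r1z, s1], by
      show (s * (r * t)) • l2 = l2
      rw [mul_smul, mul_smul, e2, smul_add, r2, rz, s2z]⟩
    rw [mul_smul, mul_smul] at h6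
    exact smul_left_cancel r ((smul_left_cancel s (h6.trans sd.symm)).trans rd.symm)

theorem inF_smul {d : V} (hd : InF f T z l1 l2 d) {t : Y} (ht : t ∈ T) : InF f T z l1 l2 (t • d) := by
  obtain ⟨d1, d2, d3, d4⟩ := hd
  have hti : t⁻¹ ∈ T := inv_mem ht
  have key : ∀ u, Good Y f z u → f u d = 0 := by
    intro u hu
    rcases h.good u hu with rfl | rfl | rfl | rfl
    · exact d2
    · rw [h.al, d2, d1, add_zero]
    · exact d3
    · rw [h.al, d3, d1, add_zero]
  have key2 : ∀ u, Good Y f z u → ∀ c ∈ C0 T l1 l2, c • u = u := by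
    intro u hu c hc
    obtain ⟨hcT, c1, c2⟩ := mem_C0.1 hc
    have cz := h.Tz c hcT
    rcases h.good u hu with rfl | rfl | rfl | rfl
    · exact c1
    · rw [smul_add, c1, cz]
    · exact c2
    · rw [smul_add, c2, cz]
  have e1 : ∀ u, f u (t • d) = f (t⁻¹ • u) d := by
    intro u
    rw [← h.inv t (t⁻¹ • u) d, smul_inv_smul]
  refine ⟨?_, ?_, ?_, ?_⟩
  · rw [e1, h.Tz _ hti, d1]
  · rw [e1]; exact key _ (h.T_l1 hti h.good1)
  · rw [e1]; exact key _ (h.T_l1 hti h.good2)
  · intro c hc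
    have h5 : t⁻¹ * c * t ∈ C0 T l1 l2 := by
      have hcT := (mem_C0.1 hc).1
      refine ⟨mul_mem (mul_mem hti hcT) ht, ?_, ?_⟩
      · show (t⁻¹ * c * t) • l1 = l1
        rw [mul_smul, mul_smul, key2 _ (h.T_l1 ht h.good1) c hc, inv_smul_smul]
      · show (t⁻¹ * c * t) • l2 = l2
        rw [mul_smul, mul_smul, key2 _ (h.T_l1 ht h.good2) c hc, inv_smul_smul]
    have h6 := d4 _ h5
    rw [mul_smul, mul_smul, inv_smul_eq_iff] at h6
    exact h6

/-- an element of `T` is in `T_1` or maps `d ∈ F` to `t d` -/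
theorem smul_F {t : Y} (ht : t ∈ T) (e1 : t • l1 = l2) {d : V} (hd : InF f T z l1 l2 d) {x : Y} (hx : x ∈ T) :
    x • d = d ∨ x • d = t • d := by
  rcases h.good _ (h.T_l1 hx h.good1) with e | e | e | e
  · exact Or.inl (h.fixed_T1 hd hx (Or.inl e))
  · exact Or.inl (h.fixed_T1 hd hx (Or.inr e))
  · right
    have := h.fixed_T1 hd (mul_mem (inv_mem ht) hx) (Or.inl (by rw [mul_smul, e, inv_smul_eq_iff, e1]))
    rwa [mul_smul, inv_smul_eq_iff] at this
  · right
    have := h.fixed_T1 hd (mul_mem (inv_mem ht) hx) (Or.inr (by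
      rw [mul_smul, e, inv_smul_eq_iff, smul_add, e1, h.Tz t ht]))
    rwa [mul_smul, inv_smul_eq_iff] at this

theorem add_t {t : Y} (ht : t ∈ T) (e1 : t • l1 = l2) (e2 : t • l2 = l1 ∨ t • l2 = l1 + z) {d : V}
    (hd : InF f T z l1 l2 d) : t • d = d ∨ t • d = d + z := by
  have htt : t • (t • d) = d := by
    rw [← mul_smul]
    refine h.fixed_T1 hd (mul_mem ht ht) ?_
    rw [mul_smul, e1]
    exact e2
  have h1 : ∀ x ∈ T, x • (d + t • d) = d + t • d := by
    intro x hx
    rw [smul_add]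
    rcases h.good _ (h.T_l1 hx h.good1) with e | e | e | e
    · rw [h.fixed_T1 hd hx (Or.inl e), h.fixed_T1 (h.inF_smul hd ht) hx (Or.inl e)]
    · rw [h.fixed_T1 hd hx (Or.inr e), h.fixed_T1 (h.inF_smul hd ht) hx (Or.inr e)]
    · have a1 : (t⁻¹ * x) • l1 = l1 := by rw [mul_smul, e, inv_smul_eq_iff, e1]
      have a2 := h.fixed_T1 hd (mul_mem (inv_mem ht) hx) (Or.inl a1)
      have a3 := h.fixed_T1 (h.inF_smul hd ht) (mul_mem (inv_mem ht) hx) (Or.inl a1)
      rw [mul_smul, inv_smul_eq_iff] at a2 a3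
      rw [a2, a3, htt, add_comm]
    · have a1 : (t⁻¹ * x) • l1 = l1 + z := by
        rw [mul_smul, e, inv_smul_eq_iff, smul_add, e1, h.Tz t ht]
      have a2 := h.fixed_T1 hd (mul_mem (inv_mem ht) hx) (Or.inr a1)
      have a3 := h.fixed_T1 (h.inF_smul hd ht) (mul_mem (inv_mem ht) hx) (Or.inr a1)
      rw [mul_smul, inv_smul_eq_iff] at a2 a3
      rw [a2, a3, htt, add_comm]
  have e : t • d = d + (d + t • d) := by rw [← add_assoc, two, zero_add]
  rcases h.TC _ h1 with h2 | h2
  · left; rw [e, h2, add_zero]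
  · right
    rw [h2] at e
    exact e

theorem F_small {t : Y} (ht : t ∈ T) (e1 : t • l1 = l2) {d : V} (hd : InF f T z l1 l2 d) (h1 : t • d = d) :
    d = 0 ∨ d = z := by
  refine h.TC d fun x hx => ?_
  rcases h.smul_F ht e1 hd hx with e | e
  · exact e
  · rw [e, h1]

theorem F_four {t : Y} (ht : t ∈ T) (e1 : t • l1 = l2) (e2 : t • l2 = l1 ∨ t • l2 = l1 + z) {d e : V}
    (hd : InF f T z l1 l2 d) (he : InF f T z l1 l2 e) (h0 : t • e = e + z) :
    d = 0 ∨ d = z ∨ d = e ∨ d = e + z := by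
  rcases h.add_t ht e1 e2 hd with h1 | h1
  · rcases h.F_small ht e1 hd h1 with h2 | h2
    · exact Or.inl h2
    · exact Or.inr (Or.inl h2)
  · have hs : InF f T z l1 l2 (d + e) := by
      obtain ⟨d1, d2, d3, d4⟩ := hd
      obtain ⟨f1, f2, f3, f4⟩ := he
      exact ⟨by rw [map_add, d1, f1, add_zero], by rw [map_add, d2, f2, add_zero],
        by rw [map_add, d3, f3, add_zero], fun c hc => by rw [smul_add, d4 c hc, f4 c hc]⟩
    have h3 : t • (d + e) = d + e := by
      rw [smul_add, h1, h0]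
      have := two z
      calc d + z + (e + z) = d + e + (z + z) := by abel
        _ = d + e := by rw [this, add_zero]
    have key : d = (d + e) + e := by rw [add_assoc, two, add_zero]
    rcases h.F_small ht e1 hs h3 with h4 | h4
    · right; right; left
      rw [h4, zero_add] at key
      exact key
    · right; right; right
      rw [h4, add_comm] at key
      exact key

/-- `D_z ∩ μ^⊥` -/
def D2 (f : V → V →+ ZMod 2) (z l1 l2 m : V) : AddSubgroup V where
  carrier := {d | f z d = 0 ∧ f l1 d = 0 ∧ f l2 d = 0 ∧ f m d = 0}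
  zero_mem' := ⟨map_zero _, map_zero _, map_zero _, map_zero _⟩
  add_mem' := by
    rintro a b ⟨a1, a2, a3, a4⟩ ⟨b1, b2, b3, b4⟩
    exact ⟨by rw [map_add, a1, b1, add_zero], by rw [map_add, a2, b2, add_zero], by rw [map_add, a3, b3, add_zero],
      by rw [map_add, a4, b4, add_zero]⟩
  neg_mem' := by
    rintro a ⟨a1, a2, a3, a4⟩
    exact ⟨by rw [map_neg, a1, neg_zero], by rw [map_neg, a2, neg_zero], by rw [map_neg, a3, neg_zero],
      by rw [map_neg, a4, neg_zero]⟩

theorem exists_fixed [Finite V] {m : V} (hm : ∀ c ∈ C0 T l1 l2, c • m = m) {d : V} (hd : d ∈ D2 f z l1 l2 m)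
    (hd0 : d ≠ 0) : ∃ e ∈ D2 f z l1 l2 m, e ≠ 0 ∧ ∀ c ∈ C0 T l1 l2, c • e = e := by
  have hinv : ∀ c ∈ C0 T l1 l2, ∀ e ∈ D2 f z l1 l2 m, c • e ∈ D2 f z l1 l2 m := by
    intro c hc e he
    obtain ⟨e1, e2, e3, e4⟩ := he
    obtain ⟨hcT, c1, c2⟩ := mem_C0.1 hc
    refine ⟨?_, ?_, ?_, ?_⟩
    · have := h.inv c z e
      rwa [h.Tz c hcT, e1] at this
    · have := h.inv c l1 e
      rwa [c1, e2] at this
    · have := h.inv c l2 e
      rwa [c2, e3] at this
    · have := h.inv c m e
      rwa [hm c hc, e4] at this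
  let _ : MulAction (C0 T l1 l2) (D2 f z l1 l2 m) :=
    { smul := fun c e => ⟨(c : Y) • (e : V), hinv c c.2 e e.2⟩
      one_smul := fun e => Subtype.ext (one_smul Y (e : V))
      mul_smul := fun a b e => Subtype.ext (mul_smul (a : Y) (b : Y) (e : V)) }
  have hp : IsPGroup 2 (C0 T l1 l2) := h.T2.to_le inf_le_left
  have h2 : 2 ∣ Nat.card (D2 f z l1 l2 m) := by
    have e1 : addOrderOf (⟨d, hd⟩ : D2 f z l1 l2 m) = 2 := by
      apply addOrderOf_eq_prime
      · rw [two_nsmul]
        exact Subtype.ext (two d)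
      · intro h0
        exact hd0 (congrArg Subtype.val h0)
    rw [← e1]
    exact addOrderOf_dvd_natCard _
  have : Fact (Nat.Prime 2) := ⟨Nat.prime_two⟩
  obtain ⟨e, he, hne⟩ := hp.exists_fixed_point_of_prime_dvd_card_of_fixed_point (D2 f z l1 l2 m) h2
    (a := (0 : D2 f z l1 l2 m)) (fun c => Subtype.ext (smul_zero (c : Y)))
  refine ⟨e, e.2, fun h0 => hne (Subtype.ext h0.symm), fun c hc => ?_⟩
  exact congrArg Subtype.val (he ⟨c, hc⟩)

/-- (4b) -/
theorem false_b [Finite V] {m : V} (m1 : f z m = 1) (m2 : f l1 m = 0) (m3 : f l2 m = 0)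
    (m4 : ∀ u, Good Y f l1 u ↔ u = z ∨ u = z + l1 ∨ u = m ∨ u = m + l1) {d : V} (hd : d ∈ D2 f z l1 l2 m)
    (hd0 : d ≠ 0) : False := by
  obtain ⟨t, ht, e1, e2⟩ := h.exists_t
  obtain ⟨n, -, n1, n2, n3, n4⟩ := h.swap.exists_mu
  have hm : ∀ c ∈ C0 T l1 l2, c • m = m := fun c hc => h.fix_mu m1 m3 m4 hc.1 hc.2.1 hc.2.2
  have hn : ∀ c ∈ C0 T l1 l2, c • n = n := fun c hc => h.swap.fix_mu n1 n3 n4 hc.1 hc.2.2 hc.2.1
  obtain ⟨e, he, he0, hec⟩ := h.exists_fixed hm hd hd0
  obtain ⟨e3, e4, e5, e6⟩ := he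
  have heF : InF f T z l1 l2 e := ⟨e3, e4, e5, hec⟩
  have hez : e ≠ z := by
    rintro rfl
    rw [h.symm, m1] at e6
    exact one_ne e6
  have hte : t • e = e + z := by
    rcases h.add_t ht e1 e2 heF with h1 | h1
    · rcases h.F_small ht e1 heF h1 with h2 | h2
      · exact absurd h2 he0
      · exact absurd h2 hez
    · exact h1
  -- `t μ ∈ μ' + ⟨l2⟩`
  have h1 : Good Y f l2 (t • m) := by
    have := h.good_smul ((m4 m).2 (Or.inr (Or.inr (Or.inl rfl)))) t
    rwa [e1] at this
  have h2 : f z (t • m) = 1 := by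
    have := h.inv t z m
    rwa [h.Tz t ht, m1] at this
  have h3 : f e n = 1 := by
    have h4 : f (t • e) (t • m) = 0 := by rw [h.inv, h.symm, e6]
    rw [hte, h.al] at h4
    rcases (n4 _).1 h1 with h5 | h5 | h5 | h5
    · rw [h5, h.alt] at h2
      exact absurd h2.symm one_ne
    · rw [h5, map_add, h.alt, h.z2, add_zero] at h2
      exact absurd h2.symm one_ne
    · rw [h5, n1] at h4
      rcases zz (f e n) with h6 | h6
      · rw [h6, zero_add] at h4
        exact absurd h4 one_ne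
      · exact h6
    · rw [h5, map_add, map_add, n1, h.z2, h.symm e l2, e5, add_zero, add_zero] at h4
      rcases zz (f e n) with h6 | h6
      · rw [h6, zero_add] at h4
        exact absurd h4 one_ne
      · exact h6
  have hdF : InF f T z l1 l2 (m + n) := by
    refine ⟨by rw [map_add, m1, n1, oo], by rw [map_add, m2, n3, add_zero], by rw [map_add, m3, n2, add_zero],
      fun c hc => by rw [smul_add, hm c hc, hn c hc]⟩
  have h7 : f e (m + n) = 1 := by rw [map_add, h3, h.symm, e6, zero_add]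
  rcases h.F_four ht e1 e2 hdF heF hte with h8 | h8 | h8 | h8
  · rw [h8, map_zero] at h7
    exact one_ne h7.symm
  · rw [h8, h.symm, e3] at h7
    exact one_ne h7.symm
  · rw [h8, h.alt] at h7
    exact one_ne h7.symm
  · rw [h8, map_add, h.alt, h.symm, e3, add_zero] at h7
    exact one_ne h7.symm

/-- coordinates if `D_z ∩ μ^⊥ = 0` -/
theorem coord {m : V} (m1 : f z m = 1) (m2 : f l1 m = 0) (m3 : f l2 m = 0)
    (hD : ∀ d ∈ D2 f z l1 l2 m, d = 0) (v : V) :
    v = f m v • z + f z v • m + f l2 v • l1 + f l1 v • l2 := by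
  have sm : ∀ (u w : V) (a : ZMod 2), f u (a • w) = a * f u w := by
    intro u w a
    rcases zz a with rfl | rfl
    · rw [zero_smul, map_zero, zero_mul]
    · rw [one_smul, one_mul]
  have f21 : f l2 l1 = 1 := by rw [h.symm, h.f12]
  have f1z : f l1 z = 0 := by rw [h.symm, h.z1]
  have f2z : f l2 z = 0 := by rw [h.symm, h.z2]
  have fmz : f m z = 1 := by rw [h.symm, m1]
  have fm1 : f m l1 = 0 := by rw [h.symm, m2]
  have fm2 : f m l2 = 0 := by rw [h.symm, m3]
  have aa : ∀ a : ZMod 2, a + a = 0 := by decide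
  have h1 : v + (f m v • z + f z v • m + f l2 v • l1 + f l1 v • l2) = 0 := by
    apply hD
    refine ⟨?_, ?_, ?_, ?_⟩
    · simp only [map_add, sm, h.alt, m1, h.z1, h.z2, mul_zero, mul_one, zero_add, add_zero, aa]
    · simp only [map_add, sm, h.alt, f1z, m2, h.f12, mul_zero, mul_one, zero_add, aa]
    · simp only [map_add, sm, h.alt, f2z, m3, f21, mul_zero, mul_one, zero_add, add_zero, aa]
    · simp only [map_add, sm, h.alt, fmz, fm1, fm2, mul_zero, mul_one, add_zero, aa]
  have h2 := congrArg (fun u => v + u) h1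
  simp only [add_zero] at h2
  rw [← add_assoc, two, zero_add] at h2
  exact h2.symm

/-- (4a) -/
theorem false_a {m : V} (mO : m ∈ orbit Y z) (m1 : f z m = 1) (m2 : f l1 m = 0) (m3 : f l2 m = 0)
    (hD : ∀ d ∈ D2 f z l1 l2 m, d = 0) : False := by
  obtain ⟨t, ht, e1, e2⟩ := h.exists_t
  obtain ⟨s, hs⟩ := h.g1
  obtain ⟨r, hr⟩ := h.g2
  have hsT : s ∈ T := h.R s l1 0 (by rw [h.symm, h.z1]) hs
  have hrT : r ∈ T := h.R r l2 0 (by rw [h.symm, h.z2]) hr
  have f21 : f l2 l1 = 1 := by rw [h.symm, h.f12]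
  have f1z : f l1 z = 0 := by rw [h.symm, h.z1]
  have f2z : f l2 z = 0 := by rw [h.symm, h.z2]
  have fmz : f m z = 1 := by rw [h.symm, m1]
  have fm1 : f m l1 = 0 := by rw [h.symm, m2]
  have fm2 : f m l2 = 0 := by rw [h.symm, m3]
  have sz : s • z = z := h.Tz s hsT
  have rz : r • z = z := h.Tz r hrT
  have s1 : s • l1 = l1 := by rw [h.act0 hs, f1z, h.alt, zero_smul, zero_smul, add_zero, add_zero]
  have s2 : s • l2 = l2 + z := by rw [h.act0 hs, f2z, f21, zero_smul, one_smul, add_zero]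
  have sm' : s • m = m + l1 := by rw [h.act0 hs, fmz, fm1, zero_smul, one_smul, add_zero]
  have r1 : r • l1 = l1 + z := by rw [h.act0 hr, f1z, h.f12, zero_smul, one_smul, add_zero]
  have r2 : r • l2 = l2 := by rw [h.act0 hr, f2z, h.alt, zero_smul, zero_smul, add_zero, add_zero]
  have rm : r • m = m + l2 := by rw [h.act0 hr, fmz, fm2, zero_smul, one_smul, add_zero]
  have co := h.coord m1 m2 m3 hD
  have tw := two (V := V)
  -- the second orbit
  have notO : m + z ∉ orbit Y z := by
    intro hmz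
    have o1 : m + z + l1 ∈ orbit Y z := by
      have := orb s hmz
      rw [smul_add, sm', sz] at this
      convert this using 1
      abel
    have o2 : m + z + l2 ∈ orbit Y z := by
      have := orb r hmz
      rw [smul_add, rm, rz] at this
      convert this using 1
      abel
    have o3 : m + l1 + l2 ∈ orbit Y z := by
      have := orb s o2
      rw [smul_add, smul_add, sm', sz, s2] at this
      have e : m + l1 + z + (l2 + z) = m + l1 + l2 + (z + z) := by abel
      rw [e, tw, add_zero] at this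
      exact this
    have p1 : m + l1 ∈ orbit Y z := by rw [← sm']; exact orb s mO
    have p2 : m + l2 ∈ orbit Y z := by rw [← rm]; exact orb r mO
    have p3 : m + l1 + l2 + z ∈ orbit Y z := by
      have := orb s p2
      rw [smul_add, sm', s2, ← add_assoc] at this
      exact this
    have zO : z ∈ orbit Y z := mem_orbit_self z
    have q1 : l1 + z ∈ orbit Y z := h.line _ h.O1 _ zO h.l1_nz f1z
    have q2 : l2 + z ∈ orbit Y z := h.line _ h.O2 _ zO h.l2_nz f2z
    have all : ∀ v : V, v ≠ 0 → v ∉ orbit Y z → v = l1 + l2 ∨ v = l1 + l2 + z := by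
      intro v hv hvO
      have e := co v
      rcases zz (f m v) with a1 | a1 <;> rcases zz (f z v) with a2 | a2 <;> rcases zz (f l2 v) with a3 | a3 <;>
        rcases zz (f l1 v) with a4 | a4 <;>
        rw [a1, a2, a3, a4] at e <;> simp only [zero_smul, one_smul, add_zero, zero_add] at e
      · exact absurd e hv
      · exact absurd (e ▸ h.O2) hvO
      · exact absurd (e ▸ h.O1) hvO
      · exact Or.inl e
      · exact absurd (e ▸ mO) hvO
      · exact absurd (e ▸ p2) hvO
      · exact absurd (e ▸ p1) hvO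
      · exact absurd (e ▸ o3) hvO
      · exact absurd (e ▸ zO) hvO
      · rw [add_comm] at e
        exact absurd (e ▸ q2) hvO
      · rw [add_comm] at e
        exact absurd (e ▸ q1) hvO
      · right
        rw [e]; abel
      · rw [add_comm] at e
        exact absurd (e ▸ hmz) hvO
      · rw [add_comm z m] at e
        exact absurd (e ▸ o2) hvO
      · rw [add_comm z m] at e
        exact absurd (e ▸ o1) hvO
      · have e' : v = m + l1 + l2 + z := by rw [e]; abel
        exact absurd (e' ▸ p3) hvO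
    obtain ⟨v, hv, hv1⟩ := h.far
    obtain ⟨g, rfl⟩ := hv
    have n0 : ∀ u : V, u ∉ orbit Y z → g • u ∉ orbit Y z := by
      intro u hu hgu
      apply hu
      have := orb g⁻¹ hgu
      rwa [inv_smul_smul] at this
    have h0 : z ≠ 0 := z_ne h
    have ha : l1 + l2 ≠ 0 := by
      intro e
      have : f l1 (l1 + l2) = 1 := by rw [map_add, h.alt, h.f12, zero_add]
      rw [e, map_zero] at this
      exact one_ne this.symm
    have hb : l1 + l2 + z ≠ 0 := by
      intro e
      have : f l1 (l1 + l2 + z) = 1 := by rw [map_add, map_add, h.alt, h.f12, f1z, zero_add, add_zero]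
      rw [e, map_zero] at this
      exact one_ne this.symm
    have ga := all _ (fun e => ha ((smul_eq_zero_iff_eq g).1 e)) (n0 _ h.N12)
    have gb := all _ (fun e => hb ((smul_eq_zero_iff_eq g).1 e)) (n0 _ h.N12z)
    have hgz : g • z = z := by
      have e3 : g • z = g • (l1 + l2) + g • (l1 + l2 + z) := by
        rw [← smul_add, ← add_assoc, tw, zero_add]
      have hne : g • (l1 + l2) ≠ g • (l1 + l2 + z) := by
        intro e
        have := smul_left_cancel g e
        exact h0 (by rwa [left_eq_add] at this)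
      rcases ga with ga | ga <;> rcases gb with gb | gb
      · exact absurd (ga.trans gb.symm) hne
      · rw [e3, ga, gb, ← add_assoc, tw, zero_add]
      · rw [e3, ga, gb, add_assoc, add_comm z, ← add_assoc, tw, zero_add]
      · exact absurd (ga.trans gb.symm) hne
    change f z (g • z) = 1 at hv1
    rw [hgz, h.alt] at hv1
    exact one_ne hv1.symm
  -- some element of `R_z t` fixes `m`
  have hx : ∃ x : Y, x ∈ T ∧ x • m = m ∧ (x • l1 = l2 ∨ x • l1 = l2 + z) ∧ (x • l2 = l1 ∨ x • l2 = l1 + z) := by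
    have htm : t • m ∈ orbit Y z := orb t mO
    have h2 : f z (t • m) = 1 := by
      have := h.inv t z m
      rwa [h.Tz t ht, m1] at this
    have e := co (t • m)
    rw [h2, one_smul] at e
    have s1z : s • (l1 + z) = l1 + z := by rw [smul_add, s1, sz]
    have s2z : s • (l2 + z) = l2 := by rw [smul_add, s2, sz, add_assoc, tw, add_zero]
    have r1z : r • (l1 + z) = l1 := by rw [smul_add, r1, rz, add_assoc, tw, add_zero]
    have r2z : r • (l2 + z) = l2 + z := by rw [smul_add, r2, rz]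
    have sml : s • (m + l1) = m := by rw [smul_add, sm', s1, add_assoc, tw, add_zero]
    have rml : r • (m + l2) = m := by rw [smul_add, rm, r2, add_assoc, tw, add_zero]
    have case1 : t • m = m → _ := fun e3 =>
      (⟨t, ht, e3, Or.inl e1, e2⟩ : ∃ x : Y, x ∈ T ∧ x • m = m ∧ (x • l1 = l2 ∨ x • l1 = l2 + z) ∧
        (x • l2 = l1 ∨ x • l2 = l1 + z))
    rcases zz (f m (t • m)) with a1 | a1 <;> rcases zz (f l2 (t • m)) with a3 | a3 <;>
      rcases zz (f l1 (t • m)) with a4 | a4 <;>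
      rw [a1, a3, a4] at e <;> simp only [zero_smul, one_smul, add_zero, zero_add] at e
    · exact case1 e
    · refine ⟨r * t, mul_mem hrT ht, by rw [mul_smul, e, rml], Or.inl (by rw [mul_smul, e1, r2]), ?_⟩
      rw [mul_smul]
      rcases e2 with e2 | e2
      · right; rw [e2, r1]
      · left; rw [e2, r1z]
    · refine ⟨s * t, mul_mem hsT ht, by rw [mul_smul, e, sml], Or.inr (by rw [mul_smul, e1, s2]), ?_⟩
      rw [mul_smul]
      rcases e2 with e2 | e2
      · left; rw [e2, s1]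
      · right; rw [e2, s1z]
    · exfalso
      apply notO
      have := orb r (orb s (e ▸ htm : m + l1 + l2 ∈ orbit Y z))
      rw [smul_add s, sml, s2, smul_add, rm, r2z] at this
      have e' : m + l2 + (l2 + z) = m + z + (l2 + l2) := by abel
      rw [e', tw, add_zero] at this
      exact this
    · exfalso
      rw [add_comm] at e
      exact notO (e ▸ htm)
    · exfalso
      apply notO
      have := orb r (e ▸ htm : z + m + l2 ∈ orbit Y z)
      rw [smul_add, smul_add, rz, rm, r2] at this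
      have e' : z + (m + l2) + l2 = m + z + (l2 + l2) := by abel
      rw [e', tw, add_zero] at this
      exact this
    · exfalso
      apply notO
      have := orb s (e ▸ htm : z + m + l1 ∈ orbit Y z)
      rw [smul_add, smul_add, sz, sm', s1] at this
      have e' : z + (m + l1) + l1 = m + z + (l1 + l1) := by abel
      rw [e', tw, add_zero] at this
      exact this
    · refine ⟨r * (s * t), mul_mem hrT (mul_mem hsT ht), ?_, Or.inr ?_, ?_⟩
      · rw [mul_smul, mul_smul, e, smul_add s, smul_add s, smul_add s, sz, sm', s1, s2]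
        have e' : z + (m + l1) + l1 + (l2 + z) = m + l2 + (z + z) + (l1 + l1) := by abel
        rw [e', tw, tw, add_zero, add_zero, rml]
      · rw [mul_smul, mul_smul, e1, s2, r2z]
      · rw [mul_smul, mul_smul]
        rcases e2 with e2 | e2
        · right; rw [e2, s1, r1]
        · left; rw [e2, s1z, r1z]
  obtain ⟨x, hxT, xm, x1, x2⟩ := hx
  have y1 : x • l1 = l2 := by
    rcases x1 with x1 | x1
    · exact x1
    · have := h.inv x l1 m
      rw [x1, xm, m2, h.al, m3, m1, zero_add] at this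
      exact absurd this one_ne
  have y2 : x • l2 = l1 := by
    rcases x2 with x2 | x2
    · exact x2
    · have := h.inv x l2 m
      rw [x2, xm, m3, h.al, m2, m1, zero_add] at this
      exact absurd this one_ne
  have ha : l1 + l2 ≠ 0 := by
    intro e
    have : f l1 (l1 + l2) = 1 := by rw [map_add, h.alt, h.f12, zero_add]
    rw [e, map_zero] at this
    exact one_ne this.symm
  have kA : ∀ X : V, X + l1 = X + l2 + l1 + l2 := fun X => by
    have e' : X + l2 + l1 + l2 = X + l1 + (l2 + l2) := by abel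
    rw [e', tw, add_zero]
  have kB : ∀ X : V, X + l2 = X + l1 + l1 + l2 := fun X => by
    have e' : X + l1 + l1 + l2 = X + l2 + (l1 + l1) := by abel
    rw [e', tw, add_zero]
  have kA0 : l1 = l2 + l1 + l2 := by
    have := kA 0
    rwa [zero_add, zero_add] at this
  have kB0 : l2 = l1 + l1 + l2 := by
    have := kB 0
    rwa [zero_add, zero_add] at this
  refine h.nt x (l1 + l2) ha fun v => ?_
  have e := co v
  rw [map_add, h.symm v l1, h.symm v l2]
  rcases zz (f m v) with a1 | a1 <;> rcases zz (f z v) with a2 | a2 <;> rcases zz (f l2 v) with a3 | a3 <;>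
    rcases zz (f l1 v) with a4 | a4 <;>
    rw [a1, a2, a3, a4] at e <;> rw [a3, a4] <;> simp only [zero_smul, one_smul, add_zero, zero_add] at e ⊢ <;>
    rw [e] <;> simp only [smul_add, smul_zero, h.Tz x hxT, xm, y1, y2, oo, zero_smul, add_zero, ← add_assoc]
  all_goals first | exact kA _ | exact kB _ | exact kA0 | exact kB0 | abel

/-- **The exception is impossible.** -/
theorem false [Finite V] : False := by
  obtain ⟨m, mO, m1, m2, m3, m4⟩ := h.exists_mu
  by_cases hD : ∀ d ∈ D2 f z l1 l2 m, d = 0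
  · exact h.false_a mO m1 m2 m3 hD
  · push Not at hD
    obtain ⟨d, hd, hd0⟩ := hD
    exact h.false_b m1 m2 m3 m4 hd hd0

end Exc

end Cfsg.Agent.Omega.NearFF.SymExc
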