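import Cfsg.Agent.Omega.NearFF.Form
import Cfsg.Agent.Omega.NearFF.Five
import Cfsg.Agent.GTwoFour.Tools

/-!
# (BT), `|V/E| = 2`: symmetry, the symplectic form, `B ≤ R_x` (project OMEGA, leaf N1)

Texts: helper318 #13635 (T1), (T2), #13823 (c); helper817 #14271 (SYM); referees helper442 #14015,
helper960 #14056, #14417.

* `NB.t1` : (T1), an element commuting with `B` acts trivially on `E_x/C_V(B)`;
* `Dat.symm_of` : (SYM), `f` is symmetric if `F₀(z) = ⋂ C_V(B) = ⟨z⟩`;
* `Dat.exists_form` : `f` symmetric ⟹ the nondegenerate symplectic form, `B ≤ R_x`, `|R_x| ≥ 4`, (DO): `Sp`;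
* `Dat.five` : `F₀(z) = ⟨z⟩` ⟹ `FivePts`.
-/

set_option autoImplicit false
set_option linter.unusedSectionVars false

namespace Cfsg.Agent.Omega.NearFF

open Subgroup Cfsg.Agent.Omega.Transv

variable {Y : Type*} [Group Y] {V : Type*} [AddCommGroup V] [Module (ZMod 2) V] [DistribMulAction Y V]

namespace NB

variable {φ : Du V} {B : Subgroup Y} (h : NB φ B)
include h

theorem cm_mem {b : Y} (hb : b ∈ B) (v : V) : φ (cm b v) = 0 := by
  rw [cm, map_add, h.inv b hb, add_self]

/-- `C_V(b) ≤ ker φ` for `b ≠ 1` -/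
theorem fix {b : Y} (hb : b ∈ B) (h1 : b ≠ 1) {v : V} (hv : b • v = v) : φ v = 0 := by
  refine eq_zero_of_ne fun h2 => h1 (h.inj v h2 b hb ?_)
  rw [cm_eq_zero.2 hv]
  exact Fx.zero B

/-- `[v, b, b] = 0` -/
theorem smul_cm_self {b : Y} (hb : b ∈ B) (v : V) : b • cm b v = cm b v := by
  rw [cm, smul_add, smul_smul, h.sq b hb, one_smul, add_comm]

/-- **(T1)** -/
theorem t1 (hφ : φ ≠ 0) {a : Y} (hc : ∀ b ∈ B, a * b = b * a) (ha : ∀ v : V, φ (a • v) = φ v) {e : V}
    (he : φ e = 0) : Fx B (cm a e) := by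
  obtain ⟨v, hv⟩ := exists_one hφ
  obtain ⟨b, hb, hd⟩ := h.surj v e hv he
  have h1 : Fx B (cm a (cm b v + e)) := by
    intro c hc'
    rw [smul_cm (hc c hc').symm, hd c hc']
  rw [cm_add, cm_comm (hc b hb), add_comm] at h1
  refine h1.of_add (h.ed _ ?_ b hb)
  rw [cm, map_add, ha, add_self]

/-- the element `b_y` -/
theorem exists_b (hφ : φ ≠ 0) {y : V} (hy : φ y = 0) :
    ∃ b ∈ B, b • y = y ∧ ∃ v d : V, φ v = 1 ∧ Fx B d ∧ y = cm b v + d := by
  obtain ⟨v, hv⟩ := exists_one hφ
  obtain ⟨b, hb, hd⟩ := h.surj v y hv hy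
  have h1 : y = cm b v + (cm b v + y) := by
    rw [← add_assoc, add_self, zero_add]
  refine ⟨b, hb, ?_, v, cm b v + y, hv, hd, h1⟩
  conv_lhs => rw [h1, smul_add, h.smul_cm_self hb, hd b hb]
  exact h1.symm

/-- (SYM') `[V, c] ≤ E_y` for `c` fixing `y`; helper817's symmetry argument. -/
theorem sym_pair (hφ : φ ≠ 0) {ψ : Du V} {x y : V} {a : Y} (ha : a ∈ B)
    (hax : ∀ e : V, φ e = 0 → cm a e = 0 ∨ cm a e = x) (hne : ∃ e : V, cm a e = x) (hy : φ y = 0)
    (hψ : ∀ c : Y, c • y = y → ∀ v : V, ψ (c • v) = ψ v) : ψ x = 0 := by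
  have key : ∀ c : Y, c • y = y → ∀ v : V, ψ (cm c v) = 0 := by
    intro c hc v
    rw [cm, map_add, hψ c hc, add_self]
  by_cases hay : a • y = y
  · obtain ⟨e, rfl⟩ := hne
    exact key a hay e
  · obtain ⟨b, hb, hby, v, d, -, hd, h1⟩ := h.exists_b hφ hy
    have h2 : cm a y = x := (hax y hy).resolve_left fun h0 => hay (cm_eq_zero.1 h0)
    have h3 : x = cm b (cm a v) := by
      rw [← h2, h1, cm_add, cm_comm (h.comm a ha b hb), cm_eq_zero.2 (hd a ha), add_zero]
    rw [h3]
    exact key b hby _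

end NB

/-- a nontrivial element acting trivially on `ker φ` is a transvection -/
theorem eq_one_of_hyper (hf : Faith Y V) (nt : NT Y V) {φ : Du V} {a : Y}
    (h : ∀ e : V, φ e = 0 → cm a e = 0) : a = 1 := by
  by_cases hφ : φ = 0
  · refine hf a fun v => cm_eq_zero.1 (h v ?_)
    rw [hφ]; rfl
  obtain ⟨v, hv⟩ := exists_one hφ
  have h1 : ∀ u : V, a • u = u + φ u • cm a v := by
    intro u
    rcases zmod_cases (φ u) with h2 | h2
    · rw [h2, zero_smul, add_zero]
      exact cm_eq_zero.1 (h u h2)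
    · rw [h2, one_smul, smul_eq_add_cm a u]
      congr 1
      have h3 : cm a (u + v) = 0 := h _ (by rw [map_add, h2, hv, one_add_one])
      rw [cm_add] at h3
      exact eq_of_add h3
  by_cases h2 : cm a v = 0
  · refine hf a fun u => ?_
    rw [h1 u, h2, smul_zero, add_zero]
  · exact absurd ⟨h2, hφ, h1⟩ (nt a (cm a v) φ)

theorem smul_orbit {z x : V} (hx : x ∈ MulAction.orbit Y z) (g : Y) : g • x ∈ MulAction.orbit Y z := by
  obtain ⟨k, rfl⟩ := hx
  exact ⟨g * k, mul_smul g k z⟩

/-- a form vanishing on `ker φ` -/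
theorem eq_of_hyper {φ ψ : Du V} (h : ∀ e : V, φ e = 0 → ψ e = 0) : ψ = 0 ∨ ψ = φ := by
  by_cases hφ : φ = 0
  · left
    refine LinearMap.ext fun e => h e ?_
    rw [hφ]; rfl
  obtain ⟨v, hv⟩ := exists_one hφ
  have h1 : ∀ u : V, ψ u = φ u * ψ v := by
    intro u
    rcases zmod_cases (φ u) with h2 | h2
    · rw [h u h2, h2, zero_mul]
    · have h3 := h (u + v) (by rw [map_add, h2, hv, one_add_one])
      rw [map_add] at h3
      rw [h2, one_mul]
      exact eq_of_add h3
  rcases zmod_cases (ψ v) with h2 | h2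
  · left
    refine LinearMap.ext fun u => ?_
    rw [h1, h2, mul_zero]
    rfl
  · right
    refine LinearMap.ext fun u => ?_
    rw [h1, h2, mul_one]

theorem card_ker [Finite V] {χ : Du V} (h : χ ≠ 0) : 2 * Nat.card {u : V // χ u = 0} = Nat.card V := by
  obtain ⟨w, hw⟩ := exists_one h
  have h4 : Nat.card {u : V // χ u = 0} = Nat.card {u : V // χ u = 1} := by
    refine Nat.card_congr ⟨fun u => ⟨(u : V) + w, by rw [map_add, u.2, hw, zero_add]⟩,
      fun u => ⟨(u : V) + w, by rw [map_add, u.2, hw, one_add_one]⟩, fun u => ?_, fun u => ?_⟩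
    · exact Subtype.ext (add_add_self _ _)
    · exact Subtype.ext (add_add_self _ _)
  rw [h4, card_hyper h]

section KK

variable {φ : Du V} {x : V}

/-- the group `R_x` is elementary abelian -/
theorem KK_comm (hf : Faith Y V) (nt : NT Y V) {a b : Y} (ha : a ∈ KK Y x φ) (hb : b ∈ KK Y x φ) :
    a * b = b * a := by
  rw [mem_KK_iff] at ha hb
  obtain ⟨ha1, ha2, ha3⟩ := ha
  obtain ⟨hb1, hb2, hb3⟩ := hb
  have h1 : ∀ e : V, φ e = 0 → (a * b) • e = (b * a) • e := by
    intro e he
    have h2 : cm a (cm b e) = 0 := by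
      rcases hb3 e he with h | h
      · rw [h, cm_zero]
      · rw [h, cm_eq_zero, ha1]
    have h3 : cm b (cm a e) = 0 := by
      rcases ha3 e he with h | h
      · rw [h, cm_zero]
      · rw [h, cm_eq_zero, hb1]
    rw [smul_eq_add_cm (a * b), smul_eq_add_cm (b * a), cm_mul, cm_mul, h2, h3, add_zero, add_zero,
      add_comm (cm b e)]
  have h2 : (b * a)⁻¹ * (a * b) = 1 := by
    refine eq_one_of_hyper hf nt (φ := φ) fun e he => cm_eq_zero.2 ?_
    rw [mul_smul, h1 e he, inv_smul_smul]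
  exact (inv_mul_eq_one.mp h2).symm

theorem KK_sq (hf : Faith Y V) (nt : NT Y V) {a : Y} (ha : a ∈ KK Y x φ) : a * a = 1 := by
  rw [mem_KK_iff] at ha
  obtain ⟨ha1, ha2, ha3⟩ := ha
  refine eq_one_of_hyper hf nt (φ := φ) fun e he => ?_
  rw [cm_mul, add_self, zero_add]
  rcases ha3 e he with h | h
  · rw [h, cm_zero]
  · rw [h, cm_eq_zero, ha1]

end KK

namespace Dat

variable {T : Sylow 2 Y} {M : Subgroup Y} {z : V} {f : V → Du V} {Q : V → Subgroup Y}
  {BB : V → Set (Subgroup Y)} (h : Dat T M z f Q BB)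
include h

theorem nt [Finite V] : NT Y V := by
  intro g a χ hg
  have hsq := hg.mul_self h.faith
  have hmem : ∀ b ∈ zpowers g, b = 1 ∨ b = g := by
    intro b hb
    obtain ⟨n, rfl⟩ := mem_zpowers_iff.1 hb
    rcases Int.even_or_odd' n with ⟨k, hk | hk⟩
    · left
      rw [hk, zpow_mul, zpow_two, hsq, one_zpow]
    · right
      rw [hk, zpow_add, zpow_mul, zpow_two, hsq, one_zpow, one_mul, zpow_one]
  have h1 := h.noff (zpowers g) (fun h0 => hg.ne_one (zpowers_eq_bot.1 h0))
    (fun a ha b hb => by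
      rcases hmem a ha with rfl | rfl <;> rcases hmem b hb with rfl | rfl <;> simp)
    (fun a ha => by
      rcases hmem a ha with rfl | rfl
      · exact one_mul 1
      · exact hsq)
  have h2 : Nat.card (zpowers g) = 2 := by
    rw [Nat.card_zpowers]
    exact orderOf_eq_prime (by rw [pow_two, hsq]) hg.ne_one
  have h3 : Nat.card {v : V // Fx (zpowers g) v} = Nat.card {u : V // χ u = 0} := by
    refine Nat.card_congr (Equiv.subtypeEquivRight fun v => ?_)
    rw [← hg.fix_iff]
    constructor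
    · intro h4
      exact h4 g (mem_zpowers g)
    · intro h4 b hb
      rcases hmem b hb with rfl | rfl
      · exact one_smul Y v
      · exact h4
  rw [h2, h3, card_ker hg.nz] at h1
  exact lt_irrefl _ h1

theorem f_fix {x : V} (hx : x ∈ MulAction.orbit Y z) {g : Y} (hg : g • x = x) (v : V) :
    f x (g • v) = f x v := by
  have h1 := h.f_smul g x hx
  rw [hg] at h1
  rw [h1, dua_apply, ← h1, inv_smul_smul]

/-- `B ∩ Z(Q_z) ≠ 1` -/
theorem exists_a [Finite Y] {B : Subgroup Y} (hB : B ∈ BB z) : ∃ a ∈ B, a ≠ 1 ∧ ∀ q ∈ Q z, a * q = q * a := by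
  have hne : ∃ n ∈ B, n ∉ (⊥ : Subgroup Y) := by
    by_contra hc
    push Not at hc
    exact (h.bb B hB).ne ((eq_bot_iff_forall B).2 fun x hx => mem_bot.1 (hc x hx))
  obtain ⟨n, hn, hn1, hn2⟩ := GTwoFour.Tools.exists_fixed_mod (M := ⊥) h.q_two (h.bb_le B hB)
    (fun y hy n hn => h.bb_norm B hB y hy n hn)
    (fun y _ m hm => by
      rw [mem_bot] at hm ⊢
      rw [hm, mul_one, mul_inv_cancel]) hne
  refine ⟨n, hn, fun h0 => hn1 (mem_bot.2 h0), fun q hq => ?_⟩
  have h3 := hn2 q hq
  rw [mem_bot, commutatorElement_eq_one_iff_mul_comm] at h3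
  exact h3.symm

/-- (SYM) at the base point -/
theorem symm_z [Finite Y] [Finite V] (hF : ∀ v : V, (∀ B ∈ BB z, Fx B v) → v = 0 ∨ v = z) {y : V}
    (hy : y ∈ MulAction.orbit Y z) (hzy : f z y = 0) : f y z = 0 := by
  obtain ⟨B, hB⟩ := h.bb_ne
  have hb := h.bb B hB
  obtain ⟨a, ha, ha1, hac⟩ := h.exists_a hB
  have hax : ∀ e : V, f z e = 0 → cm a e = 0 ∨ cm a e = z := by
    intro e he
    refine hF _ fun B' hB' => ?_
    exact (h.bb B' hB').t1 h.f_ne (fun b hb' => hac b (h.bb_le B' hB' hb')) (hb.inv a ha) he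
  refine hb.sym_pair h.f_ne ha hax ?_ hzy fun c hc => h.f_fix hy hc
  by_contra hc
  push Not at hc
  exact ha1 (eq_one_of_hyper h.faith h.nt (φ := f z) fun e he => (hax e he).resolve_right (hc e))

/-- symmetry from the base point -/
theorem symm_of_z (hS : ∀ y ∈ MulAction.orbit Y z, f z y = 0 → f y z = 0) {x y : V}
    (hx : x ∈ MulAction.orbit Y z) (hy : y ∈ MulAction.orbit Y z) : f x y = f y x := by
  have key : ∀ x ∈ MulAction.orbit Y z, ∀ y ∈ MulAction.orbit Y z, f x y = 0 → f y x = 0 := by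
    rintro _ ⟨g, rfl⟩ y hy hxy
    change f y (g • z) = 0
    have h1 : f (g • z) y = f z (g⁻¹ • y) := by
      rw [h.f_smul g z (MulAction.mem_orbit_self z), dua_apply]
    have hy' : g⁻¹ • y ∈ MulAction.orbit Y z := smul_orbit hy g⁻¹
    have h2 := hS _ hy' (h1 ▸ hxy)
    have h3 := h.f_smul g _ hy'
    rw [smul_inv_smul] at h3
    rw [h3, dua_apply, inv_smul_smul]
    exact h2
  rcases zmod_cases (f x y) with h1 | h1
  · rw [h1, key x hx y hy h1]
  · rcases zmod_cases (f y x) with h2 | h2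
    · rw [key y hy x hx h2] at h1
      exact absurd h1 zero_ne_one'
    · rw [h1, h2]

/-- **(SYM)** `f` is symmetric if `F₀(z) = ⟨z⟩` -/
theorem symm_of [Finite Y] [Finite V] (hF : ∀ v : V, (∀ B ∈ BB z, Fx B v) → v = 0 ∨ v = z) {x y : V}
    (hx : x ∈ MulAction.orbit Y z) (hy : y ∈ MulAction.orbit Y z) : f x y = f y x :=
  h.symm_of_z (fun _ hy hzy => h.symm_z hF hy hzy) hx hy

/-- **(T2)**: `f` is symmetric if every point of `E_z` is fixed by some `1 ≠ a ∈ R_z` -/
theorem symm_of_R [Finite V]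
    (hR : ∀ y ∈ MulAction.orbit Y z, f z y = 0 → ∃ a ∈ KK Y z (f z), a ≠ 1 ∧ a • y = y) {x y : V}
    (hx : x ∈ MulAction.orbit Y z) (hy : y ∈ MulAction.orbit Y z) : f x y = f y x := by
  refine h.symm_of_z (fun y hy hzy => ?_) hx hy
  obtain ⟨a, ha, ha1, hay⟩ := hR y hy hzy
  obtain ⟨e, he, hae⟩ : ∃ e : V, f z e = 0 ∧ cm a e = z := by
    by_contra hc
    push Not at hc
    exact ha1 (eq_one_of_hyper h.faith h.nt (φ := f z) fun e he =>
      ((mem_KK_iff.1 ha).2.2 e he).resolve_right (hc e he))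
  rw [← hae, cm, map_add, h.f_fix hy hay, add_self]

/-- **(T2)**: `f` is symmetric if `|R_z| ≥ 4` (`≥ 3`) -/
theorem symm_of_card [Finite Y] [Finite V] (hR : 3 ≤ Nat.card (KK Y z (f z))) {x y : V}
    (hx : x ∈ MulAction.orbit Y z) (hy : y ∈ MulAction.orbit Y z) : f x y = f y x := by
  classical
  refine h.symm_of_R (fun y hy hzy => ?_) hx hy
  by_contra hc
  push Not at hc
  have hnt := h.nt
  have h1 : ∀ a ∈ KK Y z (f z), a ≠ 1 → cm a y = z := fun a ha ha1 =>
    ((mem_KK_iff.1 ha).2.2 y hzy).resolve_left fun h0 => hc a ha ha1 (cm_eq_zero.1 h0)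
  have h2 : ∀ a ∈ KK Y z (f z), a ≠ 1 → ∀ b ∈ KK Y z (f z), b ≠ 1 → a = b := by
    intro a ha ha1 b hb hb1
    by_contra hab
    have h3 : a * b ≠ 1 := by
      intro h0
      apply hab
      rw [eq_inv_of_mul_eq_one_left h0, inv_eq_of_mul_eq_one_left (KK_sq h.faith hnt hb)]
    refine hc _ (mul_mem ha hb) h3 (cm_eq_zero.1 ?_)
    rw [cm_mul, h1 a ha ha1, h1 b hb hb1, add_self, zero_add, cm_eq_zero]
    exact ha.1
  by_cases hb : ∃ b ∈ KK Y z (f z), b ≠ 1
  · obtain ⟨b, hb, hb1⟩ := hb
    have hf : Function.Injective (fun a : KK Y z (f z) => if (a : Y) = 1 then (0 : Fin 2) else 1) := by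
      intro a c hac
      by_cases ha : (a : Y) = 1
      · by_cases hc' : (c : Y) = 1
        · exact Subtype.ext (ha.trans hc'.symm)
        · simp [ha, hc'] at hac
      · by_cases hc' : (c : Y) = 1
        · simp [ha, hc'] at hac
        · exact Subtype.ext (h2 a a.2 ha c c.2 hc')
    have h3 := Nat.card_le_card_of_injective _ hf
    rw [Nat.card_fin] at h3
    omega
  · push Not at hb
    have h3 : KK Y z (f z) = ⊥ := (eq_bot_iff_forall _).2 hb
    rw [h3, card_bot] at hR
    omega

/-- induction on `V = ⟨Ω⟩` -/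
theorem induct {p : V → Prop} (h0 : p 0) (ho : ∀ x ∈ MulAction.orbit Y z, p x)
    (ha : ∀ v w, p v → p w → p (v + w)) (v : V) : p v := by
  have h1 : v ∈ Submodule.span (ZMod 2) (Set.range fun g : Y => g • z) := by
    rw [h.span]; trivial
  induction h1 using Submodule.span_induction with
  | mem x hx => exact ho x hx
  | zero => exact h0
  | add v w _ _ hv hw => exact ha v w hv hw
  | smul c v _ hv =>
    rcases zmod_cases c with hc | hc
    · rw [hc, zero_smul]; exact h0
    · rw [hc, one_smul]; exact hv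

/-- the form -/
theorem exists_lin (hs : ∀ x ∈ MulAction.orbit Y z, ∀ y ∈ MulAction.orbit Y z, f x y = f y x) :
    ∃ β : V →ₗ[ZMod 2] Du V, ∀ x ∈ MulAction.orbit Y z, β x = f x := by
  classical
  let Γ : Submodule (ZMod 2) (V × Du V) :=
    Submodule.span (ZMod 2) {p | ∃ x ∈ MulAction.orbit Y z, p = (x, f x)}
  have hΓ : ∀ p ∈ Γ, ∀ y ∈ MulAction.orbit Y z, p.2 y = f y p.1 := by
    intro p hp y hy
    induction hp using Submodule.span_induction with
    | mem p hp =>
      obtain ⟨x, hx, rfl⟩ := hp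
      exact hs x hx y hy
    | zero => simp
    | add p q _ _ hp hq =>
      rw [Prod.snd_add, Prod.fst_add, LinearMap.add_apply, map_add, hp, hq]
    | smul c p _ hp =>
      rw [Prod.smul_snd, Prod.smul_fst, LinearMap.smul_apply, map_smul, hp]
  have hex : ∀ v : V, ∃ φ : Du V, (v, φ) ∈ Γ := by
    intro v
    refine h.induct (p := fun v => ∃ φ : Du V, (v, φ) ∈ Γ) ⟨0, Γ.zero_mem⟩
      (fun x hx => ⟨f x, Submodule.subset_span ⟨x, hx, rfl⟩⟩) ?_ v
    rintro v w ⟨φ, hφ⟩ ⟨ψ, hψ⟩
    exact ⟨φ + ψ, Γ.add_mem hφ hψ⟩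
  have huniq : ∀ (v : V) (φ ψ : Du V), (v, φ) ∈ Γ → (v, ψ) ∈ Γ → φ = ψ := by
    intro v φ ψ hφ hψ
    refine LinearMap.ext fun w => ?_
    refine h.induct (p := fun w => φ w = ψ w) (by rw [map_zero, map_zero]) ?_ ?_ w
    · intro y hy
      have h1 := hΓ _ hφ y hy
      have h2 := hΓ _ hψ y hy
      exact h1.trans h2.symm
    · intro a b ha hb
      rw [map_add, map_add, ha, hb]
  choose g hg using hex
  refine ⟨{ toFun := g, map_add' := fun v w => ?_, map_smul' := fun c v => ?_ }, fun x hx => ?_⟩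
  · exact huniq (v + w) _ _ (hg _) (Γ.add_mem (hg v) (hg w))
  · exact huniq (c • v) _ _ (hg _) (Γ.smul_mem c (hg v))
  · exact huniq x _ _ (hg x) (Submodule.subset_span ⟨x, hx, rfl⟩)

section form

variable {β : V →ₗ[ZMod 2] Du V} (hs : ∀ x ∈ MulAction.orbit Y z, ∀ y ∈ MulAction.orbit Y z, f x y = f y x)
  (hβ : ∀ x ∈ MulAction.orbit Y z, β x = f x)
include hs hβ

theorem beta_symm (v w : V) : β v w = β w v := by
  refine h.induct (p := fun v => ∀ w : V, β v w = β w v) ?_ ?_ ?_ v w
  · intro w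
    rw [map_zero, map_zero]; rfl
  · intro x hx w
    refine h.induct (p := fun w => β x w = β w x) ?_ ?_ ?_ w
    · rw [map_zero, map_zero]; rfl
    · intro y hy
      rw [hβ x hx, hβ y hy, hs x hx y hy]
    · intro a b ha hb
      rw [map_add, map_add, LinearMap.add_apply, ha, hb]
  · intro a b ha hb w
    rw [map_add, map_add, LinearMap.add_apply, ha, hb]

omit hs in
theorem beta_inv (g : Y) (v w : V) : β (g • v) (g • w) = β v w := by
  refine h.induct (p := fun v => ∀ w : V, β (g • v) (g • w) = β v w) ?_ ?_ ?_ v w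
  · intro w
    rw [smul_zero, map_zero]; rfl
  · intro x hx w
    rw [hβ _ (smul_orbit hx g), h.f_smul g x hx, dua_apply, inv_smul_smul, hβ x hx]
  · intro a b ha hb w
    rw [smul_add, map_add, map_add, LinearMap.add_apply, LinearMap.add_apply, ha, hb]

theorem beta_alt (v : V) : β v v = 0 := by
  refine h.induct (p := fun v => β v v = 0) ?_ ?_ ?_ v
  · rw [map_zero]
  · rintro _ ⟨g, rfl⟩
    change β (g • z) (g • z) = 0
    rw [h.beta_inv hβ, hβ z (MulAction.mem_orbit_self z), h.f_self]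
  · intro a b ha hb
    rw [map_add, map_add, LinearMap.add_apply, LinearMap.add_apply, ha, hb, h.beta_symm hs hβ a b,
      zero_add, add_zero, add_self]

omit hs in
theorem beta_nondeg [Finite Y] [Finite V] (v : V) (hv : β v = 0) : v = 0 := by
  by_contra hne
  have hW : Inv Y (LinearMap.ker β) := by
    intro g w hw
    rw [LinearMap.mem_ker] at hw ⊢
    refine LinearMap.ext fun u => ?_
    have h1 := h.beta_inv hβ g w (g⁻¹ • u)
    rw [smul_inv_smul] at h1
    rw [h1, hw]
    rfl
  let := subAct hW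
  have h1 : (⟨v, hv⟩ : LinearMap.ker β) ≠ 0 := fun h2 => hne (congrArg Subtype.val h2)
  obtain ⟨w0, hw0, hT⟩ := exists_fixed (Q := T) T.isPGroup' h1
  have h2 : (w0 : V) ≠ 0 := fun h3 => hw0 (Subtype.ext h3)
  have h3 := (h.fixT (w0 : V) fun t ht => congrArg Subtype.val (hT ⟨t, ht⟩)).resolve_left h2
  have h4 : β (w0 : V) = 0 := w0.2
  rw [h3, hβ z (MulAction.mem_orbit_self z)] at h4
  exact h.f_ne h4

omit hs in
theorem beta_adj {g : Y} (hg : g * g = 1) (u w : V) : β (cm g u) w = β u (cm g w) := by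
  have h1 := h.beta_inv hβ g (g • u) w
  rw [smul_smul, hg, one_smul] at h1
  rw [cm, cm, map_add, map_add, LinearMap.add_apply, ← h1]

omit hs in
theorem beta_inj [Finite Y] [Finite V] {v w : V} (hv : β v = β w) : v = w := by
  refine eq_of_add (h.beta_nondeg hβ _ ?_)
  rw [map_add, hv]
  exact add_self _

omit hs in
/-- **(c)**: `[E, B] ≤ ⟨z⟩` -/
theorem cm_eq [Finite Y] [Finite V] {B : Subgroup Y} (hB : B ∈ BB z) {b : Y} (hb : b ∈ B) {e : V}
    (he : f z e = 0) : cm b e = 0 ∨ cm b e = z := by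
  have hN := h.bb B hB
  have h1 : ∀ e' : V, f z e' = 0 → β (cm b e) e' = 0 := by
    intro e' he'
    obtain ⟨v, hv⟩ := exists_one h.f_ne
    obtain ⟨b', hb', hd⟩ := hN.surj v e' hv he'
    have h2 : e' = cm b' v + (cm b' v + e') := by
      rw [← add_assoc, add_self, zero_add]
    rw [h2, map_add, ← h.beta_adj hβ (hN.sq b' hb'), cm_eq_zero.2 (hN.ed e he b hb b' hb'), map_zero,
      h.beta_adj hβ (hN.sq b hb), cm_eq_zero.2 (hd b hb), map_zero, LinearMap.zero_apply, add_zero]
  rcases eq_of_hyper h1 with h2 | h2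
  · exact Or.inl (h.beta_nondeg hβ _ h2)
  · right
    rw [← hβ z (MulAction.mem_orbit_self z)] at h2
    exact h.beta_inj hβ h2

omit hs in
/-- **(c)**: `B ≤ R_z` -/
theorem le_KK [Finite Y] [Finite V] {B : Subgroup Y} (hB : B ∈ BB z) : B ≤ KK Y z (f z) := by
  intro b hb
  rw [mem_KK_iff]
  exact ⟨h.q_fix b (h.bb_le B hB hb), (h.bb B hB).inv b hb, fun e he => h.cm_eq hβ hB hb he⟩

end form

/-- `|B| ≥ 4` -/
theorem four_le [Finite Y] [Finite V] {B : Subgroup Y} (hB : B ∈ BB z) : 4 ≤ Nat.card B := by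
  classical
  have hN := h.bb B hB
  obtain ⟨b, hb, hb1⟩ : ∃ b ∈ B, b ≠ 1 := by
    by_contra hc
    push Not at hc
    exact hN.ne ((eq_bot_iff_forall B).2 hc)
  obtain ⟨e, he, hbe⟩ : ∃ e : V, f z e = 0 ∧ cm b e ≠ 0 := by
    by_contra hc
    push Not at hc
    exact hb1 (eq_one_of_hyper h.faith h.nt (φ := f z) hc)
  obtain ⟨v, hv⟩ := exists_one h.f_ne
  obtain ⟨a, ha, hd⟩ := hN.surj v e hv he
  have h2 : cm b (cm a v) ≠ 0 := by
    intro h0
    apply hbe
    have h3 : e = cm a v + (cm a v + e) := by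
      rw [← add_assoc, add_self, zero_add]
    rw [h3, cm_add, h0, cm_eq_zero.2 (hd b hb), add_zero]
  have ha1 : a ≠ 1 := by
    rintro rfl
    exact h2 (by rw [cm_one, cm_zero])
  have hab : a ≠ b := by
    rintro rfl
    exact h2 (cm_eq_zero.2 (hN.smul_cm_self ha v))
  have hab' : a * b ≠ 1 := by
    intro h0
    apply hab
    rw [eq_inv_of_mul_eq_one_left h0, inv_eq_of_mul_eq_one_left (hN.sq b hb)]
  have hf : Function.Injective (![⟨1, one_mem B⟩, ⟨a, ha⟩, ⟨b, hb⟩, ⟨a * b, mul_mem ha hb⟩] : Fin 4 → B) := by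
    intro i j hij
    have hij' := congrArg Subtype.val hij
    fin_cases i <;> fin_cases j <;> simp at hij' ⊢
    all_goals first
      | exact absurd hij'.symm ha1
      | exact absurd hij' ha1
      | exact absurd hij'.symm hb1
      | exact absurd hij' hb1
      | exact absurd hij' hab
      | exact absurd hij'.symm hab
      | exact absurd hij' hab'
      | exact absurd hij'.symm hab'
  have h5 := Nat.card_le_card_of_injective _ hf
  rwa [Nat.card_fin] at h5

/-- **`f` symmetric ⟹ the symplectic datum `Sp`** (hypotheses of BT4). -/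
theorem exists_sp [Finite Y] [Finite V]
    (hs : ∀ x ∈ MulAction.orbit Y z, ∀ y ∈ MulAction.orbit Y z, f x y = f y x) :
    ∃ β : V →ₗ[ZMod 2] Du V, Sp T M z β ∧ ∀ x ∈ MulAction.orbit Y z, β x = f x := by
  obtain ⟨β, hβ⟩ := h.exists_lin hs
  have hz := MulAction.mem_orbit_self (M := Y) z
  obtain ⟨B, hB⟩ := h.bb_ne
  refine ⟨β, ⟨h.faith, h.le, h.ne, h.max, h.z_ne, h.z_fix, h.fixT, h.span, h.noff, h.beta_symm hs hβ,
    h.beta_alt hs hβ, h.beta_nondeg hβ, h.beta_inv hβ, ?_, ?_⟩, hβ⟩
  · rintro _ ⟨g, rfl⟩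
    have h1 : β (g • z) = dua g (β z) := by
      rw [hβ _ (smul_orbit hz g), h.f_smul g z hz, hβ z hz]
    change 4 ≤ Nat.card (KK Y (g • z) (β (g • z)))
    rw [h1, card_KK_conj, hβ z hz]
    exact (h.four_le hB).trans (Nat.card_le_card_of_injective _ (inclusion_injective (h.le_KK hβ hB)))
  · have key : ∀ y ∈ MulAction.orbit Y z, Fx (KK Y z (β z)) y → y = z := by
      intro y hy hfx
      have h1 : Fx B y := fun b hb => hfx b (by rw [hβ z hz]; exact h.le_KK hβ hB hb)
      have h2 := h.star B hB y hy h1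
      rw [← hβ y hy, ← hβ z hz] at h2
      exact h.beta_inj hβ h2
    rintro _ ⟨g, rfl⟩ y hy hfx
    change y = g • z
    have h1 : β (g • z) = dua g (β z) := by
      rw [hβ _ (smul_orbit hz g), h.f_smul g z hz, hβ z hz]
    have h2 : g⁻¹ • y = z := by
      refine key _ (smul_orbit hy g⁻¹) fun b hb => ?_
      have h3 : g * b * g⁻¹ ∈ KK Y (g • z) (β (g • z)) := by
        rw [h1]
        exact conj_mem_KK hb g
      have h4 := hfx _ h3
      rw [mul_smul, mul_smul] at h4
      rw [eq_inv_smul_iff.mpr h4]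
    rw [← h2, smul_inv_smul]

/-- `F₀(z) = ⟨z⟩` ⟹ `[V, R_z] + ⟨z⟩ = E`: the hypotheses of BT2 -/
theorem hyp [Finite Y] [Finite V] (hF : ∀ v : V, (∀ B ∈ BB z, Fx B v) → v = 0 ∨ v = z) :
    Hyp Y V T M z (f z) (KK Y z (f z)) := by
  have hnt := h.nt
  have hz := MulAction.mem_orbit_self (M := Y) z
  have hs := fun x hx y hy => h.symm_of hF (x := x) (y := y) hx hy
  obtain ⟨β, hβ⟩ := h.exists_lin hs
  obtain ⟨v, hv⟩ := exists_one h.f_ne
  refine ⟨h.faith, h.le, h.ne, h.max, h.z_ne, h.z_fix, h.fixT, h.span, h.f_ne, h.f_self,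
    fun g hg => h.f_fix hz hg, fun a ha b hb => KK_comm h.faith hnt ha hb, fun b hb => KK_sq h.faith hnt hb,
    fun b hb => hb.2.1, fun b hb => hb.2.2, ?_, hnt, ?_⟩
  · -- the subspace `[v, R_z] + ⟨z⟩`
    let W : Submodule (ZMod 2) V :=
      { carrier := {w | ∃ a ∈ KK Y z (f z), w = cm a v ∨ w = cm a v + z}
        zero_mem' := ⟨1, one_mem _, Or.inl (cm_one v).symm⟩
        add_mem' := by
          rintro w w' ⟨a, ha, hw⟩ ⟨b, hb, hw'⟩
          have h1 : cm a (cm b v) = 0 ∨ cm a (cm b v) = z := by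
            refine (mem_KK_iff.1 ha).2.2 _ ?_
            rw [cm, map_add, hb.2.1, add_self]
          have h2 := cm_mul a b v
          refine ⟨a * b, mul_mem ha hb, ?_⟩
          rw [h2]
          have h3 : z + z = 0 := add_self z
          rcases h1 with h1 | h1 <;> rcases hw with rfl | rfl <;> rcases hw' with rfl | rfl <;>
            rw [h1]
          · left; abel
          · right; abel
          · right; abel
          · left
            have : cm a v + z + (cm b v + z) = cm a v + cm b v + (z + z) := by abel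
            rw [this, h3]
          · right
            have : cm a v + cm b v + z + z = cm a v + cm b v + (z + z) := by abel
            rw [this, h3, add_zero]
          · left; abel
          · left; abel
          · right
            have : cm a v + z + (cm b v + z) = cm a v + cm b v + z + z := by abel
            rw [this]
        smul_mem' := by
          rintro c w ⟨a, ha, hw⟩
          rcases zmod_cases c with hc | hc
          · exact ⟨1, one_mem _, Or.inl (by rw [hc, zero_smul, cm_one])⟩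
          · exact ⟨a, ha, by rw [hc, one_smul]; exact hw⟩ }
    have hWE : ∀ e : V, f z e = 0 → e ∈ W := by
      intro e he
      by_contra hcon
      obtain ⟨ψ, hψ, hψW⟩ := Submodule.exists_le_ker_of_notMem hcon
      obtain ⟨u, rfl⟩ : ∃ u, β u = ψ := by
        have h1 : Function.Injective β := fun a b hab => h.beta_inj hβ hab
        have h2 : Function.Surjective β :=
          (LinearMap.injective_iff_surjective_of_finrank_eq_finrank
            (Subspace.dual_finrank_eq (K := ZMod 2) (V := V)).symm).1 h1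
        exact h2 ψ
      have hperp : ∀ w ∈ W, β u w = 0 := fun w hw => hψW hw
      have hzW : β u z = 0 := hperp z ⟨1, one_mem _, Or.inr (by rw [cm_one, zero_add])⟩
      have huE : f z u = 0 := by
        rw [← hβ z hz, h.beta_symm hs hβ]
        exact hzW
      have h1 : u = 0 ∨ u = z := by
        refine hF u fun B hB b hb => ?_
        have hbK := h.le_KK hβ hB hb
        have h2 : β (cm b u) v = 0 := by
          rw [h.beta_adj hβ ((h.bb B hB).sq b hb)]
          exact hperp _ ⟨b, hbK, Or.inl rfl⟩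
        rcases h.cm_eq hβ hB hb huE with h3 | h3
        · exact cm_eq_zero.1 h3
        · rw [h3, hβ z hz, hv] at h2
          exact absurd h2 one_ne
      rcases h1 with rfl | rfl
      · exact hψ (by rw [map_zero]; rfl)
      · exact hψ (by rw [hβ u hz]; exact he)
    let F : KK Y z (f z) × ZMod 2 → {u : V // f z u = 0} := fun p =>
      ⟨cm (p.1 : Y) v + p.2 • z, by
        rw [map_add, map_smul, h.f_self, smul_zero, add_zero, cm, map_add, p.1.2.2.1, add_self]⟩
    have hF1 : Function.Injective F := by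
      rintro ⟨⟨a, ha⟩, c⟩ ⟨⟨b, hb⟩, d⟩ hab
      have h1 : cm a v + c • z = cm b v + d • z := congrArg Subtype.val hab
      have h2 : cm (a * b) v + cm a (cm b v) = (c + d) • z := by
        have h3 : cm a v = cm b v + d • z + c • z := by
          rw [← h1, add_add_self]
        rw [cm_mul, add_add_self, h3, add_smul]
        have h4 : cm b v + d • z + c • z + cm b v = c • z + d • z + (cm b v + cm b v) := by abel
        rw [h4, add_self, add_zero]
      have hz2 : ∀ c : ZMod 2, c • z = 0 ∨ c • z = z := by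
        intro c
        rcases zmod_cases c with hc | hc
        · left; rw [hc, zero_smul]
        · right; rw [hc, one_smul]
      have hbE : f z (cm b v) = 0 := by rw [cm, map_add, hb.2.1, add_self]
      have habK : a * b ∈ KK Y z (f z) := mul_mem ha hb
      have h3 : cm (a * b) v = 0 ∨ cm (a * b) v = z := by
        have h4 : cm (a * b) v = (c + d) • z + cm a (cm b v) := by
          rw [← h2, add_add_self]
        rw [h4]
        rcases hz2 (c + d) with h5 | h5 <;> rcases (mem_KK_iff.1 ha).2.2 _ hbE with h6 | h6 <;>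
          rw [h5, h6]
        · left; rw [add_zero]
        · right; rw [zero_add]
        · right; rw [add_zero]
        · left; exact add_self z
      have h4 : a * b = 1 := by
        refine eq_one_of h.faith hnt h.z_ne fun u => ?_
        rcases zmod_cases (f z u) with h5 | h5
        · exact habK.2.2 u h5
        · have h6 : f z (u + v) = 0 := by rw [map_add, h5, hv, one_add_one]
          have h7 : cm (a * b) u = cm (a * b) (u + v) + cm (a * b) v := by
            rw [cm_add, add_add_self]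
          have h8 : cm (a * b) u = 0 ∨ cm (a * b) u = z := by
            rw [h7]
            rcases (mem_KK_iff.1 habK).2.2 _ h6 with h9 | h9 <;> rcases h3 with h10 | h10 <;>
              rw [h9, h10]
            · left; rw [add_zero]
            · right; rw [zero_add]
            · right; rw [add_zero]
            · left; exact add_self z
          rcases h8 with h9 | h9
          · left; exact cm_eq_zero.1 h9
          · right; rw [smul_eq_add_cm, h9]
      have h5 : a = b := by
        rw [eq_inv_of_mul_eq_one_left h4, inv_eq_of_mul_eq_one_left (KK_sq h.faith hnt hb)]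
      subst h5
      have h6 : c • z = d • z := add_left_cancel h1
      have h7 : c = d := by
        by_contra hcd
        have h8 : (c - d) • z = 0 := by rw [sub_smul, h6, sub_self]
        rw [eq_one_of_ne (sub_ne_zero.2 hcd), one_smul] at h8
        exact h.z_ne h8
      subst h7
      rfl
    have hF2 : Function.Surjective F := by
      rintro ⟨e, he⟩
      obtain ⟨a, ha, hw | hw⟩ := hWE e he
      · refine ⟨⟨⟨a, ha⟩, 0⟩, Subtype.ext ?_⟩
        change cm a v + (0 : ZMod 2) • z = e
        rw [zero_smul, add_zero, hw]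
      · refine ⟨⟨⟨a, ha⟩, 1⟩, Subtype.ext ?_⟩
        change cm a v + (1 : ZMod 2) • z = e
        rw [one_smul, hw]
    have h1 := Nat.card_congr (Equiv.ofBijective F ⟨hF1, hF2⟩)
    rw [Nat.card_prod, Nat.card_zmod] at h1
    have h2 := card_ker h.f_ne
    omega
  · intro A hA hsq hcard
    have h1 := h.noff A (fun h0 => by rw [h0, card_bot] at hA; omega) (fun a ha b hb => by
      have h1 := hsq _ (mul_mem ha hb)
      rw [eq_inv_of_mul_eq_one_left h1, mul_inv_rev, inv_eq_of_mul_eq_one_left (hsq a ha),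
        inv_eq_of_mul_eq_one_left (hsq b hb)]) hsq
    rw [hA, hcard] at h1
    exact lt_irrefl _ h1

/-- **`F₀(z) = ⟨z⟩` ⟹ the five points** -/
theorem five [Finite Y] [Finite V] (hF : ∀ v : V, (∀ B ∈ BB z, Fx B v) → v = 0 ∨ v = z) :
    ∃ w : Fin 5 → V, FivePts Y z w := (h.hyp hF).main

end Dat

end Cfsg.Agent.Omega.NearFF
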