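import Cfsg.Agent.Omega.NearFF.Good

/-!
# (BT), `|V/E| = 2`: (UP) of #14096 (helper620) and #15976 (0) (helper897) (project OMEGA, leaf N1)

* `Dat.stab_le` : `C_Y(f_z) ≤ M`;
* `Dat.fix_f` : `B ∈ BB z` fixes exactly one member of `f^Y`;
* `Dat.up` : `B ∈ BB z` lies in exactly one conjugate of `M`;
* `Dat.exists_pt` : a 2-group fixing `f_x` fixes some `y ∈ Ω` with `f_y = f_x`;
* `Dat.arrow` : `C_B(f_y) ≠ 1 ⟺` some `y' ∈ Ω ∩ E_z` has `f_{y'} = f_y`.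
-/

set_option autoImplicit false
set_option linter.unusedSectionVars false

namespace Cfsg.Agent.Omega.NearFF

open Subgroup Cfsg.Agent.Omega.Transv

variable {Y : Type*} [Group Y] {V : Type*} [AddCommGroup V] [Module (ZMod 2) V] [DistribMulAction Y V]

theorem dua_one (φ : Du V) : dua (1 : Y) φ = φ := by
  ext v
  rw [dua_apply, inv_one, one_smul]

theorem dua_mul (g k : Y) (φ : Du V) : dua (g * k) φ = dua g (dua k φ) := by
  ext v
  rw [dua_apply, dua_apply, dua_apply, mul_inv_rev, mul_smul]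

/-- the stabiliser of a form -/
def stabF (Y : Type*) {V : Type*} [Group Y] [AddCommGroup V] [Module (ZMod 2) V] [DistribMulAction Y V]
    (φ : Du V) : Subgroup Y where
  carrier := {g | dua g φ = φ}
  one_mem' := dua_one φ
  mul_mem' := by
    rintro a b ha hb
    change dua (a * b) φ = φ
    rw [dua_mul, hb, ha]
  inv_mem' := by
    rintro a ha
    change dua a⁻¹ φ = φ
    conv_lhs => rw [← (show dua a φ = φ from ha), dua_inv]

theorem mem_stabF {φ : Du V} {g : Y} : g ∈ stabF Y φ ↔ dua g φ = φ := Iff.rfl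

theorem stabF_apply {φ : Du V} {g : Y} (hg : g ∈ stabF Y φ) (v : V) : φ (g • v) = φ v := by
  have h1 : dua g φ (g • v) = φ (g • v) := by rw [mem_stabF.1 hg]
  rw [dua_apply, inv_smul_smul] at h1
  exact h1.symm

namespace Dat

variable {T : Sylow 2 Y} {M : Subgroup Y} {z : V} {f : V → Du V} {Q : V → Subgroup Y}
  {BB : V → Set (Subgroup Y)} (h : Dat T M z f Q BB)
include h

theorem f_orbit (g : Y) : f (g • z) = dua g (f z) := h.f_smul g z (MulAction.mem_orbit_self z)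

theorem T_le_stab : (T : Subgroup Y) ≤ stabF Y (f z) := by
  intro t ht
  rw [mem_stabF, ← h.f_orbit, h.z_fix t ht]

/-- `C_Y(f_z) ≤ M` -/
theorem stab_le : stabF Y (f z) ≤ M := by
  refine (h.max _ h.T_le_stab).resolve_right fun htop => ?_
  apply h.f_ne
  refine LinearMap.ext fun v => ?_
  refine h.induct (p := fun v => f z v = 0) (map_zero _) ?_ ?_ v
  · rintro _ ⟨g, rfl⟩
    change f z (g • z) = 0
    rw [stabF_apply (htop ▸ mem_top g), h.f_self]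
  · intro a b ha hb
    rw [map_add, ha, hb, add_zero]

/-- a 2-group inside a subgroup over `T` is conjugate there into `T` -/
theorem exists_conj [Finite Y] {K : Subgroup Y} (hK : (T : Subgroup Y) ≤ K) {R : Subgroup Y}
    (hR : IsPGroup 2 R) (hRK : R ≤ K) : ∃ k ∈ K, ∀ r ∈ R, k⁻¹ * r * k ∈ T := by
  have : Fact (Nat.Prime 2) := ⟨Nat.prime_two⟩
  let TK : Sylow 2 K := T.subtype hK
  have hRK' : IsPGroup 2 (R.subgroupOf K) := hR.comap_of_injective K.subtype Subtype.coe_injective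
  obtain ⟨P, hP⟩ := hRK'.exists_le_sylow
  obtain ⟨k, hk⟩ := MulAction.exists_smul_eq K TK P
  refine ⟨k, k.2, fun r hr => ?_⟩
  have h1 : (⟨r, hRK hr⟩ : K) ∈ (P : Subgroup K) := hP hr
  rw [← hk, Sylow.coe_subgroup_smul, Subgroup.mem_pointwise_smul_iff_inv_smul_mem] at h1
  have h2 : ((k⁻¹ * ⟨r, hRK hr⟩ * k : K)) ∈ (TK : Subgroup K) := by
    have h3 : (MulAut.conj k)⁻¹ • (⟨r, hRK hr⟩ : K) = k⁻¹ * ⟨r, hRK hr⟩ * k := by
      rw [← map_inv, MulAut.smul_def, MulAut.conj_apply, inv_inv]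
    rwa [h3] at h1
  exact h2

/-- a 2-group fixing `f (g • z)` fixes some `y ∈ Ω` with `f y = f (g • z)` -/
theorem exists_pt [Finite Y] {R : Subgroup Y} (hR : IsPGroup 2 R) {g : Y}
    (hf : R ≤ stabF Y (f (g • z))) : ∃ k ∈ stabF Y (f (g • z)), Fx R ((k * g) • z) ∧
      f ((k * g) • z) = f (g • z) := by
  let R' : Subgroup Y := R.map (MulAut.conj g⁻¹).toMonoidHom
  have hR' : IsPGroup 2 R' := hR.map _
  have hle : R' ≤ stabF Y (f z) := by
    rintro _ ⟨r, hr, rfl⟩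
    change dua (g⁻¹ * r * g⁻¹⁻¹) (f z) = f z
    rw [inv_inv, dua_mul, dua_mul, ← h.f_orbit, mem_stabF.1 (hf hr), h.f_orbit, dua_inv]
  obtain ⟨k, hk, hkT⟩ := h.exists_conj h.T_le_stab hR' hle
  have hk2 : g * k * g⁻¹ ∈ stabF Y (f (g • z)) := by
    rw [mem_stabF, dua_mul, dua_mul, h.f_orbit, dua_inv, mem_stabF.1 hk]
  refine ⟨g * k * g⁻¹, hk2, fun r hr => ?_, ?_⟩
  · rw [inv_mul_cancel_right]
    have h1 := h.z_fix _ (hkT _ ⟨r, hr, rfl⟩)
    change (k⁻¹ * (g⁻¹ * r * g⁻¹⁻¹) * k) • z = z at h1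
    rw [inv_inv, mul_smul, mul_smul, inv_smul_eq_iff, mul_smul, mul_smul, inv_smul_eq_iff] at h1
    rw [mul_smul]
    exact h1
  · rw [inv_mul_cancel_right, h.f_orbit, dua_mul, mem_stabF.1 hk, ← h.f_orbit]

theorem B_two {B : Subgroup Y} (hB : B ∈ BB z) : IsPGroup 2 B := h.q_two.to_le (h.bb_le B hB)

/-- **(UP)** `B ∈ BB z` fixes exactly one member of `f^Y` -/
theorem fix_f [Finite Y] {B : Subgroup Y} (hB : B ∈ BB z) {g : Y} (hf : B ≤ stabF Y (f (g • z))) :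
    f (g • z) = f z := by
  obtain ⟨k, -, h1, h2⟩ := h.exists_pt (h.B_two hB) hf
  rw [← h2]
  exact h.star B hB _ ⟨k * g, rfl⟩ h1

/-- **(UP)** `B ∈ BB z` lies in exactly one conjugate of `M` -/
theorem up [Finite Y] {B : Subgroup Y} (hB : B ∈ BB z) {g : Y} (hg : ∀ b ∈ B, g⁻¹ * b * g ∈ M) : g ∈ M := by
  let R : Subgroup Y := B.map (MulAut.conj g⁻¹).toMonoidHom
  have hR : IsPGroup 2 R := (h.B_two hB).map _
  have hRM : R ≤ M := by
    rintro _ ⟨b, hb, rfl⟩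
    change g⁻¹ * b * g⁻¹⁻¹ ∈ M
    rw [inv_inv]
    exact hg b hb
  obtain ⟨k, hk, hkT⟩ := h.exists_conj h.le hR hRM
  have h1 : Fx B ((g * k) • z) := by
    intro b hb
    have h2 := h.z_fix _ (hkT _ ⟨b, hb, rfl⟩)
    change (k⁻¹ * (g⁻¹ * b * g⁻¹⁻¹) * k) • z = z at h2
    rw [inv_inv, mul_smul, mul_smul, inv_smul_eq_iff, mul_smul, mul_smul, inv_smul_eq_iff] at h2
    rw [mul_smul]
    exact h2
  have h2 := h.star B hB _ ⟨g * k, rfl⟩ h1
  rw [h.f_orbit] at h2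
  have h3 : g * k ∈ M := h.stab_le h2
  exact (mul_mem_cancel_right hk).1 h3

/-- the members of `BB` at `f^g` -/
theorem bb_fix [Finite Y] {B : Subgroup Y} {k : Y} (hB : B ∈ BB (k • z)) {g : Y}
    (hf : B ≤ stabF Y (f (g • z))) : f (g • z) = f (k • z) := by
  have h1 := h.bb_smul k⁻¹ _ (smul_orbit (MulAction.mem_orbit_self z) k) B hB
  rw [inv_smul_smul] at h1
  have h2 : B.map (MulAut.conj k⁻¹).toMonoidHom ≤ stabF Y (f ((k⁻¹ * g) • z)) := by
    rintro _ ⟨b, hb, rfl⟩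
    change dua (k⁻¹ * b * k⁻¹⁻¹) (f ((k⁻¹ * g) • z)) = f ((k⁻¹ * g) • z)
    rw [h.f_orbit, dua_mul k⁻¹ g, dua_mul, dua_mul, dua_inv, ← h.f_orbit, mem_stabF.1 (hf hb)]
  have h3 := h.fix_f h1 h2
  rw [h.f_orbit, dua_mul, ← h.f_orbit g] at h3
  have h4 : dua k (dua k⁻¹ (f (g • z))) = dua k (f z) := by rw [h3]
  rw [← dua_mul, mul_inv_cancel, dua_one] at h4
  rw [h4, h.f_orbit k]

/-- `C_Y(f_y) ∩ B ≠ 1` for `y ∈ E_z` -/
theorem exists_by [Finite Y] {B : Subgroup Y} (hB : B ∈ BB z) {y : V} (hzy : f z y = 0) :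
    ∃ b ∈ B, b ≠ 1 ∧ b • y = y := by
  have hN := h.bb B hB
  by_cases hy : Fx B y
  · have hne : ∃ b ∈ B, b ≠ 1 := by
      by_contra hc
      push Not at hc
      exact hN.ne ((eq_bot_iff_forall B).2 hc)
    obtain ⟨b, hb, hb1⟩ := hne
    exact ⟨b, hb, hb1, hy b hb⟩
  · obtain ⟨b, hb, hby, v, d, -, hd, h1⟩ := hN.exists_b h.f_ne hzy
    refine ⟨b, hb, ?_, hby⟩
    rintro rfl
    apply hy
    rw [h1, cm_one, zero_add]
    exact hd

/-- **(0)** of #15976 : `C_B(f_y) ≠ 1 ⟺` some `y' ∈ Ω ∩ E_z` has `f_{y'} = f_y` -/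
theorem arrow [Finite Y] {B : Subgroup Y} (hB : B ∈ BB z) (g : Y) :
    (∃ b ∈ B, b ≠ 1 ∧ b ∈ stabF Y (f (g • z))) ↔
      ∃ y ∈ MulAction.orbit Y z, f y = f (g • z) ∧ f z y = 0 := by
  constructor
  · rintro ⟨b, hb, hb1, hbf⟩
    have hN := h.bb B hB
    have h2 : IsPGroup 2 (zpowers b) := (h.B_two hB).to_le (zpowers_le.2 hb)
    obtain ⟨k, -, h3, h4⟩ := h.exists_pt h2 (g := g) (zpowers_le.2 hbf)
    exact ⟨_, ⟨k * g, rfl⟩, h4, hN.fix hb hb1 (h3 b (mem_zpowers b))⟩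
  · rintro ⟨y, ⟨k, rfl⟩, hy, hzy⟩
    obtain ⟨b, hb, hb1, hby⟩ := h.exists_by hB hzy
    refine ⟨b, hb, hb1, ?_⟩
    rw [← hy, mem_stabF]
    change dua b (f (k • z)) = f (k • z)
    rw [← h.f_smul b _ ⟨k, rfl⟩]
    exact congrArg f hby

end Dat

end Cfsg.Agent.Omega.NearFF
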